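import Cfsg.Agent.H19.GWSep

/-! Gorenstein-Walter: block theory. The results `GW.Hyp.ct1`, `upper`, `lower`, `GW.Min.se` are in
`H19/GWC1`, `GW.Hyp.sep` is in `H19/GWSep`. -/
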