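import Cfsg.Agent.H9.Basic

/-! Fixed points of a Frobenius complement on a module without kernel-fixed vectors. -/

set_option autoImplicit false

namespace H19.Fr

open Module Subgroup TensorProduct

universe u
variable {A : Type*} [Group A] {K : Type*} [Field K]

noncomputable abbrev Fx {V : Type*} [AddCommGroup V] [Module K V] (ρ : Representation K A V) (S : Subgroup A) :
    Submodule K V := Representation.invariants (ρ.comp S.subtype)

theorem mem_Fx {V : Type*} [AddCommGroup V] [Module K V] {ρ : Representation K A V}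
    {S : Subgroup A} {v : V} : v ∈ Fx ρ S ↔ ∀ s ∈ S, ρ s v = v :=
  ⟨fun h s hs => h ⟨s, hs⟩, fun h s => h s.1 s.2⟩

theorem rho_mul {V : Type*} [AddCommGroup V] [Module K V] (ρ : Representation K A V) (a b : A)
    (v : V) : ρ a (ρ b v) = ρ (a * b) v := by rw [map_mul]; rfl

theorem free_part {V : Type*} [AddCommGroup V] [Module K V] [FiniteDimensional K V]
    (ρ : Representation K A V) (H : Subgroup A) [Finite H] (W : Submodule K V)
    (hi : iSupIndep fun h : H => W.map (ρ h)) :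
    Nat.card H * finrank K ((⨆ h : H, W.map (ρ h)) ⊓ Fx ρ H : Submodule K V) =
      finrank K (⨆ h : H, W.map (ρ h) : Submodule K V) := by
  classical
  have := Fintype.ofFinite H
  let Φ : (H → W) →ₗ[K] V := ∑ h : H, ρ h ∘ₗ W.subtype ∘ₗ LinearMap.proj h
  have hΦ : ∀ w, Φ w = ∑ h : H, ρ h (w h) := fun w => by simp [Φ]
  have h1 : Function.Injective Φ := by
    rw [injective_iff_map_eq_zero]
    intro w hw
    funext h
    have := (iSupIndep_iff_finsetSum_eq_zero_imp_eq_zero _).1 hi Finset.univ (fun h => ρ h (w h))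
      (fun h _ => ⟨_, (w h).2, rfl⟩) (hΦ w ▸ hw) h (Finset.mem_univ h)
    have h2 := congrArg (ρ (h⁻¹ : A)) this
    rw [rho_mul] at h2
    simpa using h2
  have h2 : LinearMap.range Φ = ⨆ h : H, W.map (ρ h) := by
    refine le_antisymm ?_ (iSup_le fun h => ?_)
    · rintro _ ⟨w, rfl⟩
      rw [hΦ]
      exact Submodule.sum_mem _ fun h _ => Submodule.mem_iSup_of_mem h ⟨_, (w h).2, rfl⟩
    · rintro _ ⟨w, hw, rfl⟩
      refine ⟨Pi.single h ⟨w, hw⟩, ?_⟩
      rw [hΦ, Finset.sum_eq_single h (fun b _ hb => by simp [hb]) (by simp), Pi.single_eq_same]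
  have h3 : ∀ (g : H) w, ρ g (Φ w) = Φ fun h => w (g⁻¹ * h) := fun g w => by
    rw [hΦ, hΦ, map_sum]
    exact Fintype.sum_equiv (Equiv.mulLeft g) _ _ fun h => by simp [rho_mul, -map_mul]
  let c : W →ₗ[K] V := Φ ∘ₗ LinearMap.pi fun _ => LinearMap.id
  have h4 : LinearMap.range c = LinearMap.range Φ ⊓ Fx ρ H := by
    refine le_antisymm ?_ ?_
    · rintro _ ⟨w, rfl⟩
      exact ⟨⟨_, rfl⟩, fun g => h3 g _⟩
    · rintro _ ⟨⟨w, rfl⟩, hw⟩
      refine ⟨w 1, congrArg Φ (funext fun h => ?_)⟩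
      simpa using congrFun (h1 ((h3 h w).symm.trans (hw h))) h
  rw [← h2, ← h4, LinearMap.finrank_range_of_inj h1, LinearMap.finrank_range_of_inj (f := c)
    fun a b h => congrFun (h1 h) 1, Module.finrank_pi_fintype, Finset.sum_const,
    Finset.card_univ, Nat.card_eq_fintype_card, smul_eq_mul]

theorem add_part {V : Type*} [AddCommGroup V] [Module K V] [FiniteDimensional K V]
    (ρ : Representation K A V) (H : Subgroup A) {a b : Submodule K V} (h : IsCompl a b)
    (ha : ∀ g, a ≤ a.comap (ρ g)) (hb : ∀ g, b ≤ b.comap (ρ g)) :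
    finrank K (Fx ρ H) = finrank K (a ⊓ Fx ρ H : Submodule K V) +
      finrank K (Fx (ρ.subrepresentation b hb) H) := by
  have h1 : (Fx (ρ.subrepresentation b hb) H).map b.subtype = b ⊓ Fx ρ H := by
    ext v
    exact ⟨fun ⟨w, hw, e⟩ => e ▸ ⟨w.2, fun g => congrArg Subtype.val (hw g)⟩,
      fun ⟨h1, h2⟩ => ⟨⟨v, h1⟩, fun g => Subtype.ext (h2 g), rfl⟩⟩
  have h2 : a ⊓ Fx ρ H ⊔ b ⊓ Fx ρ H = Fx ρ H := by
    refine le_antisymm (sup_le inf_le_right inf_le_right) fun v hv => ?_
    obtain ⟨x, hx, y, hy, rfl⟩ := Submodule.mem_sup.1 (h.sup_eq_top.ge (Submodule.mem_top (x := v)))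
    have k : ∀ g : H, ρ g x - x = 0 ∧ ρ g y - y = 0 := fun g => by
      have e : ρ g x - x = -(ρ g y - y) := by
        have : ρ g (x + y) = x + y := hv g
        rw [map_add] at this
        rw [neg_sub, sub_eq_sub_iff_add_eq_add, this, add_comm]
      have : ρ g x - x = 0 := (Submodule.disjoint_def.1 h.disjoint) _ (a.sub_mem (ha g hx) hx)
        (e ▸ b.neg_mem (b.sub_mem (hb g hy) hy))
      exact ⟨this, neg_eq_zero.1 (e.symm.trans this)⟩
    exact Submodule.add_mem_sup ⟨hx, fun g => sub_eq_zero.1 (k g).1⟩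
      ⟨hy, fun g => sub_eq_zero.1 (k g).2⟩
  have := Submodule.finrank_sup_add_finrank_inf_eq (a ⊓ Fx ρ H) (b ⊓ Fx ρ H)
  rw [h2, (h.disjoint.mono inf_le_left inf_le_left).eq_bot, finrank_bot, add_zero] at this
  rw [this, ← h1, Submodule.finrank_map_subtype_eq]

variable [Finite A] {F N H : Subgroup A} [F.Normal] [hN : N.Normal]

theorem closed [IsAlgClosed K] (hF : Group.IsNilpotent F) (hNF : N ≤ F) (hc : (Nat.card N : K) ≠ 0)
    (hs : ∀ a : A, ∃ f ∈ F, ∃ h ∈ H, a = f * h)
    (hf : ∀ h ∈ H, h ≠ 1 → ∀ n ∈ N, h * n = n * h → n = 1) (n : ℕ) :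
    ∀ (U : Type u) [AddCommGroup U] [Module K U] [FiniteDimensional K U]
      (ρ : Representation K A U), finrank K U = n → Fx ρ N = ⊥ →
      Nat.card H * finrank K (Fx ρ H) = n := by
  induction n using Nat.strong_induction_on with | _ n ih => ?_
  intro U _ _ _ ρ hn h0
  classical
  rcases subsingleton_or_nontrivial U with hU | hU
  · rw [← hn, finrank_zero_of_subsingleton, finrank_zero_of_subsingleton, mul_zero]
  let Z : Subgroup A :=
    { carrier := {z | z ∈ N ∧ ∀ f ∈ F, ρ (z * f) = ρ (f * z)}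
      one_mem' := ⟨one_mem _, by simp⟩
      mul_mem' := fun {a b} ha hb => ⟨mul_mem ha.1 hb.1, fun f hf => by
        rw [mul_assoc, map_mul, hb.2 f hf, ← map_mul, ← mul_assoc, map_mul, ha.2 f hf, ← map_mul,
          mul_assoc]⟩
      inv_mem' := fun {a} ha => ⟨inv_mem ha.1, fun f hf => by
        have := congrArg (fun x => ρ a⁻¹ * x * ρ a⁻¹) (ha.2 f hf)
        simp only [← map_mul] at this
        simpa [mul_assoc] using this.symm⟩ }
  have zc : ∀ (a : A) (z : Z), a⁻¹ * z * a ∈ Z := fun a z => ⟨hN.conj_mem' _ z.2.1 a, fun f hf => by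
    have := congrArg (fun x => ρ a⁻¹ * x * ρ a) (z.2.2 _ (‹F.Normal›.conj_mem f hf a))
    simp only [← map_mul] at this
    simpa [mul_assoc] using this⟩
  let E : (Z → K) → Submodule K U := fun χ => ⨅ z : Z, End.maxGenEigenspace (ρ z) (χ z)
  have cm : ∀ x y : Z, Commute (ρ x) (ρ y) := fun x y => by
    rw [Commute, SemiconjBy, ← map_mul, ← map_mul]; exact x.2.2 _ (hNF y.2.1)
  have hE : ∀ χ u, u ∈ E χ ↔ ∀ z : Z, ρ z u = χ z • u := fun χ u => by
    refine (Submodule.mem_iInf _).trans (forall_congr' fun z => ?_)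
    rw [(End.isSemisimple_of_squarefree_aeval_eq_zero
      (Polynomial.X_pow_sub_one_separable_iff.2 hc).squarefree ?_).isFinitelySemisimple.maxGenEigenspace_eq_eigenspace,
      End.mem_eigenspace_iff]
    have : (z : A) ^ Nat.card N = 1 := congrArg Subtype.val (pow_card_eq_one' (x := (⟨z, z.2.1⟩ : N)))
    rw [map_sub, map_pow, Polynomial.aeval_X, ← map_pow, this, map_one, map_one, sub_self]
  have i1 : iSupIndep E := End.independent_iInf_maxGenEigenspace_of_forall_mapsTo _
    fun i j φ => End.mapsTo_maxGenEigenspace_of_comm (cm j i) φ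
  have i2 : ⨆ χ, E χ = ⊤ :=
    End.iSup_iInf_maxGenEigenspace_eq_top_of_iSup_maxGenEigenspace_eq_top_of_commute _
      (fun i j _ => cm i j) fun i => End.iSup_maxGenEigenspace_eq_top _
  obtain ⟨χ, u, hu, hu0, hχ⟩ : ∃ χ, ∃ u ∈ E χ, u ≠ 0 ∧ χ ≠ 1 := by
    by_contra hh
    push Not at hh
    have h1 : ∀ (z : Z) u, ρ z u = u := fun z u => by
      have : ⨆ χ, E χ ≤ E 1 := iSup_le fun χ u hu => by
        by_cases e : u = 0
        · exact e ▸ zero_mem _
        · exact hh χ u hu e ▸ hu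
      simpa using (hE 1 u).1 (this (i2.ge trivial)) z
    let π := ρ.asGroupHom.comp F.subtype
    have : Group.IsNilpotent π.range := Group.nilpotent_of_surjective _ π.rangeRestrict_surjective
    have := ((hN.subgroupOf F).map π.rangeRestrict π.rangeRestrict_surjective)
    obtain ⟨_, ⟨z, hz, rfl⟩, z1, z2⟩ := H9.exists_mem_center_ne_one
      (M := (N.subgroupOf F).map π.rangeRestrict) fun e => by
        obtain ⟨u, hu⟩ := exists_ne (0 : U)
        refine hu ((Submodule.mem_bot K).1 (h0 ▸ mem_Fx.2 fun s hs => ?_))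
        have := mem_bot.1 (e.le ⟨⟨s, hNF hs⟩, hs, rfl⟩)
        exact congrArg (fun x : π.range => x.1.1 u) this
    refine z1 (Subtype.ext (Units.ext (LinearMap.ext (h1 ⟨z, hz, fun f hf => ?_⟩))))
    rw [map_mul, map_mul]
    exact congrArg (fun x : π.range => x.1.1) (mem_center_iff.1 z2 (π.rangeRestrict ⟨f, hf⟩)).symm
  let ac : A → (Z → K) → Z → K := fun a μ z => μ ⟨_, zc a z⟩
  have e1 : ∀ a μ u, u ∈ E μ → ρ a u ∈ E (ac a μ) := fun a μ u hu => (hE _ _).2 fun z => by
    rw [← map_smul, ← (hE _ _).1 hu, rho_mul, rho_mul]; simp [mul_assoc]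
  have e2 : ∀ f ∈ F, ∀ μ u, u ∈ E μ → ρ f u ∈ E μ := fun f hf μ u hu => (hE _ _).2 fun z => by
    rw [← map_smul, ← (hE _ _).1 hu, rho_mul, rho_mul, z.2.2 f hf]
  have e3 : ∀ a b μ, ac a (ac b μ) = ac (a * b) μ := fun a b μ => funext fun z => by
    simp [ac, mul_assoc]
  have e4 : ∀ μ, ac 1 μ = μ := fun μ => funext fun z => by simp [ac]
  have e5 : ∀ a μ, (E μ).map (ρ a) = E (ac a μ) := fun a μ => le_antisymm
    (fun _ ⟨u, hu, e⟩ => e ▸ e1 a μ u hu) fun u hu => ⟨ρ a⁻¹ u, by
      simpa [e3, e4] using e1 a⁻¹ _ u hu, by simp [rho_mul, -map_mul]⟩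
  have e6 : Function.Injective fun h : H => ac h χ := fun g h (e : ac g χ = ac h χ) => by
    by_contra hne
    have e' : ac ((g : A)⁻¹ * h) χ = χ := by rw [← e3, ← e, e3, inv_mul_cancel, e4]
    generalize hx : (g : A)⁻¹ * h = x at e'
    have x1 : x ≠ 1 := fun e => hne (Subtype.ext (inv_mul_eq_one.1 (hx.trans e)))
    have x2 : x ∈ H := hx ▸ mul_mem (inv_mem g.2) h.2
    have : Function.Surjective fun z : Z => z⁻¹ * ⟨_, zc x z⟩ :=
      Finite.injective_iff_surjective.1 fun a b e => by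
        have e := congrArg Subtype.val e
        simp only [coe_mul, coe_inv] at e
        refine Subtype.ext (mul_inv_eq_one.1 (hf x x2 x1 _ (mul_mem a.2.1 (inv_mem b.2.1)) ?_))
        calc x * (a * (b : A)⁻¹) = a * ((a : A)⁻¹ * (x⁻¹ * a * x) * x⁻¹)⁻¹ * (b : A)⁻¹ := by group
          _ = _ := by rw [e]; group
    refine hχ (funext fun z => ?_)
    obtain ⟨y, rfl⟩ := this z
    refine smul_left_injective K hu0 ?_
    have k := (hE _ _).1 hu ⟨_, zc x y⟩
    rw [show χ ⟨_, zc x y⟩ = χ y from congrFun e' y, ← (hE _ _).1 hu] at k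
    simp only [← (hE _ _).1 hu, coe_mul, coe_inv, ← rho_mul ρ (y : A)⁻¹, k, Pi.one_apply, one_smul]
    simp [rho_mul, -map_mul]
  let O : Set (Z → K) := Set.range fun h : H => ac h χ
  have o1 : ∀ h ∈ H, ∀ μ, ac h μ ∈ O ↔ μ ∈ O := fun h hh μ =>
    ⟨fun ⟨g, e⟩ => ⟨⟨_, mul_mem (inv_mem hh) g.2⟩, by
      show ac _ χ = μ
      rw [← e3, show ac g χ = _ from e, e3, inv_mul_cancel, e4]⟩,
      fun ⟨g, e⟩ => ⟨⟨_, mul_mem hh g.2⟩, by show ac _ χ = _; rw [← e3, show ac g χ = _ from e]⟩⟩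
  have iv : ∀ T : Set (Z → K), (∀ h ∈ H, ∀ μ ∈ T, ac h μ ∈ T) → ∀ g,
      (⨆ μ ∈ T, E μ) ≤ (⨆ μ ∈ T, E μ).comap (ρ g) := fun T hT g => iSup₂_le fun μ hμ u hu => by
    obtain ⟨f, hf, h, hh, rfl⟩ := hs g
    rw [Submodule.mem_comap, ← rho_mul]
    exact le_biSup E (hT h hh μ hμ) (e2 f hf _ _ (e1 h μ u hu))
  have cp : IsCompl (⨆ μ ∈ O, E μ) (⨆ μ ∈ Oᶜ, E μ) :=
    ⟨i1.disjoint_biSup_biSup disjoint_compl_right, codisjoint_iff.2 (by
      rw [← iSup_union, Set.union_compl_self, iSup_univ, i2])⟩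
  have hb := iv Oᶜ fun h hh μ hμ e => hμ ((o1 h hh μ).1 e)
  have d1 := Submodule.finrank_add_eq_of_isCompl cp
  have d2 : 0 < finrank K (⨆ μ ∈ O, E μ : Submodule K U) := finrank_pos_iff_exists_ne_zero.2
    ⟨⟨u, le_biSup E (show χ ∈ O from ⟨1, e4 χ⟩) hu⟩, fun e => hu0 (congrArg Subtype.val e)⟩
  have d3 : (⨆ μ ∈ O, E μ) = ⨆ h : H, (E χ).map (ρ h) := by simp only [O, iSup_range, e5]
  rw [add_part ρ H cp (iv O fun h hh μ => (o1 h hh μ).2) hb, mul_add, ih _ (by omega) _ _ rfl
    (eq_bot_iff.2 fun v hv => Subtype.ext ((Submodule.mem_bot K).1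
      (h0.le fun g => congrArg Subtype.val (hv g)))), ← hn, ← d1, d3,
    free_part ρ H _ (by simp only [e5]; exact i1.comp e6)]

omit [Finite A] in
theorem fx_base {k V : Type*} [Field k] [Algebra k K] [AddCommGroup V] [Module k V]
    (ρ : Representation k A V) (S : Subgroup A) [Finite S] :
    finrank K (Fx ((End.baseChangeHom k K V).toMonoidHom.comp ρ) S) = finrank k (Fx ρ S) := by
  classical
  have := Fintype.ofFinite S
  let T : V →ₗ[k] S → V := LinearMap.pi fun s : S => ρ s - 1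
  have h1 : LinearMap.ker T = Fx ρ S := by
    ext v; simp [T, funext_iff, sub_eq_zero]
  have h2 : LinearMap.ker (AlgebraTensorModule.lTensor K K T) =
      Fx ((End.baseChangeHom k K V).toMonoidHom.comp ρ) S := by
    ext x
    have : ∀ s : S, piRight k K K (fun _ : S => V) (AlgebraTensorModule.lTensor K K T x) s =
        (ρ s).baseChange K x - x := fun s => by
      induction x with
      | zero => simp
      | tmul a v => simp [T, tmul_sub]
      | add x y hx hy => simp only [map_add, Pi.add_apply, hx, hy]; abel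
    rw [LinearMap.mem_ker, ← (piRight k K K fun _ : S => V).map_eq_zero_iff, funext_iff]
    simp only [this, Pi.zero_apply, sub_eq_zero]
    rfl
  rw [← h1, ← h2, ← (LinearMap.tensorKerEquiv K K T).finrank_eq, finrank_baseChange]

theorem count {k V : Type*} [Field k] [AddCommGroup V] [Module k V] [FiniteDimensional k V]
    (hF : Group.IsNilpotent F) (hNF : N ≤ F) (hc : (Nat.card N : k) ≠ 0)
    (hs : ∀ a : A, ∃ f ∈ F, ∃ h ∈ H, a = f * h)
    (hf : ∀ h ∈ H, h ≠ 1 → ∀ n ∈ N, h * n = n * h → n = 1) (ρ : Representation k A V)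
    (h0 : Fx ρ N = ⊥) : Nat.card H * finrank k (Fx ρ H) = finrank k V := by
  rw [← fx_base (K := AlgebraicClosure k), ← finrank_baseChange (R := AlgebraicClosure k) (M' := V)]
  refine closed hF hNF (fun e => hc ((algebraMap k (AlgebraicClosure k)).injective (by simpa using e)))
    hs hf _ _ _ rfl ?_
  rw [← Submodule.finrank_eq_zero, fx_base, h0, finrank_bot]

theorem gen_aux {k R V W S : Type*} [Field k] [Ring R] [Algebra k R] [AddCommGroup V] [Module k V]
    [Module R V] [IsScalarTower k R V] [FiniteDimensional k V] [AddCommGroup W] [Module R W]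
    [IsSemisimpleModule R W] [AddCommGroup S] [Module k S] [Module R S] [IsScalarTower k R S]
    [FiniteDimensional k S] {m : ℕ} (q : V →ₗ[R] W) (hq : Function.Surjective q)
    (φ : (Fin m → R) →ₗ[R] W) (k1 : ∀ ψ : (Fin m → R) →ₗ[R] S, LinearMap.ker φ ≤ LinearMap.ker ψ)
    (θ : W →ₗ[R] S) (h1 : θ ∘ₗ φ = 0) (h0 : θ ≠ 0) : m * finrank k S < finrank k (V →ₗ[R] S) := by
  classical
  have : FiniteDimensional k (V →ₗ[R] S) := Module.Finite.of_injective
    (LinearMap.restrictScalarsₗ k R V S k) (LinearMap.restrictScalars_injective k)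
  have hq : Function.Injective (LinearMap.lcomp k S q) := fun a b e =>
    (LinearMap.cancel_right hq).1 e
  have := Module.Finite.of_injective _ hq
  have hr : LinearMap.range (LinearMap.lcomp k S φ) = ⊤ := LinearMap.range_eq_top.2 fun ψ => by
    obtain ⟨θ, hθ⟩ := IsSemisimpleModule.extension_property ((LinearMap.ker φ).liftQ φ le_rfl)
      (LinearMap.ker_eq_bot.1 (Submodule.ker_liftQ_eq_bot _ _ _ le_rfl))
      ((LinearMap.ker φ).liftQ ψ (k1 ψ))
    exact ⟨θ, LinearMap.ext fun x => LinearMap.congr_fun hθ (Submodule.Quotient.mk x)⟩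
  have h2 : 0 < finrank k (LinearMap.ker (LinearMap.lcomp k S φ)) :=
    finrank_pos_iff_exists_ne_zero.2 ⟨⟨θ, h1⟩, fun e => h0 (congrArg Subtype.val e)⟩
  have h3 := (LinearMap.lcomp k S φ).finrank_range_add_finrank_ker
  rw [hr, finrank_top, (LinearEquiv.piRing R S (Fin m) k).finrank_eq, finrank_pi_fintype,
    Finset.sum_const, Finset.card_univ, Fintype.card_fin, smul_eq_mul] at h3
  have := LinearMap.finrank_le_finrank_of_injective hq
  omega

/-- generation by `m` elements from a bound on homomorphism spaces. -/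
theorem gen {k R V : Type*} [Field k] [Ring R] [Algebra k R] [AddCommGroup V] [Module k V]
    [Module R V] [IsScalarTower k R V] [FiniteDimensional k V] (m : ℕ)
    (h : ∀ S : Submodule R (V ⧸ Module.jacobson R V),
      finrank k (V →ₗ[R] S) ≤ m * finrank k S) :
    ∃ φ : (Fin m → R) →ₗ[R] V, Function.Surjective φ := by
  classical
  have : IsArtinian R (V ⧸ Module.jacobson R V) := isArtinian_of_tower k inferInstance
  have : IsNoetherian R V := isNoetherian_of_tower k inferInstance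
  have : IsSemisimpleModule R (V ⧸ Module.jacobson R V) :=
    (IsArtinian.isSemisimpleModule_iff_jacobson _ _).2 (jacobson_quotient_jacobson R V)
  obtain ⟨_, ⟨φ, rfl⟩, hm⟩ := (wellFounded_gt (α := Submodule R (V ⧸ Module.jacobson R V))).has_min
    (Set.range fun φ : (Fin m → R) →ₗ[R] V ⧸ Module.jacobson R V => LinearMap.range φ) ⟨_, 0, rfl⟩
  have h1 : LinearMap.range φ = ⊤ := by
    by_contra hne
    obtain ⟨C, hC⟩ := exists_isCompl (LinearMap.range φ)
    obtain ⟨S, hS, hSC⟩ := (IsAtomic.eq_bot_or_exists_atom_le C).resolve_left fun e =>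
      hne (eq_top_of_isCompl_bot (e ▸ hC))
    have k1 : ∀ ψ : (Fin m → R) →ₗ[R] S, LinearMap.ker φ ≤ LinearMap.ker ψ := fun ψ x hx => by
      by_contra hx'
      have e : ((LinearMap.ker φ).map ψ).map S.subtype = S :=
        (hS.le_iff.1 (Submodule.map_subtype_le _ _)).resolve_left fun e =>
          hx' (Subtype.ext ((Submodule.mem_bot R).1 (e.le ⟨_, ⟨x, hx, rfl⟩, rfl⟩)))
      have e1 : S ≤ LinearMap.range (φ + S.subtype ∘ₗ ψ) := fun s hs => by
        obtain ⟨_, ⟨y, hy, rfl⟩, rfl⟩ := e.ge hs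
        exact ⟨y, by simpa using hy⟩
      have e2 : LinearMap.range φ ≤ LinearMap.range (φ + S.subtype ∘ₗ ψ) := by
        rintro _ ⟨y, rfl⟩
        simpa using sub_mem (LinearMap.mem_range_self (φ + S.subtype ∘ₗ ψ) y) (e1 (ψ y).2)
      refine hm _ ⟨_, rfl⟩ (lt_of_le_of_ne e2 fun e3 => hS.1 ?_)
      exact eq_bot_iff.2 ((le_inf (e1.trans e3.ge) hSC).trans hC.disjoint.le_bot)
    have : FiniteDimensional k S :=
      Module.Finite.of_injective (S.subtype.restrictScalars k) Subtype.val_injective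
    obtain ⟨θ, hθ⟩ := IsSemisimpleModule.extension_property
      ((LinearMap.range φ).subtype.coprod S.subtype) (LinearMap.ker_eq_bot.1 (by
        rw [LinearMap.ker_coprod_of_disjoint_range, Submodule.ker_subtype, Submodule.ker_subtype,
          Submodule.prod_bot]
        simpa using hC.disjoint.mono_right hSC)) (LinearMap.snd R _ _)
    refine absurd (h S) (not_le.2 (gen_aux _ (Submodule.mkQ_surjective _) φ k1 θ
      (LinearMap.ext fun x => ?_) fun e => hS.1 (eq_bot_iff.2 fun s hs => ?_)))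
    · simpa using LinearMap.congr_fun hθ (⟨φ x, x, rfl⟩, 0)
    · have := LinearMap.congr_fun hθ (0, ⟨s, hs⟩)
      rw [e] at this
      simpa using congrArg Subtype.val this.symm
  obtain ⟨ψ, hψ⟩ := Module.projective_lifting_property (Module.jacobson R V).mkQ φ
    (Submodule.mkQ_surjective _)
  refine ⟨ψ, LinearMap.range_eq_top.1 (by_contra fun hne => ?_)⟩
  obtain ⟨M, hM, hle⟩ := (IsCoatomic.eq_top_or_exists_le_coatom _).resolve_left hne
  refine hM.1 (eq_top_iff.2 fun v _ => ?_)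
  obtain ⟨x, hx⟩ := h1.ge (Submodule.mem_top (x := (Module.jacobson R V).mkQ v))
  rw [← hψ, LinearMap.comp_apply, Submodule.mkQ_apply, Submodule.mkQ_apply,
    Submodule.Quotient.eq] at hx
  simpa using sub_mem (hle (LinearMap.mem_range_self ψ x)) (sInf_le (s := {m | IsCoatom m}) hM hx)

end H19.Fr
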