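import Cfsg.Agent.H7.Jh
import Cfsg.Agent.S1183

/-! Fusion of the central involution in the `PSp4(3)` set-up. -/

set_option autoImplicit false
open Subgroup Equiv H7J

namespace H19.Fz

variable {G : Type*} [Group G] [Finite G] {ψ : P →* G}

theorem res_top (hG : ∀ H : Subgroup G, H.index ≠ 2) : Cfsg.pResidual 2 G = ⊤ := by
  have : Fact (Nat.Prime 2) := ⟨Nat.prime_two⟩
  have hn : (Cfsg.pResidual 2 G).Normal := ⟨fun n hn g => by
    induction hn using closure_induction with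
    | mem x hx =>
      refine subset_closure ?_
      have : orderOf (g * x * g⁻¹) = orderOf x :=
        (SemiconjBy.orderOf_eq g (by simp [SemiconjBy])).symm
      simpa [this] using hx
    | one => simp
    | mul a b _ _ ha hb =>
      have : g * (a * b) * g⁻¹ = g * a * g⁻¹ * (g * b * g⁻¹) := by group
      exact this ▸ mul_mem ha hb
    | inv a _ ha =>
      have : g * a⁻¹ * g⁻¹ = (g * a * g⁻¹)⁻¹ := by group
      exact this ▸ inv_mem ha⟩
  have hp : IsPGroup 2 (G ⧸ Cfsg.pResidual 2 G) := by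
    intro q
    obtain ⟨g, rfl⟩ := QuotientGroup.mk_surjective q
    obtain ⟨k, m, hm, e⟩ := Nat.exists_eq_two_pow_mul_odd (orderOf_pos g).ne'
    refine ⟨k, ?_⟩
    rw [← QuotientGroup.mk_pow, QuotientGroup.eq_one_iff]
    refine subset_closure ?_
    have : orderOf (g ^ 2 ^ k) ∣ m :=
      orderOf_dvd_of_pow_eq_one (by rw [← pow_mul, ← e, pow_orderOf_eq_one])
    exact Nat.Coprime.coprime_dvd_left this (Nat.coprime_two_right.2 hm)
  obtain ⟨n, hn⟩ := hp.exists_card_eq
  rcases n with _ | n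
  · exact index_eq_one.1 hn
  · obtain ⟨K, hK⟩ := Sylow.exists_subgroup_card_pow_prime (G := G ⧸ Cfsg.pResidual 2 G) 2 (n := n)
      (by rw [hn]; exact pow_dvd_pow 2 (Nat.le_succ n))
    exfalso
    apply hG (K.comap (QuotientGroup.mk' _))
    rw [index_comap_of_surjective _ (QuotientGroup.mk'_surjective _)]
    have e := K.index_mul_card
    rw [hK, hn, pow_succ'] at e
    exact Nat.eq_of_mul_eq_mul_right (by positivity) e

theorem s_mul (p q : P) : (p * q).s = xor p.s q.s := by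
  rcases p with ⟨a, b, _ | _⟩ <;> rcases q with ⟨c, d, _ | _⟩ <;> rfl

theorem s_pow (p : P) (hp : p.s = true) (n : ℕ) : (p ^ (2 * n + 1)).s = true := by
  induction n with
  | zero => simpa using hp
  | succ n ih =>
    rw [show 2 * (n + 1) + 1 = 2 * n + 1 + 1 + 1 by ring, pow_succ, pow_succ, s_mul, s_mul, ih, hp]
    rfl

def P0 : Subgroup P where
  carrier := {p | p.s = false}
  mul_mem' := fun {a b} ha hb => by
    simp only [Set.mem_setOf_eq] at *
    rw [s_mul, ha, hb]; rfl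
  one_mem' := rfl
  inv_mem' := by
    rintro ⟨a, b, _ | _⟩ h
    · rfl
    · exact absurd h (by simp)

theorem res_ne (h : Hy ψ) : Cfsg.pResidual 2 (centralizer ({ψ z0} : Set G)) ≠ ⊤ := by
  intro e
  have m : ψ (pt 1) ∈ centralizer ({ψ z0} : Set G) :=
    mem_centralizer_singleton_iff.2 ((h.cz _).2 ⟨_, rfl⟩)
  have le : Cfsg.pResidual 2 (centralizer ({ψ z0} : Set G)) ≤ (P0.map ψ).subgroupOf _ := by
    refine (closure_le _).2 ?_
    rintro ⟨g, hg⟩ ho
    obtain ⟨p, rfl⟩ := (h.cz _).1 (mem_centralizer_singleton_iff.1 hg)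
    refine ⟨p, ?_, rfl⟩
    by_contra hs
    have hs' : p.s = true := by
      have : ¬ p.s = false := hs
      simpa using this
    obtain ⟨n, hn⟩ := Nat.coprime_two_right.1 ho
    have k := congrArg Subtype.val (pow_orderOf_eq_one (⟨ψ p, hg⟩ : centralizer ({ψ z0} : Set G)))
    rw [hn] at k
    have k' : ψ (p ^ (2 * n + 1)) = 1 := by rw [map_pow]; exact k
    have := s_pow p hs' n
    rcases (h.ker _).1 k' with e | e <;> rw [e] at this <;> exact absurd this (by decide)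
  obtain ⟨p, hp, e'⟩ := le (e ▸ mem_top (⟨_, m⟩ : centralizer ({ψ z0} : Set G)))
  have e2 : ψ (p⁻¹ * pt 1) = 1 := by
    rw [map_mul, map_inv, e']; simp
  have hp' : (p⁻¹).s = false := P0.inv_mem hp
  have : (p⁻¹ * pt 1).s = true := by rw [s_mul, hp']; rfl
  rcases (h.ker _).1 e2 with e | e <;> rw [e] at this <;> exact absurd this (by decide)

theorem sl1 : ∀ x : S, x * x = 1 → x = 1 ∨ x = -1 := by decide +kernel
theorem sl2 : ∀ x : S, x * x = -1 → ∃ q : S, q * x * q⁻¹ = qi := by decide +kernel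
theorem sl3 : ∀ x : S, x * x = -1 → ∃ q : S, q * x * q⁻¹ = qi⁻¹ := by decide +kernel

omit [Finite G] in
/-- the involutions of `C(z)` -/
theorem cls (h : Hy ψ) (p : P) (x2 : ψ p * ψ p = 1) : ψ p = 1 ∨ ψ p = ψ z0 ∨
    IsConj (ψ p) (ψ a0) ∨ IsConj (ψ p) (ψ (pt 1)) ∨ IsConj (ψ p) (ψ (pt 1 * z0)) := by
  have k1 : ψ k0 = 1 := (h.ker _).2 (Or.inr rfl)
  have cj : ∀ q r : P, q * p * q⁻¹ = r → IsConj (ψ p) (ψ r) := fun q r e =>
    isConj_iff.2 ⟨ψ q, by rw [← e]; simp⟩
  rw [← map_mul, h.ker] at x2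
  rcases p with ⟨a, b, _ | _⟩
  · rcases x2 with e | e
    · have ea : a * a = 1 := congrArg P.a e
      have eb : b * b = 1 := congrArg P.b e
      rcases sl1 a ea with rfl | rfl <;> rcases sl1 b eb with rfl | rfl
      · exact Or.inl (map_one ψ)
      · exact Or.inr (Or.inl rfl)
      · refine Or.inr (Or.inl ?_)
        rw [show (⟨-1, 1, false⟩ : P) = z0 * k0 by decide +kernel, map_mul, k1, mul_one]
      · exact Or.inl k1
    · obtain ⟨q, hq⟩ := sl3 a (congrArg P.a e)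
      obtain ⟨r, hr⟩ := sl2 b (congrArg P.b e)
      refine Or.inr (Or.inr (Or.inl (cj ⟨q, r, false⟩ _ ?_)))
      rw [show a0 = ⟨qi⁻¹, qi, false⟩ by decide +kernel]
      exact P.ext hq hr rfl
  · have c : (⟨a⁻¹, 1, false⟩ : P) * ⟨a, b, true⟩ * (⟨a⁻¹, 1, false⟩ : P)⁻¹ = ⟨1, b * a, true⟩ :=
      P.ext (show a⁻¹ * a * 1⁻¹ = 1 by simp) (show 1 * b * a⁻¹⁻¹ = b * a by simp) rfl
    rcases x2 with e | e
    · have eb : b * a = 1 := congrArg P.b e
      refine Or.inr (Or.inr (Or.inr (Or.inl (cj _ _ (c.trans ?_)))))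
      rw [eb]; decide +kernel
    · have eb : b * a = -1 := congrArg P.b e
      have := cj _ _ c
      rw [eb, show (⟨1, -1, true⟩ : P) = pt 1 * z0 * k0 by decide +kernel, map_mul, k1,
        mul_one] at this
      exact Or.inr (Or.inr (Or.inr (Or.inr this)))

omit [Finite G] in
theorem oz (h : Hy ψ) : orderOf (ψ z0) = 2 := by
  have : Fact (Nat.Prime 2) := ⟨Nat.prime_two⟩
  refine orderOf_eq_prime ?_ fun e => ?_
  · rw [← map_pow, show z0 ^ 2 = 1 by decide +kernel, map_one]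
  · exact absurd ((h.ker _).1 e) (by decide +kernel)

theorem fz (h : Hy ψ) (hG : ∀ H : Subgroup G, H.index ≠ 2) : IsConj (ψ z0) (ψ a0) ∨
    IsConj (ψ z0) (ψ (pt 1)) ∨ IsConj (ψ z0) (ψ (pt 1 * z0)) := by
  by_contra n
  refine res_ne h ((Cfsg.Agent.S1183.result (ψ z0) ⟨oz h, fun g c => ?_⟩).1 (res_top hG))
  obtain ⟨p, hp⟩ := (h.cz _).1 c.eq.symm
  have z2 : ψ z0 * ψ z0 = 1 := by rw [← pow_two, ← oz h, pow_orderOf_eq_one]
  have cj : IsConj (ψ z0) (ψ p) := isConj_iff.2 ⟨g, hp.symm⟩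
  rcases cls h p (by
    rw [hp]
    calc _ = g * (ψ z0 * ψ z0) * g⁻¹ := by group
      _ = 1 := by rw [z2]; group) with e | e | e | e | e
  · rw [e, isConj_one_left] at cj
    have := oz h
    rw [cj, orderOf_one] at this
    omega
  · rw [← hp, e]
  · exact absurd (Or.inl (cj.trans e)) n
  · exact absurd (Or.inr (Or.inl (cj.trans e))) n
  · exact absurd (Or.inr (Or.inr (cj.trans e))) n

end H19.Fz
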