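import Cfsg.Agent.H29.Mathieu

/-! Non-split triple covers over the automorphism group of a simple group. -/

set_option autoImplicit false
open Subgroup Cfsg.Spor
open scoped commutatorElement

namespace H19.Gq

variable {C : Type*} [Group C] [Finite C]

theorem gq' {S : Type*} [Group S] [Finite S] [IsSimpleGroup S] (hS : commutator S = ⊤)
    (hA : Nat.card (MulAut S) = 2 * Nat.card S) (Q N : Subgroup C) [Q.Normal] [N.Normal]
    (hQN : Q ≤ N) (hN : Nat.card N = 3 * Nat.card Q)
    (hns : ∀ K : Subgroup C, K ⊓ N = Q → K ⊔ N = ⊤ → False) (e : C ⧸ N ≃* MulAut S) :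
    ∃ M : Subgroup C, ⁅M, N⁆ ≤ Q ∧ N ≤ ⁅M, M⁆ ⊔ Q := by
  have : Fact (Nat.Prime 2) := ⟨Nat.prime_two⟩
  have : Fact (Nat.Prime 3) := ⟨Nat.prime_three⟩
  let π : C →* MulAut S := e.toMonoidHom.comp (QuotientGroup.mk' N)
  have πs : Function.Surjective π := e.surjective.comp (QuotientGroup.mk'_surjective N)
  have πk : ∀ c, π c = 1 ↔ c ∈ N := fun c => by
    rw [← QuotientGroup.eq_one_iff]
    exact map_eq_one_iff e e.injective
  let I : Subgroup (MulAut S) := (MulAut.conj : S →* MulAut S).range
  have In : I.Normal := ⟨by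
    rintro _ ⟨s, rfl⟩ g
    exact ⟨g s, by ext x; simp⟩⟩
  have ci : Function.Injective (MulAut.conj : S →* MulAut S) := by
    rcases IsSimpleGroup.eq_bot_or_eq_top_of_normal (MulAut.conj : S →* MulAut S).ker
      inferInstance with h | h
    · exact (MonoidHom.ker_eq_bot_iff _).1 h
    · exfalso
      have : commutator S ≤ ⊥ := by
        rw [commutator_def, commutator_le]
        intro a _ b _
        have k : MulAut.conj a = 1 := (h ▸ mem_top a : a ∈ (MulAut.conj : S →* MulAut S).ker)
        have := congrArg (fun f : MulAut S => f b) k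
        simp only [MulAut.conj_apply, MulAut.one_apply] at this
        rw [mem_bot, commutatorElement_def, this, mul_inv_cancel]
      rw [hS, top_le_iff] at this
      exact bot_ne_top this
  have Ii : I.index = 2 := by
    have k := I.index_mul_card
    rw [hA, Nat.card_congr (MonoidHom.ofInjective ci).toEquiv.symm] at k
    exact Nat.eq_of_mul_eq_mul_right Nat.card_pos k
  have II : ⁅I, I⁆ = I := by
    have : I = (⊤ : Subgroup S).map (MulAut.conj : S →* MulAut S) := MonoidHom.range_eq_map _
    rw [this, ← map_commutator, ← commutator_def, hS]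
  let M := I.comap π
  have Mn : M.Normal := In.comap π
  have Mi : M.index = 2 := by rw [index_comap_of_surjective _ πs, Ii]
  have Mle : M ≤ ⁅M, M⁆ ⊔ N := fun m hm => by
    have : π m ∈ ⁅M, M⁆.map π := by
      rw [map_commutator, map_comap_eq_self_of_surjective πs, II]; exact hm
    obtain ⟨d, hd, k⟩ := this
    have : d⁻¹ * m ∈ N := (πk _).1 (by rw [map_mul, map_inv, k, inv_mul_cancel])
    simpa using mul_mem (mem_sup_left hd) (mem_sup_right this : d⁻¹ * m ∈ ⁅M, M⁆ ⊔ N)
  have i3 : (Q.subgroupOf N).index = 3 := by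
    have k := (Q.subgroupOf N).index_mul_card
    rw [Nat.card_congr (subgroupOfEquivOfLe hQN).toEquiv, hN] at k
    exact Nat.eq_of_mul_eq_mul_right Nat.card_pos k
  have n3 : ∀ n ∈ N, n ^ 3 ∈ Q := fun n hn => by
    have := (Q.subgroupOf N).pow_index_mem ⟨n, hn⟩
    rw [i3] at this
    exact this
  refine ⟨M, ?_, ?_⟩
  · let q := QuotientGroup.mk' Q
    have Nn : (N.map q).Normal := Normal.map inferInstance q (QuotientGroup.mk'_surjective Q)
    have c3 : Nat.card (N.map q) = 3 := by
      rw [← i3, ← relIndex_ker, QuotientGroup.ker_mk']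
      rfl
    have cy : IsCyclic (N.map q) := isCyclic_of_prime_card c3
    let a : C →* (ZMod (Nat.card (N.map q)))ˣ := (IsCyclic.mulAutMulEquiv (N.map q)).toMonoidHom.comp
      ((MulAut.conjNormal : C ⧸ Q →* MulAut (N.map q)).comp q)
    have ak : ∀ c, a c = 1 ↔ (MulAut.conjNormal (q c) : MulAut (N.map q)) = 1 := fun c =>
      map_eq_one_iff _ (IsCyclic.mulAutMulEquiv (N.map q)).injective
    have le : ⁅M, M⁆ ⊔ N ≤ a.ker := by
      refine sup_le (commutator_le.2 fun g _ h _ => ?_) fun n hn => ?_
      · rw [MonoidHom.mem_ker, map_commutatorElement, commutatorElement_eq_one_iff_mul_comm,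
          mul_comm]
      · rw [MonoidHom.mem_ker, ak]
        ext x
        have := congrArg Subtype.val (cy.isMulCommutative.1.1 ⟨q n, n, hn, rfl⟩ x)
        simp only [MulAut.conjNormal_apply, MulAut.one_apply]
        rw [show q n * x = x * q n from this, mul_inv_cancel_right]
    refine commutator_le.2 fun m hm n hn => ?_
    have k := congrArg (fun f : MulAut (N.map q) => (f ⟨q n, n, hn, rfl⟩ : C ⧸ Q))
      ((ak m).1 (le (Mle hm)))
    simp only [MulAut.conjNormal_apply, MulAut.one_apply] at k
    rw [← QuotientGroup.eq_one_iff]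
    show q ⁅m, n⁆ = 1
    rw [map_commutatorElement, commutatorElement_def, k, mul_inv_cancel]
  · by_contra h
    let D := ⁅M, M⁆ ⊔ Q
    have DN : D ⊓ N = Q := by
      have d := index_dvd_of_le (subgroupOf_mono N (le_sup_right : Q ≤ D))
      rw [i3] at d
      rcases (Nat.dvd_prime Nat.prime_three).1 d with k | k
      · exact absurd (subgroupOf_eq_top.1 (index_eq_one.1 k)) h
      · have : Q.subgroupOf N = D.subgroupOf N := by
          refine eq_of_le_of_card_ge (subgroupOf_mono N le_sup_right) (le_of_eq ?_)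
          have a := (D.subgroupOf N).index_mul_card
          have b := (Q.subgroupOf N).index_mul_card
          rw [k] at a
          rw [i3] at b
          omega
        rw [subgroupOf_inj, inf_eq_left.2 hQN] at this
        exact this.symm
    obtain ⟨T⟩ : Nonempty (Sylow 2 (C ⧸ D)) := inferInstance
    let K := (T : Subgroup (C ⧸ D)).comap (QuotientGroup.mk' D)
    have DK : D ≤ K := fun d hd => by
      show QuotientGroup.mk' D d ∈ (T : Subgroup (C ⧸ D))
      rw [QuotientGroup.mk'_apply, (QuotientGroup.eq_one_iff d).2 hd]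
      exact one_mem _
    refine hns K (le_antisymm (fun n hn => ?_) (le_inf (le_sup_right.trans DK) hQN)) ?_
    · rw [← DN]
      refine ⟨(QuotientGroup.eq_one_iff n).1 ?_, hn.2⟩
      obtain ⟨j, hj⟩ := T.isPGroup' ⟨_, hn.1⟩
      have a : (n : C ⧸ D) ^ 2 ^ j = 1 := congrArg Subtype.val hj
      have b : (n : C ⧸ D) ^ 3 = 1 := by
        rw [← QuotientGroup.mk_pow, QuotientGroup.eq_one_iff]
        exact mem_sup_right (n3 n hn.2)
      have := pow_gcd_eq_one.2 ⟨a, b⟩
      rwa [Nat.Coprime.gcd_eq_one (Nat.Coprime.pow_left j (by norm_num)), pow_one] at this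
    · have a : (K ⊔ N).index ∣ 2 := Mi ▸ index_dvd_of_le
        (Mle.trans (sup_le_sup_right (le_sup_left.trans DK) N))
      have b : (K ⊔ N).index ∣ (T : Subgroup (C ⧸ D)).index := by
        rw [← index_comap_of_surjective _ (QuotientGroup.mk'_surjective D)]
        exact index_dvd_of_le le_sup_left
      rcases (Nat.dvd_prime Nat.prime_two).1 a with k | k
      · exact index_eq_one.1 k
      · rw [k] at b
        exact absurd b T.not_dvd_index

theorem gq (hs : IsSimpleGroup ↥M22) (hA : Nat.card (MulAut ↥M22) = 887040) (Q N : Subgroup C)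
    [Q.Normal] [N.Normal] (hQN : Q ≤ N) (hN : Nat.card N = 3 * Nat.card Q)
    (hns : ∀ K : Subgroup C, K ⊓ N = Q → K ⊔ N = ⊤ → False) (e : C ⧸ N ≃* MulAut ↥M22) :
    ∃ M : Subgroup C, ⁅M, N⁆ ≤ Q ∧ N ≤ ⁅M, M⁆ ⊔ Q := by
  refine gq' ?_ (by rw [hA, H29.card_M22]) Q N hQN hN hns e
  refine (IsSimpleGroup.eq_bot_or_eq_top_of_normal (commutator ↥M22) inferInstance).resolve_left
    fun h => ?_
  have c : IsMulCommutative ↥M22 := ⟨⟨fun a b => commutatorElement_eq_one_iff_mul_comm.1
    (mem_bot.1 (h ▸ commutator_mem_commutator (mem_top a) (mem_top b)))⟩⟩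
  letI : CommGroup ↥M22 := { (inferInstance : Group ↥M22) with mul_comm := c.1.1 }
  have := IsSimpleGroup.prime_card (α := ↥M22)
  rw [H29.card_M22] at this
  norm_num at this

end H19.Gq
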