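import Cfsg.Agent.H19.Npc
import Cfsg.Agent.H19.Ht3
import Cfsg.Agent.H3.Transfer

/-! Characters of `p'`-degree of the principal block and induction from subgroups of
`p'`-index. -/

open scoped MonoidAlgebra ComplexConjugate
open Cfsg H17 Subgroup Finset
open H20 (eG eA IB IsBlk aug trunc br cent nrm cen fixed supp)
open CF (Irr dot)

namespace H19

variable {G : Type*} [Group G] [Finite G] {O : ValuationSubring ℂ} {p : ℕ} [hp : Fact p.Prime]
  [CharP (kk O) p]

theorem npc_cent_sylow (P : Sylow p G) : HasNormalPComplement p (cent (P : Subgroup G)) := by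
  obtain ⟨Q⟩ : Nonempty (Sylow p (cent (P : Subgroup G))) := inferInstance
  refine H3.hasNormalPComplement_of_normalizer_le_centralizer Q fun x _ y hy => Subtype.ext ?_
  have h1 : (Q : Subgroup (cent (P : Subgroup G))).map (cent (P : Subgroup G)).subtype ≤ P := by
    have h2 := (Q.2.map (cent (P : Subgroup G)).subtype).inf_normalizer_sylow P
    rw [← inf_eq_left, ← h2, inf_eq_left]
    exact (map_subtype_le _).trans (H20.cent_le_nrm _)
  exact x.2 _ (h1 (mem_map_of_mem _ hy))

theorem sum_coeff_of_fx {k : Type*} [Field k] {K L : Subgroup G} {E : k[G]} (h : Fx K E)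
    (hs : E ∈ supp k K) : aug (trunc (L : Set G) E) = Nat.card ↥(K ⊓ L) * E.coeff 1 := by
  classical
  have := Fintype.ofFinite G
  have h1 : ∀ x, (trunc (L : Set G) E).coeff x = if x ∈ K ⊓ L then E.coeff 1 else 0 := fun x => by
    rw [H20.coeff_trunc]
    by_cases hK : x ∈ K
    · have := congrArg (fun a => a.coeff x) (h x hK)
      simp only [MonoidAlgebra.coeff_single_mul_apply, inv_mul_cancel, one_mul] at this
      simp [hK, this]
    · simp [hK, hs x hK]
  rw [H20.aug_eq_sum, sum_congr rfl fun x _ => h1 x, ← sum_filter, sum_const, nsmul_eq_mul,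
    Nat.card_eq_fintype_card, Fintype.card_subtype]

theorem aug_trunc_B0_ne (P : Sylow p G) {H : Subgroup G} (hPH : (P : Subgroup G) ≤ H) :
    aug (trunc (H : Set G) (eG (B0 O G))) ≠ 0 := by
  have hf := (H20.isBlk_eG (B0 O G)).fixed
  have hfP : eG (B0 O G) ∈ fixed (kk O) P := H20.fixed_anti le_top hf
  rw [← H20.aug_br P.2 (H20.trunc_mem_fixed_of_nrm (hPH.trans le_normalizer) hfP), H20.br_trunc]
  set E := br (P : Subgroup G) (eG (B0 O G)) with hE
  set C := cent (P : Subgroup G)
  set K := (pResidual p C).map C.subtype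
  have hK : ¬ p ∣ Nat.card K := by
    rw [card_map_of_injective C.subtype_injective, ← hp.out.coprime_iff_not_dvd, Nat.coprime_comm]
    exact H3.hasNormalPComplement_iff_coprime.1 (npc_cent_sylow P)
  have hc : E ∈ cen (kk O) (⊤ ⊓ C) := H20.br_mem_cen (H20.mem_supp_top _) (H20.fixed_anti le_top hf)
  have hi := H20.br_idem P.2 hfP (H20.eG_idem (B0 O G))
  have hx : Fx K E := fx_of_blocks hc hi fun e he h => by
    have h1 := H20.PairOf.aug_eq_one (p := p) (H20.isPrim_eG (B0 O G)) (by simp) le_rfl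
      H20.aug_eG_B0 ⟨⟨P.2, by simp, he⟩, le_top, h⟩
    refine (fx_or he hK (le_inf le_top (map_subtype_le _)) (inf_le_right.trans ?_)).resolve_left
      fun h0 => hK ?_
    · exact H1.le_normalizer_map_subtype_iff.2 inferInstance
    · have := congrArg aug h0
      have h2 := sum_coeff_of_fx (L := ⊤) (fx_sS (R := kk O) (L := K)) sS_supp
      rw [map_mul, h1, mul_one, map_zero] at this
      rw [coe_top, H20.trunc_eq_self (by simp), this, coeff_sS, if_pos (one_mem _), mul_one,
        inf_top_eq] at h2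
      exact (CharP.cast_eq_zero_iff _ p _).1 h2.symm
  have hs : E ∈ supp (kk O) K := fun x hx => by_contra fun h0 => by
    have h1 : x ∈ C := by_contra fun h => h0 (H20.br_mem_supp _ _ x h)
    rw [hE, H20.br_def, H20.coeff_trunc_of_mem _ h1] at h0
    refine hx ⟨⟨x, h1⟩, H3.mem_pResidual_of_coprime ?_, rfl⟩
    rw [Nat.coprime_comm, hp.out.coprime_iff_not_dvd, orderOf_mk]
    exact preg_of_coeff_eB h0
  have h1 := sum_coeff_of_fx (L := ⊤) hx hs
  rw [coe_top, H20.trunc_eq_self (by simp), hE, H20.aug_br P.2 hfP, H20.aug_eG_B0] at h1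
  rw [sum_coeff_of_fx hx hs]
  refine mul_ne_zero (mt (CharP.cast_eq_zero_iff _ p _).1 fun h => hK (h.trans
    (card_dvd_of_le inf_le_left))) (right_ne_zero_of_mul (h1 ▸ one_ne_zero))

/-- Murai. -/
theorem exists_B0_over {H : Subgroup G} [Fintype H] (hH : ¬ p ∣ H.index) {η : IrrCharacter H}
    (hη : η ∈ irr (B0 O H)) (hd : ¬ p ∣ charDegree (η : H → ℂ)) :
    ∃ χ ∈ irr (B0 O G), ¬ p ∣ charDegree (χ : G → ℂ) ∧
      classInner (fun x : H => (χ : G → ℂ) x) η ≠ 0 := by
  classical
  have := Fintype.ofFinite G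
  obtain ⟨P, hP⟩ := H3.exists_sylow_le_of_not_dvd_index hH
  have h1 := lam_resZ_redZ (O := O) H η (fB_mem_ZZ _) (fB_irr_mem_OG (B0 O G))
  rw [mem_irr.1 hη, H20.B0_eq_aug, ← H20.aug_emb, coe_resZ, ← om_indFun _ (fB_mem_ZZ _),
    om_apply] at h1
  have h2 : H20.emb (kk O) H (resH H (redZ O (fB (irr (B0 O G))) (fB_mem_ZZ _) : (kk O)[G])) =
      trunc (H : Set G) (eG (B0 O G)) := embH_resH_eq_trunc H _
  obtain ⟨m, hm, -⟩ := η.2.isCharacter.ind.exists_coeff
  by_contra! hc
  refine aug_trunc_B0_ne (O := O) P hP ?_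
  rw [← h2, h1, ← mul_one (fB _), MonoidAlgebra.one_def,
    ← blockPart_apply_eq_ev _ (isClassFunction_indFun _), blockPart_eq_sum, indFun_one,
    ← cast_deg, ← Nat.cast_mul]
  simp only [hm, ← cast_deg, ← Nat.cast_mul, ← Nat.cast_sum]
  have h3 := mt (natCast_mem_nonunits_iff (O := O) p (H.index * charDegree (η : H → ℂ))).1
    (by rw [hp.out.dvd_mul]; tauto)
  rw [res_div (natCast_mem _ _) (natCast_mem _ _) h3, res_natCast,
    (CharP.cast_eq_zero_iff _ p _).2, zero_div]
  refine dvd_sum fun χ hχ => ?_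
  by_cases h4 : p ∣ charDegree (χ : G → ℂ)
  · exact h4.mul_left _
  · have h5 := hc χ (mem_filter.1 hχ).2 h4
    rw [classInner_eq_zero_comm, ← frobenius_reciprocity _ (irr_class χ), hm,
      Nat.cast_eq_zero] at h5
    simp [h5]

end H19
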