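import Cfsg.Agent.H19.Act
import Cfsg.Agent.H20.Wed2
import Cfsg.Agent.H17.AutC

/-! Projective indecomposable characters, and Brauer's permutation lemma for blocks. -/

set_option autoImplicit false

open scoped MonoidAlgebra ComplexConjugate
open Cfsg H17 Subgroup Finset
open H20 (eG bil Wed emin vd powIrr)

namespace H19

variable {G : Type*} [Group G] [Finite G] {O : ValuationSubring ℂ} {p : ℕ}
  [hp : Fact p.Prime] [CharP (kk O) p] (W : Wed (kk O) (kk O)[G]) {i j : Fin W.n}

variable (p) in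
/-- The projective indecomposable character. -/
noncomputable def pim (i : Fin W.n) : G → ℂ :=
  ∑ χ : IrrCharacter G, (W.dn p (χ : G → ℂ) i : ℂ) • (χ : G → ℂ)

theorem pim_apply (i : Fin W.n) (g : G) :
    pim p W i g = ∑ χ : IrrCharacter G, W.dn p (χ : G → ℂ) i * (χ : G → ℂ) g := by
  simp [pim]

theorem pim_char (i : Fin W.n) : IsCharacter G (pim p W i) := isCharacter_iff_sum.2 ⟨_, rfl⟩

theorem pim_sing (i : Fin W.n) {g : G} (hg : p ∣ orderOf g) : pim p W i g = 0 :=
  (pim_apply W i g).trans (W.proj_sing i hg)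

theorem bil_pim_irr (i : Fin W.n) (χ : IrrCharacter G) :
    bil (pim p W i) χ = W.dn p (χ : G → ℂ) i := by
  have := Fintype.ofFinite G
  rw [← H20.inner_irr_eq_bil, pim, classInner_sum_irr]

theorem bil_pim_bc (i j : Fin W.n) : bil (pim p W i) (W.bc p j) = if j = i then 1 else 0 :=
  W.ext_dn (p := p) (x := fun j => bil (pim p W i) (W.bc p j))
    (y := fun j => if j = i then 1 else 0) (fun χ => by
      rw [← W.bil_dec (fun g => pim_sing W i) χ.2.isCharacter, bil_pim_irr]; simp) j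

variable (p) in
/-- The degree of the projective indecomposable character. -/
noncomputable def pdeg (i : Fin W.n) : ℕ :=
  ∑ χ : IrrCharacter G, W.dn p (χ : G → ℂ) i * charDegree (χ : G → ℂ)

theorem cast_pdeg (i : Fin W.n) : (pdeg p W i : ℂ) = pim p W i 1 := by
  simp [pdeg, pim_apply, cast_deg]

theorem pdeg_ne_zero (i : Fin W.n) : pdeg p W i ≠ 0 := fun h => by
  obtain ⟨χ, -, h1⟩ := W.exists_dn_ne_zero (p := p) i
  exact mul_ne_zero h1 (deg_ne_zero χ) (sum_eq_zero_iff.1 h χ (mem_univ χ))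

omit [CharP (kk O) p] in
theorem pow_dvd_of_sing {θ : G → ℂ} (h : IsCharacter G θ) (h0 : ∀ g, p ∣ orderOf g → θ g = 0)
    {n : ℕ} (hn : (n : ℂ) = θ 1) : p ^ (Nat.card G).factorization p ∣ n := by
  obtain ⟨P⟩ : Nonempty (Sylow p G) := inferInstance
  have := Fintype.ofFinite (P : Subgroup G)
  obtain ⟨m, hm⟩ := (h.restrict (P : Subgroup G)).inner_nat isCharacter_one
  rw [classInner_one_right, sum_eq_single 1 (fun u _ hu => h0 _
    ((isPElt_of_mem P.2 u.2).dvd_orderOf fun e => hu (Subtype.ext e))) (by simp),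
    inv_mul_eq_iff_eq_mul₀ (Nat.cast_ne_zero.2 Nat.card_pos.ne'), OneMemClass.coe_one, ← hn,
    P.card_eq_multiplicity] at hm
  exact ⟨m, by exact_mod_cast hm⟩

theorem pow_dvd_pdeg (i : Fin W.n) : p ^ (Nat.card G).factorization p ∣ pdeg p W i :=
  pow_dvd_of_sing (pim_char W i) (fun _ => pim_sing W i) (cast_pdeg W i)

theorem dvd_pdeg {g : ℕ} (h : ∀ χ ∈ irr (W.blk i), g ∣ charDegree (χ : G → ℂ)) :
    g ∣ pdeg p W i := dvd_sum fun χ _ => by
  by_cases h1 : lam O χ = W.blk i
  · exact (h χ h1).mul_left _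
  · rw [W.dn_eq_zero h1, zero_mul]; exact dvd_zero g

theorem sum_dn_filter (P : Blk O G → Prop) [DecidablePred P] (i : Fin W.n)
    (f : IrrCharacter G → ℂ) :
    ∑ χ with P (lam O χ), W.dn p (χ : G → ℂ) i * f χ =
      if P (W.blk i) then ∑ χ : IrrCharacter G, W.dn p (χ : G → ℂ) i * f χ else 0 := by
  split_ifs with h
  · exact sum_filter_of_ne fun χ _ h1 => by_contra fun h2 => h1 (by
      rw [W.dn_eq_zero fun e => h2 (e ▸ h)]; simp)
  · exact sum_eq_zero fun χ hχ => by
      rw [W.dn_eq_zero fun e => h (e ▸ (mem_filter.1 hχ).2)]; simp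

variable (p) in
include p in
/-- A common divisor of the degrees in a block divides the Brauer degrees. -/
theorem dvd_dim {g : ℕ} (h : ∀ χ ∈ irr (W.blk i), g ∣ charDegree (χ : G → ℂ)) :
    g ∣ W.d i + 1 := by
  classical
  have := Fintype.ofFinite G
  have h1 : ∑ χ with lam O χ = W.blk i, bil (W.bc p i) χ * (χ : G → ℂ) 1 = (W.d i + 1 : ℕ) := by
    have h2 : ∀ j, ∑ χ with lam O χ = W.blk i, W.dn p (χ : G → ℂ) j * bil (W.bc p i) χ =
        if i = j then 1 else 0 := fun j => by
      rw [sum_dn_filter W (· = W.blk i), ← bil_pim_bc, H20.bil_eq_sum (pim_char W j).isClassFunction]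
      simp only [bil_pim_irr]
      split_ifs with h3
      · rfl
      · have := bil_pim_bc (p := p) W j i
        rw [if_neg (by rintro rfl; exact h3 rfl), H20.bil_eq_sum (pim_char W j).isClassFunction] at this
        simp only [bil_pim_irr] at this
        exact this.symm
    rw [sum_congr rfl fun χ _ => by rw [W.deg_eq (p := p) χ.2.isCharacter, mul_sum], sum_comm,
      sum_congr rfl fun j _ => show _ = ((W.d j + 1 : ℕ) : ℂ) * if i = j then 1 else 0 by
        rw [← h2 j, mul_sum]; exact sum_congr rfl fun _ _ => by ring]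
    simp
  rcases Nat.eq_zero_or_pos g with rfl | hg
  · obtain ⟨χ, hχ⟩ := irr_nonempty (W.blk i)
    exact absurd (zero_dvd_iff.1 (h χ hχ)) (deg_ne_zero χ)
  have h3 : IsIntegral ℤ (((W.d i + 1 : ℕ) : ℂ) / g) := by
    rw [← h1, sum_div]
    refine IsIntegral.sum _ fun χ hχ => ?_
    obtain ⟨c, hc⟩ := h χ (mem_filter.1 hχ).2
    rw [← cast_deg, hc, Nat.cast_mul, mul_left_comm, mul_div_cancel_left₀ _ (Nat.cast_ne_zero.2 hg.ne'),
      ← H20.inner_irr_eq_bil]
    exact (mem_ZB.1 (GC_inner (W.bc_mem_GC i) χ.2.isGen)).mul (isIntegral_natCast c)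
  exact nat_dvd_of_isIntegral_div hg.ne' h3

theorem sum_sq_eq (β : Blk O G) [DecidablePred (· ∈ irr β)] [DecidablePred fun i => W.blk i = β] :
    ∑ χ with χ ∈ irr β, charDegree (χ : G → ℂ) ^ 2 =
      ∑ i with W.blk i = β, (W.d i + 1) * pdeg p W i := by
  classical
  refine Nat.cast_injective (R := ℂ) ?_
  push_cast
  rw [sum_congr rfl fun χ _ => by
    rw [sq, cast_deg, show (χ : G → ℂ) 1 * (χ : G → ℂ) 1 = _ * (χ : G → ℂ) 1 from
      congrArg (· * _) (W.deg_eq (p := p) χ.2.isCharacter), sum_mul], sum_comm, sum_filter]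
  refine sum_congr rfl fun i _ => ?_
  simp only [mul_assoc, ← mul_sum]
  have := sum_dn_filter (p := p) W (· = β) i fun χ => (χ : G → ℂ) 1
  rw [cast_pdeg, pim_apply, ← mul_ite_zero, Nat.cast_succ]
  exact congrArg _ (by convert this using 3; exact mem_irr)

theorem dn_comp (α : G →* G) {θ : G → ℂ} (hθ : IsCharacter G θ) (i : Fin W.n) :
    (W.dn p (fun g => θ (α g)) i : ℂ) = ∑ j, (W.r (mapG α (W.f i)) j : ℂ) * W.dn p θ j := by
  rw [W.cast_dn (hθ.comp α), H20.tv, ← ev_mapG, W.ev_idem (p := p) hθ (mapG_mem_OG α (il_OG _))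
    ((il_idem (W.idem i)).map _), red_mapG α (il_OG _), red_il (W.idem i)]

open Classical in
/-- The trace of an endomorphism on the span of the Brauer characters in a union of blocks. -/
theorem trace_Kr [Fintype G] (α : G →* G) (P : Blk O G → Prop) :
    ∑ y with ¬ p ∣ orderOf y, Kr {ψ | P (lam O ψ)} (α y) y =
      Nat.card G * ∑ j with P (W.blk j), W.r (mapG α (W.f j)) j := by
  have h1 : ∀ y, ¬ p ∣ orderOf y → Kr {ψ | P (lam O ψ)} (α y) y =
      ∑ j with P (W.blk j), ∑ i, W.r (mapG α (W.f i)) j * (W.bc p i y * pim p W j y⁻¹) :=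
    fun y hy => by
      rw [Kr_eq, sum_congr rfl fun χ _ => by
        rw [W.dec_reg (p := p) (χ.2.isCharacter.comp α) hy, sum_congr rfl fun i _ => by
          rw [dn_comp W α χ.2.isCharacter, mul_sum], sum_comm, sum_mul], sum_comm, sum_filter]
      refine sum_congr rfl fun j _ => ?_
      have := sum_dn_filter (p := p) W P j fun χ => (χ : G → ℂ) y⁻¹
      rw [← pim_apply] at this
      simp only [← mul_assoc, ← sum_mul]
      rw [← mul_ite_zero, ← this, mul_sum]
      exact sum_congr rfl fun _ _ => by simp only [mul_comm (W.bc p _ y), mul_assoc]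
  rw [sum_congr rfl fun y hy => h1 y (mem_filter.1 hy).2, sum_comm, Nat.cast_sum, mul_sum]
  refine sum_congr rfl fun j _ => ?_
  rw [sum_comm, sum_congr rfl fun i _ => show _ = Nat.card G * (W.r (mapG α (W.f i)) j *
      if i = j then (1 : ℂ) else 0) by
    rw [← bil_pim_bc (p := p), H20.bil_comm, H20.bil_apply, ← mul_sum, mul_left_comm,
      mul_inv_cancel_left₀ (Nat.cast_ne_zero.2 Nat.card_pos.ne')]
    exact congrArg _ (sum_filter_of_ne
      fun y _ h hy => h (by rw [pim_sing W j (by rwa [orderOf_inv]), mul_zero]))]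
  simp

open Classical in
theorem sum_Kr_reg [Fintype G] (β : Blk O G) :
    ∑ y with ¬ p ∣ orderOf y, Kr (irr β) y y = Nat.card G * blockRank p (irr β) := by
  obtain ⟨W⟩ := H20.nonempty_wed (kk O) (kk O)[G]
  have := trace_Kr (p := p) W (MonoidHom.id G) (· = β)
  rw [← W.card_blk (p := p), card_eq_sum_ones]
  simpa [mapG, W.r_f, irr] using this

open Classical in
theorem exists_sum_Kr_pow [Fintype G] (β : Blk O G) {k : ℕ} (hk : k.Coprime (Nat.card G))
    (h : ∀ y : G, ¬ p ∣ orderOf y → y ^ k = y) (x : G) :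
    ∃ n : ℕ, ∑ g with ppart p g = x, Kr (irr β) (g ^ k) g = n := by
  by_cases hx : IsPElt p x
  swap
  · exact ⟨0, by
      rw [filter_false_of_mem fun g _ (e : ppart p g = x) =>
        hx (e ▸ isPPart_isPElt (isPPart_ppart g))]; simp⟩
  by_cases hc : IsConj (x ^ k) x
  swap
  · refine ⟨0, (sum_eq_zero fun g hg => ?_).trans Nat.cast_zero.symm⟩
    have h1 := (mem_filter.1 hg).2 ▸ isPPart_ppart (p := p) g
    exact Kr_eq_zero β (by simpa using isPPart_zpow h1 k) h1 hc
  obtain ⟨t, ht⟩ := isConj_iff.1 hc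
  have := Fintype.ofFinite (centralizer ({x} : Set G))
  have hm : ∀ y ∈ centralizer ({x} : Set G), t * y * t⁻¹ ∈ centralizer ({x} : Set G) :=
    fun y hy => by
      rw [← H20.centralizer_pow hk, mem_centralizer_singleton_iff] at hy
      rw [mem_centralizer_singleton_iff, ← ht]
      simp [mul_assoc, ← mul_assoc y, hy]
  let α : centralizer ({x} : Set G) →* centralizer ({x} : Set G) :=
    ((MulAut.conj t).toMonoidHom.comp (Subgroup.subtype _)).codRestrict _ fun y => hm y y.2
  obtain ⟨W⟩ := H20.nonempty_wed (kk O) (kk O)[centralizer ({x} : Set G)]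
  rw [H20.sum_ppart_eq hx rfl, sum_congr rfl fun y hy => show _ =
      Kr {ψ | Induces _ (lam O ψ) β} (α y) y by
    have h1 := (mem_filter.1 hy).2
    rw [← Kr_shift hx β (preg_of_dvd h1 (orderOf_map_dvd α y)) h1]
    refine Kr_isConj _ (isConj_iff.2 ⟨t, ?_⟩) (IsConj.refl _)
    rw [(Commute.symm (mem_centralizer_singleton_iff.1 y.2)).mul_pow, h y (by simpa using h1)]
    rw [← conj_mul, ht]
    rfl, trace_Kr W α fun b => Induces _ b β]
  exact ⟨_, by rw [Nat.cast_mul]⟩

variable (p) in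
/-- Brauer's permutation lemma gives at least `l(B)` fixed characters. -/
theorem rank_le_card_fixed (β : Blk O G) {k : ℕ} (hk : k.Coprime (Nat.card G))
    (h : ∀ y : G, ¬ p ∣ orderOf y → y ^ k = y) : blockRank p (irr β) ≤
      Nat.card {χ : IrrCharacter G // χ ∈ irr β ∧ ∀ g, (χ : G → ℂ) (g ^ k) = (χ : G → ℂ) g} := by
  classical
  have := Fintype.ofFinite G
  choose n hn using exists_sum_Kr_pow (p := p) β hk h
  have h1 : (n 1 : ℂ) = Nat.card G * blockRank p (irr β) := by
    rw [← hn, ← sum_Kr_reg]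
    have e : ∀ g : G, ppart p g = 1 ↔ ¬ p ∣ orderOf g := fun g =>
      isPPart_eq_one_iff (isPPart_ppart g)
    simp only [e]
    exact sum_congr rfl fun y hy => by rw [h y (mem_filter.1 hy).2]
  have h2 : ((∑ x, n x : ℕ) : ℂ) = Nat.card G * Nat.card
      {χ : IrrCharacter G // χ ∈ irr β ∧ ∀ g, (χ : G → ℂ) (g ^ k) = (χ : G → ℂ) g} := by
    rw [Nat.cast_sum, ← sum_congr rfl fun x _ => hn x,
      sum_fiberwise univ (ppart p) fun g => Kr (irr β) (g ^ k) g, Nat.card_eq_fintype_card
      (α := Subtype _), Fintype.card_subtype, ← filter_filter, ← sum_boole, mul_sum]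
    simp only [Kr_eq]
    rw [sum_comm]
    refine sum_congr rfl fun χ _ => ?_
    have := H20.bil_irr (powIrr hk χ) χ
    rw [H20.bil_apply, inv_mul_eq_iff_eq_mul₀ (Nat.cast_ne_zero.2 Nat.card_pos.ne')] at this
    refine this.trans (congrArg _ (if_congr ?_ rfl rfl))
    rw [Subtype.ext_iff, funext_iff]
    rfl
  norm_cast at h1 h2
  refine Nat.le_of_mul_le_mul_left ?_ (Nat.card_pos (α := G))
  rw [← h1, ← h2]
  exact single_le_sum (fun _ _ => Nat.zero_le _) (mem_univ 1)

end H19
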