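import Mathlib

/-! Abstract lemmas for locating `O₂` of an involution centraliser. -/

set_option autoImplicit false
open Subgroup

namespace H19.Qs

variable {G : Type*} [Group G] [Finite G]

theorem com_triv (h9 : Nat.card G = 887040) {a b r : G} (a3 : a ^ 3 = 1) (b3 : b ^ 3 = 1)
    (r3 : r ^ 3 = 1) (hr : r = a * b * a⁻¹ * b⁻¹) (ra : r * a = a * r) (rb : r * b = b * r) :
    r = 1 := by
  have : Fact (Nat.Prime 3) := ⟨by norm_num⟩
  have pz : ∀ x : G, x ^ 3 = 1 → IsPGroup 3 (zpowers x) := fun x hx => by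
    rintro ⟨g, k, hk⟩
    refine ⟨1, Subtype.ext ?_⟩
    show g ^ 3 ^ 1 = 1
    rw [pow_one, ← hk]
    simp only
    rw [← zpow_natCast, ← zpow_mul, mul_comm, zpow_mul, zpow_natCast, hx, one_zpow]
  have n1 : zpowers a ≤ normalizer (zpowers r : Set G) := by
    rw [zpowers_le]
    refine mem_normalizer_fintype ?_
    rintro _ ⟨k, rfl⟩
    refine ⟨k, ?_⟩
    simp only
    rw [← conj_zpow, ← ra, mul_inv_cancel_right]
  have p1 : IsPGroup 3 (zpowers r ⊔ zpowers a : Subgroup G) :=
    IsPGroup.to_sup_of_normal_left' (pz r r3) (pz a a3) n1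
  have mr : r ∈ zpowers r ⊔ zpowers a := mem_sup_left (mem_zpowers r)
  have ma : a ∈ zpowers r ⊔ zpowers a := mem_sup_right (mem_zpowers a)
  have n2 : zpowers b ≤ normalizer ((zpowers r ⊔ zpowers a : Subgroup G) : Set G) := by
    rw [zpowers_le]
    refine mem_normalizer_fintype fun g hg => ?_
    have : zpowers r ⊔ zpowers a ≤ (zpowers r ⊔ zpowers a).comap (MulAut.conj b).toMonoidHom := by
      refine sup_le (zpowers_le.2 ?_) (zpowers_le.2 ?_)
      · show b * r * b⁻¹ ∈ zpowers r ⊔ zpowers a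
        rw [← rb, mul_inv_cancel_right]; exact mr
      · show b * a * b⁻¹ ∈ zpowers r ⊔ zpowers a
        have : b * a * b⁻¹ = r⁻¹ * a := by rw [hr]; group
        rw [this]; exact mul_mem (inv_mem mr) ma
    exact this hg
  obtain ⟨S, hS⟩ := (IsPGroup.to_sup_of_normal_left' p1 (pz b b3) n2).exists_le_sylow
  have c9 : Nat.card S = 3 ^ 2 := by
    rw [S.card_eq_multiplicity, h9]
    congr 1
    have a := (Nat.Prime.pow_dvd_iff_le_factorization (p := 3) (k := 2) (n := 887040) (by norm_num)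
      (by norm_num)).1 (by norm_num)
    have b := mt (Nat.Prime.pow_dvd_iff_le_factorization (p := 3) (k := 3) (n := 887040)
      (by norm_num) (by norm_num)).2 (by norm_num)
    omega
  have cm := IsPGroup.isMulCommutative_of_card_eq_prime_sq c9
  have e := congrArg Subtype.val (cm.1.1 ⟨a, hS (mem_sup_left ma)⟩
    ⟨b, hS (mem_sup_right (mem_zpowers b))⟩)
  rw [hr, show a * b = b * a from e]
  group

theorem rho_mem {C N : Subgroup G} (NC : N ≤ C) (nN : C ≤ normalizer (N : Set G))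
    (cC : Nat.card C = 21799895040) (cN : Nat.card N = 3 * 2 ^ 13) {a b r : G} (ha : a ∈ C)
    (hb : b ∈ C) (a3 : a ^ 3 = 1) (b3 : b ^ 3 = 1) (r3 : r ^ 3 = 1)
    (hr : r = a * b * a⁻¹ * b⁻¹) (ra : r * a = a * r) (rb : r * b = b * r) : r ∈ N := by
  have nn : (N.subgroupOf C).Normal := (normal_subgroupOf_iff_le_normalizer NC).2 nN
  have hrC : r ∈ C := hr ▸ mul_mem (mul_mem (mul_mem ha hb) (inv_mem ha)) (inv_mem hb)
  have c : Nat.card (C ⧸ N.subgroupOf C) = 887040 := by
    have e := card_eq_card_quotient_mul_card_subgroup (N.subgroupOf C)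
    rw [cC, Nat.card_congr (subgroupOfEquivOfLe NC).toEquiv, cN] at e
    omega
  let π := QuotientGroup.mk' (N.subgroupOf C)
  have p : ∀ (x : G) (hx : x ∈ C), x ^ 3 = 1 → π ⟨x, hx⟩ ^ 3 = 1 := fun x hx e => by
    rw [← map_pow, show (⟨x, hx⟩ : C) ^ 3 = 1 from Subtype.ext e, map_one]
  have := com_triv c (p a ha a3) (p b hb b3) (p r hrC r3)
    (by rw [← map_inv, ← map_inv, ← map_mul, ← map_mul, ← map_mul]; exact congrArg π (Subtype.ext hr))
    (by rw [← map_mul, ← map_mul]; exact congrArg π (Subtype.ext ra))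
    (by rw [← map_mul, ← map_mul]; exact congrArg π (Subtype.ext rb))
  exact (QuotientGroup.eq_one_iff (N := N.subgroupOf C) ⟨r, hrC⟩).1 this

theorem mem_R {C N R : Subgroup G} (RN : R ≤ N) (NC : N ≤ C) (nR : C ≤ normalizer (R : Set G))
    (nN : C ≤ normalizer (N : Set G)) (cR : Nat.card R = 2 ^ 13) (cN : Nat.card N = 3 * 2 ^ 13)
    {h h' r r' : G} (hr : r ∈ N) (hh : h ∈ C) (e1 : h * h' = 1) (e2 : r * r' = 1)
    (e4 : (h * r * (h' * r')) ^ 4 = 1) : h * r * (h' * r') ∈ R := by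
  have nn : (R.subgroupOf N).Normal := (normal_subgroupOf_iff_le_normalizer RN).2 (NC.trans nR)
  have i : (R.subgroupOf N).index = 3 := by
    have e := (R.subgroupOf N).index_mul_card
    rw [Nat.card_congr (subgroupOfEquivOfLe RN).toEquiv, cR, cN] at e
    omega
  have m : h * r * (h' * r') ∈ N := by
    rw [← inv_eq_of_mul_eq_one_right e1, ← inv_eq_of_mul_eq_one_right e2, ← mul_assoc]
    exact mul_mem ((mem_normalizer_iff.1 (nN hh) r).1 hr) (inv_mem hr)
  generalize h * r * (h' * r') = c at e4 m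
  have k : c ^ 3 ∈ R := by
    have := (R.subgroupOf N).pow_index_mem ⟨c, m⟩
    rw [i] at this
    exact this
  have : c = (c ^ 3)⁻¹ := by
    rw [eq_inv_iff_mul_eq_one, ← pow_succ', e4]
  rw [this]
  exact inv_mem k

theorem two_le {H K : Subgroup G} (le : H ≤ K) {c : G} (cK : c ∈ K) (cH : c ∉ H) :
    2 * Nat.card H ≤ Nat.card K := by
  obtain ⟨k, hk⟩ := card_dvd_of_le le
  have p : 0 < Nat.card K := Nat.card_pos
  rcases k with _ | _ | k
  · omega
  · exact absurd ((eq_of_le_of_card_ge le (by omega)) ▸ cK) cH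
  · rw [hk]; nlinarith

end H19.Qs
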