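import Mathlib.RingTheory.MvPolynomial.Symmetric.NewtonIdentities
import Mathlib.GroupTheory.Perm.Sign
import Mathlib.Data.Complex.Basic
import Mathlib.Algebra.Order.Antidiag.Pi
import Mathlib.Tactic

/-! Bead configurations: raising and lowering operators on antisymmetric functions. -/

namespace H19.Sn
open Finset MvPolynomial Equiv

abbrev Fn (ι : Type*) := (ι → ℕ) → ℂ

variable {ι : Type*} [Fintype ι] [DecidableEq ι]

open Classical in
noncomputable def upM (ι : Type*) : Multiplicative (ι →₀ ℕ) →* Module.End ℂ (Fn ι) where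
  toFun m :=
    { toFun := fun f β => if (⇑m.toAdd : ι → ℕ) ≤ β then f (β - ⇑m.toAdd) else 0
      map_add' := fun f g => by ext β; by_cases h : (⇑m.toAdd : ι → ℕ) ≤ β <;> simp [h]
      map_smul' := fun c f => by ext β; by_cases h : (⇑m.toAdd : ι → ℕ) ≤ β <;> simp [h] }
  map_one' := by
    ext f β
    have : β - (0 : ι → ℕ) = β := by funext i; simp
    simp [this]
  map_mul' m m' := by
    ext f β
    simp only [LinearMap.coe_mk, AddHom.coe_mk, Module.End.mul_apply]
    have e : ∀ i, (m * m').toAdd i = m.toAdd i + m'.toAdd i := fun i => rfl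
    by_cases h : (⇑m.toAdd : ι → ℕ) ≤ β
    · rw [if_pos h]
      have h1 : (⇑(m * m').toAdd : ι → ℕ) ≤ β ↔ (⇑m'.toAdd : ι → ℕ) ≤ β - ⇑m.toAdd := by
        constructor
        · intro h' i
          have h3 : m.toAdd i + m'.toAdd i ≤ β i := h' i
          show m'.toAdd i ≤ β i - m.toAdd i
          omega
        · intro h' i
          have h3 : m'.toAdd i ≤ β i - m.toAdd i := h' i
          have h4 : m.toAdd i ≤ β i := h i
          show m.toAdd i + m'.toAdd i ≤ β i
          omega
      have h2 : β - ⇑(m * m').toAdd = β - ⇑m.toAdd - ⇑m'.toAdd := by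
        funext i; simp only [e, Pi.sub_apply]; omega
      rw [h2]
      exact if_congr h1 rfl rfl
    · rw [if_neg h, if_neg]
      intro h'; apply h; intro i
      have h3 : m.toAdd i + m'.toAdd i ≤ β i := h' i
      show m.toAdd i ≤ β i
      omega

noncomputable def dnM (ι : Type*) : Multiplicative (ι →₀ ℕ) →* Module.End ℂ (Fn ι) where
  toFun m :=
    { toFun := fun f β => f (β + ⇑m.toAdd)
      map_add' := fun f g => by ext β; simp
      map_smul' := fun c f => by ext β; simp }
  map_one' := by ext f β; simp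
  map_mul' m m' := by
    ext f β
    simp [add_assoc]

noncomputable def up (ι : Type*) : MvPolynomial ι ℂ →ₐ[ℂ] Module.End ℂ (Fn ι) :=
  AddMonoidAlgebra.lift ℂ (Module.End ℂ (Fn ι)) (ι →₀ ℕ) (upM ι)

noncomputable def dn (ι : Type*) : MvPolynomial ι ℂ →ₐ[ℂ] Module.End ℂ (Fn ι) :=
  AddMonoidAlgebra.lift ℂ (Module.End ℂ (Fn ι)) (ι →₀ ℕ) (dnM ι)

omit [Fintype ι] [DecidableEq ι] in
open Classical in
theorem up_monomial (m : ι →₀ ℕ) (f : Fn ι) (β : ι → ℕ) :
    up ι (monomial m 1) f β = if (⇑m : ι → ℕ) ≤ β then f (β - ⇑m) else 0 := by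
  rw [up, ← single_eq_monomial, AddMonoidAlgebra.lift_single, one_smul]; rfl

omit [Fintype ι] [DecidableEq ι] in
theorem dn_monomial (m : ι →₀ ℕ) (f : Fn ι) (β : ι → ℕ) :
    dn ι (monomial m 1) f β = f (β + ⇑m) := by
  rw [dn, ← single_eq_monomial, AddMonoidAlgebra.lift_single, one_smul]; rfl

noncomputable def U (k : ℕ) : Module.End ℂ (Fn ι) := up ι (psum ι ℂ k)
noncomputable def D (k : ℕ) : Module.End ℂ (Fn ι) := dn ι (psum ι ℂ k)

omit [Fintype ι] in
theorem single_le_iff (i : ι) (k : ℕ) (β : ι → ℕ) : (Pi.single i k : ι → ℕ) ≤ β ↔ k ≤ β i := by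
  constructor
  · intro h; simpa using h i
  · intro h j
    by_cases hj : j = i
    · subst hj; simpa using h
    · simp [Pi.single_eq_of_ne hj]

theorem U_apply (k : ℕ) (f : Fn ι) (β : ι → ℕ) :
    U k f β = ∑ i, if k ≤ β i then f (β - Pi.single i k) else 0 := by
  simp only [U, psum, map_sum, X_pow_eq_monomial, LinearMap.sum_apply, Finset.sum_apply,
    up_monomial, Finsupp.single_eq_pi_single, single_le_iff]

theorem D_apply (k : ℕ) (f : Fn ι) (β : ι → ℕ) :
    D k f β = ∑ i, f (β + Pi.single i k) := by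
  simp only [D, psum, map_sum, X_pow_eq_monomial, LinearMap.sum_apply, Finset.sum_apply,
    dn_monomial, Finsupp.single_eq_pi_single]

omit [DecidableEq ι] in
theorem U_comm (j k : ℕ) (f : Fn ι) : U j (U k f) = U k (U j f) := by
  rw [← Module.End.mul_apply, ← Module.End.mul_apply, U, U, ← map_mul, ← map_mul, mul_comm]

omit [DecidableEq ι] in
theorem D_comm (j k : ℕ) (f : Fn ι) : D j (D k f) = D k (D j f) := by
  rw [← Module.End.mul_apply, ← Module.End.mul_apply, D, D, ← map_mul, ← map_mul, mul_comm]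

/-- `Um ρ` is the product of the raising operators over a multiset. -/
noncomputable def Um (ρ : Multiset ℕ) : Module.End ℂ (Fn ι) := up ι (ρ.map (psum ι ℂ)).prod

omit [DecidableEq ι] in
@[simp] theorem Um_zero (f : Fn ι) : Um 0 f = f := by simp [Um]

omit [DecidableEq ι] in
theorem Um_cons (k : ℕ) (ρ : Multiset ℕ) (f : Fn ι) : Um (k ::ₘ ρ) f = U k (Um ρ f) := by
  simp [Um, U]

omit [DecidableEq ι] in
theorem Um_add (ρ ρ' : Multiset ℕ) (f : Fn ι) : Um (ρ + ρ') f = Um ρ (Um ρ' f) := by
  simp [Um]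

noncomputable def sg {κ : Type*} [Fintype κ] [DecidableEq κ] (s : Perm κ) : ℂ :=
  ((Perm.sign s : ℤ) : ℂ)

@[simp] theorem sg_one : sg (1 : Perm ι) = 1 := by simp [sg]
theorem sg_mul (s t : Perm ι) : sg (s * t) = sg s * sg t := by simp [sg]
theorem sg_mul_self (s : Perm ι) : sg s * sg s = 1 := by
  rw [sg, ← Int.cast_mul, ← Units.val_mul, Int.units_mul_self]; simp
theorem sg_inv (s : Perm ι) : sg s⁻¹ = sg s := by simp [sg]
theorem sg_swap {i j : ι} (h : i ≠ j) : sg (swap i j) = -1 := by simp [sg, Perm.sign_swap h]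
theorem sg_ne_zero (s : Perm ι) : sg s ≠ 0 := fun h => by simpa [h] using sg_mul_self s
theorem sg_eq (s : Perm ι) : sg s = 1 ∨ sg s = -1 := by
  rcases Int.units_eq_one_or (Perm.sign s) with h | h <;> simp [sg, h]

def Anti (f : Fn ι) : Prop := ∀ (s : Perm ι) (β : ι → ℕ), f (β ∘ s) = sg s * f β

def Deg (M : ℕ) (f : Fn ι) : Prop := ∀ β, f β ≠ 0 → ∑ i, β i = M

theorem Anti.inj {f : Fn ι} (h : Anti f) {β : ι → ℕ} (hβ : f β ≠ 0) : Function.Injective β := by
  intro i j hij
  by_contra hne
  have h1 : β ∘ swap i j = β := by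
    funext x
    simp only [Function.comp_apply, swap_apply_def]
    split_ifs with h1 h2
    · rw [h1, hij]
    · rw [h2, hij]
    · rfl
  have := h (swap i j) β
  rw [h1, sg_swap hne] at this
  apply hβ
  linear_combination (1 / 2 : ℂ) * this

theorem Anti.zero_of {f : Fn ι} (h : Anti f) {β : ι → ℕ} (hβ : ¬ Function.Injective β) :
    f β = 0 := by
  by_contra h0; exact hβ (h.inj h0)

theorem anti_zero : Anti (0 : Fn ι) := fun _ _ => by simp
theorem Anti.add {f g : Fn ι} (hf : Anti f) (hg : Anti g) : Anti (f + g) := fun s β => by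
  simp only [Pi.add_apply, hf s β, hg s β]; ring
theorem Anti.sub {f g : Fn ι} (hf : Anti f) (hg : Anti g) : Anti (f - g) := fun s β => by
  simp only [Pi.sub_apply, hf s β, hg s β]; ring
theorem Anti.smul {f : Fn ι} (hf : Anti f) (c : ℂ) : Anti (c • f) := fun s β => by
  simp only [Pi.smul_apply, hf s β, smul_eq_mul]; ring
theorem anti_sum {κ : Type*} (T : Finset κ) (f : κ → Fn ι) (h : ∀ x ∈ T, Anti (f x)) :
    Anti (∑ x ∈ T, f x) := fun s β => by
  simp only [Finset.sum_apply, Finset.mul_sum]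
  exact Finset.sum_congr rfl fun x hx => h x hx s β

omit [DecidableEq ι] in
theorem deg_zero (M : ℕ) : Deg M (0 : Fn ι) := fun _ h => absurd rfl h
omit [DecidableEq ι] in
theorem Deg.add {M : ℕ} {f g : Fn ι} (hf : Deg M f) (hg : Deg M g) : Deg M (f + g) := fun β h => by
  by_cases h1 : f β = 0
  · exact hg β (by simpa [h1] using h)
  · exact hf β h1
omit [DecidableEq ι] in
theorem Deg.smul {M : ℕ} {f : Fn ι} (hf : Deg M f) (c : ℂ) : Deg M (c • f) := fun β h =>
  hf β (fun h0 => h (by simp [h0]))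
omit [DecidableEq ι] in
theorem Deg.sub {M : ℕ} {f g : Fn ι} (hf : Deg M f) (hg : Deg M g) : Deg M (f - g) := by
  have := hf.add (hg.smul (-1))
  rwa [neg_one_smul, ← sub_eq_add_neg] at this
omit [DecidableEq ι] in
theorem deg_sum {κ : Type*} {M : ℕ} (T : Finset κ) (f : κ → Fn ι) (h : ∀ x ∈ T, Deg M (f x)) :
    Deg M (∑ x ∈ T, f x) := fun β hβ => by
  rw [Finset.sum_apply] at hβ
  obtain ⟨x, hx, h0⟩ := Finset.exists_ne_zero_of_sum_ne_zero hβ
  exact h x hx β h0

omit [Fintype ι] in
theorem single_comp (s : Perm ι) (i : ι) (k : ℕ) :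
    (Pi.single (s i) k : ι → ℕ) ∘ s = Pi.single i k := by
  funext j
  simp [Pi.single_apply]

theorem Anti.U {f : Fn ι} (h : Anti f) (k : ℕ) : Anti (U k f) := fun s β => by
  rw [U_apply, U_apply, Finset.mul_sum, ← Equiv.sum_comp s (fun i => sg s * _)]
  refine Finset.sum_congr rfl fun i _ => ?_
  simp only [Function.comp_apply]
  split_ifs
  · rw [← h s, ← single_comp s i k]; rfl
  · simp

theorem Anti.D {f : Fn ι} (h : Anti f) (k : ℕ) : Anti (D k f) := fun s β => by
  rw [D_apply, D_apply, Finset.mul_sum, ← Equiv.sum_comp s (fun i => sg s * _)]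
  refine Finset.sum_congr rfl fun i _ => ?_
  rw [← h s, ← single_comp s i k]; rfl

theorem Anti.Um {f : Fn ι} (h : Anti f) (ρ : Multiset ℕ) : Anti (Um ρ f) := by
  induction ρ using Multiset.induction_on with
  | empty => simpa using h
  | cons k ρ ih => rw [Um_cons]; exact ih.U k

theorem sum_add_single (β : ι → ℕ) (i : ι) (k : ℕ) :
    ∑ j, (β + Pi.single i k : ι → ℕ) j = ∑ j, β j + k := by
  simp [Finset.sum_add_distrib]

omit [Fintype ι] in
theorem sub_add_single {β : ι → ℕ} {i : ι} {k : ℕ} (h : k ≤ β i) :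
    β - Pi.single i k + Pi.single i k = β := by
  funext j
  have : (Pi.single i k : ι → ℕ) j ≤ β j := (single_le_iff i k β).2 h j
  simp only [Pi.add_apply, Pi.sub_apply]; omega

theorem sum_sub_single {β : ι → ℕ} {i : ι} {k : ℕ} (h : k ≤ β i) :
    ∑ j, (β - Pi.single i k : ι → ℕ) j + k = ∑ j, β j := by
  rw [← sum_add_single _ i k, sub_add_single h]

theorem Deg.U {M : ℕ} {f : Fn ι} (h : Deg M f) (k : ℕ) : Deg (M + k) (U k f) := fun β hβ => by
  rw [U_apply] at hβ
  obtain ⟨i, -, hi⟩ := Finset.exists_ne_zero_of_sum_ne_zero hβ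
  split_ifs at hi with hk
  · rw [← h _ hi, sum_sub_single hk]
  · exact absurd rfl hi

theorem Deg.D' {M : ℕ} {f : Fn ι} (h : Deg M f) (k : ℕ) {β : ι → ℕ} (hβ : D k f β ≠ 0) :
    ∑ i, β i + k = M := by
  rw [D_apply] at hβ
  obtain ⟨i, -, hi⟩ := Finset.exists_ne_zero_of_sum_ne_zero hβ
  rw [← h _ hi, sum_add_single]

theorem Deg.D {M k : ℕ} {f : Fn ι} (h : Deg (M + k) f) : Deg M (D k f) := fun β hβ => by
  have := h.D' k hβ; omega

theorem Deg.Um {M : ℕ} {f : Fn ι} (h : Deg M f) (ρ : Multiset ℕ) : Deg (M + ρ.sum) (Um ρ f) := by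
  induction ρ using Multiset.induction_on with
  | empty => simpa using h
  | cons k ρ ih =>
    rw [Um_cons, Multiset.sum_cons, add_comm k, ← add_assoc]; exact ih.U k

/-- An antisymmetric function killed by all lowering operators lives on the rest positions. -/
theorem Anti.rest_of_D {g : Fn ι} (hg : Anti g) (hD : ∀ k, 0 < k → Sn.D k g = 0) :
    ∀ m, m < Fintype.card ι → ∀ β, g β ≠ 0 → ∃ i, β i = m := by
  have hE : ∀ j, 0 < j → dn ι (esymm ι ℂ j) g = 0 := by
    intro j hj
    have h := congrArg (fun P => dn ι P g) (mul_esymm_eq_sum ι ℂ j)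
    simp only [map_mul, map_natCast, map_sum, Module.End.mul_apply, LinearMap.sum_apply] at h
    rw [Finset.sum_eq_zero, Module.End.natCast_apply] at h
    · rw [← Nat.cast_smul_eq_nsmul ℂ] at h
      exact (smul_eq_zero.1 h).resolve_left (by exact_mod_cast hj.ne')
    · intro a ha
      simp only [mem_filter, mem_antidiagonal] at ha
      have := hD a.2 (by omega)
      rw [Sn.D] at this
      rw [this, map_zero, map_zero, map_zero]
  intro m
  induction m using Nat.strong_induction_on with
  | _ m ih =>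
  intro hm β hβ
  by_contra hne
  push Not at hne
  have hinj := hg.inj hβ
  set T0 : Finset ι := univ.filter fun i => m < β i with hT0
  have hpos : 0 < T0.card := by
    by_contra h0
    have h0 : T0 = ∅ := Finset.card_eq_zero.1 (by omega)
    have : Fintype.card ι ≤ (Finset.range m).card := by
      rw [← Finset.card_univ]
      refine Finset.card_le_card_of_injOn β (fun i _ => ?_) (fun _ _ _ _ h => hinj h)
      have h1 : i ∉ T0 := by simp [h0]
      have := hne i
      simp only [hT0, mem_filter, mem_univ, true_and] at h1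
      simp only [coe_range, Set.mem_Iio]; omega
    simp at this; omega
  have hind : ∀ (T : Finset ι) (x : ι),
      (⇑(∑ i ∈ T, Finsupp.single i 1 : ι →₀ ℕ) : ι → ℕ) x = if x ∈ T then 1 else 0 := by
    intro T x
    simp [Finsupp.finsetSum_apply, Finsupp.single_apply]
  have h := congrFun (hE _ hpos) (fun x => if x ∈ T0 then β x - 1 else β x)
  simp only [esymm_eq_sum_monomial, map_sum, LinearMap.sum_apply, Finset.sum_apply, dn_monomial,
    Pi.zero_apply] at h
  rw [Finset.sum_eq_single T0] at h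
  · apply hβ
    rw [← h]; congr 1; funext x
    simp only [Pi.add_apply, hind]
    split_ifs with hx
    · simp only [hT0, mem_filter, mem_univ, true_and] at hx; omega
    · rfl
  · intro T hT hne'
    rw [Finset.mem_powersetCard] at hT
    have hex : (T \ T0).Nonempty := by
      rw [Finset.sdiff_nonempty]
      intro hsub
      exact hne' (Finset.eq_of_subset_of_card_le hsub hT.2.ge)
    obtain ⟨i, hi, hmin⟩ := Finset.exists_min_image _ β hex
    rw [Finset.mem_sdiff] at hi
    have hi2 : β i < m := by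
      have := hi.2; have := hne i
      simp only [hT0, mem_filter, mem_univ, true_and] at *; omega
    by_contra h0
    obtain ⟨x, hx⟩ := ih (β i) hi2 (by omega) _ h0
    simp only [Pi.add_apply, hind] at hx
    by_cases hx0 : x ∈ T0
    · rw [if_pos hx0] at hx
      simp only [hT0, mem_filter, mem_univ, true_and] at hx0; omega
    · rw [if_neg hx0] at hx
      by_cases hxT : x ∈ T
      · rw [if_pos hxT] at hx
        have := hmin x (Finset.mem_sdiff.2 ⟨hxT, hx0⟩); omega
      · rw [if_neg hxT, add_zero] at hx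
        exact hxT (hinj hx ▸ hi.1)
  · intro h; exact absurd (Finset.mem_powersetCard.2 ⟨Finset.subset_univ _, rfl⟩) h

end H19.Sn
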