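import Cfsg.Agent.H19.Pim
import Cfsg.Agent.H19.Sub
import Cfsg.Agent.H20.Res

/-! Characters and blocks of a subgroup of index two. -/

open H17 Cfsg
open scoped ComplexConjugate MonoidAlgebra
namespace H19.Ix
open Finset Function Subgroup
open H20 (br sc cent nrm bil vd emin eG eA)

variable {G : Type*} [Group G] {N : Subgroup G}

open Classical in
/-- the sign character attached to a subgroup of index two -/
noncomputable def eps (hN : N.index = 2) : G →* ℂˣ where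
  toFun g := if g ∈ N then 1 else -1
  map_one' := if_pos N.one_mem
  map_mul' a b := by
    have := mul_mem_iff_of_index_two hN (a := a) (b := b)
    by_cases ha : a ∈ N <;> by_cases hb : b ∈ N <;> simp_all

theorem eps_mem (hN : N.index = 2) {g : G} (h : g ∈ N) : (eps hN g : ℂ) = 1 := by
  simp [eps, h]

theorem eps_not_mem (hN : N.index = 2) {g : G} (h : g ∉ N) : (eps hN g : ℂ) = -1 := by
  simp [eps, h]

variable [Finite G]

/-- twist by the sign character -/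
noncomputable def tw (hN : N.index = 2) (χ : IrrCharacter G) : IrrCharacter G :=
  ⟨fun g => (χ : G → ℂ) g * (eps hN g : ℂ), χ.2.mul_linear _⟩

variable (hN : N.index = 2) {χ χ' : IrrCharacter G} {θ : IrrCharacter N}

theorem tw_apply (χ : IrrCharacter G) (g : G) :
    (tw hN χ : G → ℂ) g = (χ : G → ℂ) g * (eps hN g : ℂ) := rfl

theorem tw_coe (χ : IrrCharacter G) (n : N) : (tw hN χ : G → ℂ) n = (χ : G → ℂ) n := by
  rw [tw_apply, eps_mem hN n.2, mul_one]

theorem tw_ne {g : G} (hg : g ∉ N) (h : (χ : G → ℂ) g ≠ 0) : tw hN χ ≠ χ := by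
  intro e
  have := congrArg (fun ψ : IrrCharacter G => (ψ : G → ℂ) g) e
  simp only [tw_apply, eps_not_mem hN hg] at this
  exact h (by linear_combination (-1 / 2) * this)

theorem lam_tw {O : ValuationSubring ℂ} (h : lam O χ = lam O χ') :
    lam O (tw hN χ) = lam O (tw hN χ') := by
  rw [lam_eq_iff] at h ⊢
  intro g
  have : ∀ ψ : IrrCharacter G, centralChar (tw hN ψ : G → ℂ) g =
      (eps hN g : ℂ) * centralChar (ψ : G → ℂ) g := fun ψ => by
    simp only [centralChar, tw_apply, map_one, Units.val_one]; ring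
  rw [this, this, ← mul_sub]
  by_cases hg : g ∈ N
  · rw [eps_mem hN hg, one_mul]; exact h g
  · rw [eps_not_mem hN hg, neg_one_mul]; exact O.nonunits.neg_mem (h g)

/-- `χ` lies over `θ` -/
def Ov (χ : G → ℂ) (θ : N → ℂ) : Prop :=
  @classInner N _ (Fintype.ofFinite N) (fun n : N => χ n) θ ≠ 0

theorem ov_iff [Fintype N] {χ : G → ℂ} {θ : N → ℂ} :
    Ov χ θ ↔ classInner (fun n : N => χ n) θ ≠ 0 := by
  rw [Ov, classInner_congr_fintype]

theorem ov_of_res (h : ∀ n : N, (χ : G → ℂ) n = (θ : N → ℂ) n) : Ov (χ : G → ℂ) (θ : N → ℂ) := by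
  let _ := Fintype.ofFinite N
  rw [Ov, funext h, θ.2.inner_self]; exact one_ne_zero

theorem Ov.twist (h : Ov (χ : G → ℂ) (θ : N → ℂ)) : Ov (tw hN χ : G → ℂ) (θ : N → ℂ) := by
  simpa only [Ov, tw_coe] using h

omit [Finite G] in
theorem inner_res [Fintype G] [Fintype N] (φ ψ : G → ℂ) :
    classInner (fun n : N => φ n) (fun n : N => ψ n) =
      classInner φ ψ + classInner (fun g => φ g * (eps hN g : ℂ)) ψ := by
  classical
  have h1 : ∑ n : N, φ n * conj (ψ n) = ∑ g, if g ∈ N then φ g * conj (ψ g) else 0 := by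
    rw [← Finset.sum_filter]
    exact (Finset.sum_subtype _ (by simp) fun g => φ g * conj (ψ g)).symm
  have h2 : (Nat.card G : ℂ) = Nat.card N * 2 := by rw [← N.card_mul_index, hN]; simp
  rw [classInner_def, classInner_def, classInner_def, h1, ← mul_add, ← Finset.sum_add_distrib, h2,
    mul_inv, mul_assoc, Finset.mul_sum (s := univ) (a := (2 : ℂ)⁻¹)]
  congr 1
  refine Finset.sum_congr rfl fun g _ => ?_
  by_cases hg : g ∈ N
  · rw [if_pos hg, eps_mem hN hg]; ring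
  · rw [if_neg hg, eps_not_mem hN hg]; ring

theorem eq_or_tw (h : Ov (χ : G → ℂ) (θ : N → ℂ)) (h' : Ov (χ' : G → ℂ) (θ : N → ℂ)) :
    χ' = χ ∨ χ' = tw hN χ := by
  classical
  have := Fintype.ofFinite G
  have := Fintype.ofFinite N
  rw [ov_iff] at h h'
  have h1 := (χ.2.isCharacter.restrict N).inner_ne_zero_of_common (χ'.2.isCharacter.restrict N)
    θ.2 h h'
  rw [inner_res hN] at h1
  by_contra hne
  push Not at hne
  refine h1 ?_
  rw [irr_inner, if_neg (Ne.symm hne.1)]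
  erw [irr_inner (tw hN χ), if_neg (Ne.symm hne.2), add_zero]

theorem exists_res (h : tw hN χ ≠ χ) : ∃ θ : IrrCharacter N, ∀ n : N, (χ : G → ℂ) n = (θ : N → ℂ) n := by
  classical
  have := Fintype.ofFinite G
  have := Fintype.ofFinite N
  refine ⟨⟨_, (χ.2.isCharacter.restrict N).isIrr_of_norm_one ?_⟩, fun _ => rfl⟩
  rw [inner_res hN, χ.2.inner_self]
  erw [irr_inner (tw hN χ), if_neg h, add_zero]

theorem Ov.res_eq (h : tw hN χ ≠ χ) (h0 : Ov (χ : G → ℂ) (θ : N → ℂ)) (n : N) :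
    (χ : G → ℂ) n = (θ : N → ℂ) n := by
  obtain ⟨θ', h'⟩ := exists_res hN h
  rw [Ov, funext h'] at h0
  let _ := Fintype.ofFinite N
  rw [h', θ'.2.eq_of_inner_ne_zero θ.2 h0]

theorem Ov.one_eq (h : tw hN χ = χ) (h0 : Ov (χ : G → ℂ) (θ : N → ℂ)) :
    (χ : G → ℂ) 1 = 2 * (θ : N → ℂ) 1 := by
  classical
  have := Fintype.ofFinite G
  have := Fintype.ofFinite N
  have hr := χ.2.isCharacter.restrict N
  obtain ⟨m, hm, -⟩ := hr.exists_coeff
  have h1 := inner_eq_sum_coeff hr.isClassFunction (a := fun x => m x) (b := fun x => m x)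
    (fun x => by simpa using hm x) (fun x => by simpa using hm x)
  rw [inner_res hN, χ.2.inner_self] at h1
  erw [irr_inner (tw hN χ), if_pos h] at h1
  have h2 : ∑ x, (m x : ℤ) * m x = 2 := by exact_mod_cast h1.symm.trans one_add_one_eq_two
  have h3 : (m θ : ℤ) * m θ ≤ 2 :=
    h2 ▸ Finset.single_le_sum (f := fun x => (m x : ℤ) * m x) (fun _ _ => by positivity) (mem_univ θ)
  have h4 : m θ ≠ 0 := by simpa [ov_iff, hm] using h0
  have h5 : m θ = 1 := by
    by_contra h5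
    have : (2 : ℤ) ≤ m θ := by omega
    nlinarith
  have h6 := (isClassFunction_indFun (θ : N → ℂ)).apply_eq_sum 1
  rw [Finset.sum_eq_single χ, indFun_one, hN, frobenius_reciprocity _ χ.2.isClassFunction,
    θ.2.isCharacter.inner_comm hr, hm, h5] at h6
  · simpa using h6.symm
  · intro ψ _ hψ
    rw [frobenius_reciprocity _ ψ.2.isClassFunction,
      θ.2.isCharacter.inner_comm (ψ.2.isCharacter.restrict N), mul_eq_zero]
    left
    by_contra h7
    rcases eq_or_tw hN h0 (ov_iff.2 h7) with e | e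
    · exact hψ e
    · exact hψ (e.trans h)
  · simp

theorem Ov.vd_eq {p : ℕ} (h : p ≠ 2 ∨ tw hN χ ≠ χ)
    (h0 : Ov (χ : G → ℂ) (θ : N → ℂ)) : vd p θ = vd p χ := by
  by_cases h1 : tw hN χ = χ
  · have h2 : charDegree (χ : G → ℂ) = 2 * charDegree (θ : N → ℂ) := by
      have := h0.one_eq hN h1
      rw [← cast_deg, ← cast_deg] at this
      exact_mod_cast this
    have h3 : p ≠ 2 := h.resolve_right (not_not.2 h1)
    rw [vd, vd, h2, Nat.factorization_mul two_ne_zero (deg_ne_zero θ), Nat.prime_two.factorization]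
    simp [h3.symm]
  · have := h0.res_eq hN h1 1
    rw [vd, vd, charDegree, charDegree, ← this]; rfl

theorem rank_le_of_res {p : ℕ} {A : Set (IrrCharacter G)} {C : Set (IrrCharacter N)}
    (h : ∀ θ ∈ C, ∃ χ ∈ A, ∀ n : N, (χ : G → ℂ) n = (θ : N → ℂ) n) :
    blockRank p C ≤ blockRank p A := by
  have := Fintype.ofFinite G
  refine le_trans (Submodule.finrank_mono ?_)
    (Submodule.finrank_map_le (LinearMap.funLeft ℂ ℂ (Subtype.val : N → G)) _)
  rw [Submodule.map_span]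
  refine Submodule.span_mono ?_
  rintro _ ⟨θ, hθ, rfl⟩
  obtain ⟨χ, hχ, h⟩ := h θ hθ
  exact ⟨_, ⟨χ, hχ, rfl⟩, (pr_restrict _ N).trans (by rw [funext h])⟩

include hN in
theorem ind_apply [Fintype G] {θ : N → ℂ} (hθ : IsClassFunction N θ) {t : G} (ht : t ∉ N) (x : N) :
    haveI := normal_of_index_eq_two hN
    indFun N θ x = θ x + θ (MulAut.conjNormal t x) := by
  classical
  have hn := normal_of_index_eq_two hN
  have := Fintype.ofFinite N
  have h1 : ∀ F : G → ℂ, ∑ g, F g = ∑ n : N, F n + ∑ n : N, F (n * t) := fun F => by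
    rw [← Finset.sum_filter_add_sum_filter_not univ (· ∈ N)]
    congr 1
    · exact Finset.sum_subtype _ (by simp) F
    · symm
      refine Finset.sum_bij (fun n _ => n * t) (fun n _ => ?_) (fun a _ b _ h => ?_) (fun g hg => ?_)
        fun _ _ => rfl
      · simpa [N.mul_mem_cancel_left n.2] using ht
      · simpa using h
      · refine ⟨⟨g * t⁻¹, ?_⟩, mem_univ _, by simp⟩
        simp only [mem_filter, mem_univ, true_and] at hg
        simp [mul_mem_iff_of_index_two hN, hg, ht]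
  rw [indFun_normal_apply, h1]
  have h2 : ∀ n : N, θ ⟨n * x * (n : G)⁻¹, hn.conj_mem x x.2 n⟩ = θ x := fun n => hθ x n
  have h3 : ∀ n : N, θ ⟨n * t * x * ((n : G) * t)⁻¹, hn.conj_mem x x.2 _⟩ =
      θ (MulAut.conjNormal t x) := fun n => by
    rw [← hθ (MulAut.conjNormal t x) n]; congr 1; ext; simp [mul_assoc]
  simp only [h2, h3, Finset.sum_const, card_univ, nsmul_eq_mul, ← Nat.card_eq_fintype_card]
  field_simp

theorem Kr_res {A : Set (IrrCharacter G)} (hA : ∀ χ ∈ A, tw hN χ ∈ A) {C : Set (IrrCharacter N)}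
    (hC : ∀ θ, θ ∈ C ↔ ∃ χ ∈ A, Ov (χ : G → ℂ) (θ : N → ℂ)) {t : G} (ht : t ∉ N) (x y : N) :
    haveI := normal_of_index_eq_two hN
    Kr A (x : G) y = Kr C x y + Kr C (MulAut.conjNormal t x) y := by
  classical
  have := Fintype.ofFinite G
  have := Fintype.ofFinite N
  rw [Kr_eq, Kr_eq, Kr_eq, ← Finset.sum_add_distrib]
  have h1 : ∀ θ ∈ univ.filter (· ∈ C), (θ : N → ℂ) x * (θ : N → ℂ) y⁻¹ +
      (θ : N → ℂ) (haveI := normal_of_index_eq_two hN; MulAut.conjNormal t x) * (θ : N → ℂ) y⁻¹ =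
      ∑ χ with χ ∈ A, classInner (fun n : N => (χ : G → ℂ) n) θ * (θ : N → ℂ) y⁻¹ *
        (χ : G → ℂ) x := by
    intro θ hθ
    obtain ⟨χ₀, h0, h0'⟩ := (hC θ).1 (mem_filter.1 hθ).2
    rw [← add_mul, ← ind_apply hN θ.2.isClassFunction ht,
      (isClassFunction_indFun (θ : N → ℂ)).apply_eq_sum, Finset.sum_mul, Finset.sum_filter]
    refine Finset.sum_congr rfl fun χ _ => ?_
    rw [frobenius_reciprocity _ χ.2.isClassFunction,
      θ.2.isCharacter.inner_comm (χ.2.isCharacter.restrict N)]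
    split_ifs with hχ
    · ring
    · rw [mul_eq_zero, mul_eq_zero]; left; left
      by_contra h
      rcases eq_or_tw hN h0' (ov_iff.2 h) with e | e
      · exact hχ (e ▸ h0)
      · exact hχ (e ▸ hA _ h0)
  rw [Finset.sum_congr rfl h1, Finset.sum_comm]
  refine Finset.sum_congr rfl fun χ hχ => ?_
  have h2 := (χ.2.isClassFunction.restrict N).apply_eq_sum y⁻¹
  rw [← Finset.sum_mul, mul_comm, show (y : G)⁻¹ = ((y⁻¹ : N) : G) from rfl, h2, Finset.sum_filter]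
  congr 1
  refine Finset.sum_congr rfl fun θ _ => ?_
  split_ifs with hθ
  · rfl
  · rw [mul_eq_zero]; left
    by_contra h
    exact hθ ((hC θ).2 ⟨χ, (mem_filter.1 hχ).2, ov_iff.2 h⟩)

section Block
variable {O : ValuationSubring ℂ} {p : ℕ} [hp : Fact p.Prime] [CharP (kk O) p]
  {β : Blk O G} {γ : Blk O N}

omit hp [CharP (kk O) p] in
theorem Ov.cover (h : Ov (χ : G → ℂ) (θ : N → ℂ)) : eG (lam O χ) * eA N (lam O θ) ≠ 0 :=
  (@H20.cover_iff _ _ _ _ N (Fintype.ofFinite N) _ _).1 ⟨χ, rfl, θ, rfl, h⟩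

omit hp [CharP (kk O) p] in
theorem exists_ov [N.Normal] (h : eG β * eA N γ ≠ 0) (hθ : θ ∈ irr γ) :
    ∃ χ ∈ irr β, Ov (χ : G → ℂ) (θ : N → ℂ) := by
  obtain ⟨χ, h1, h2⟩ := H20.exists_over_of_cover h hθ
  let _ := Fintype.ofFinite N
  exact ⟨χ, h1, by rwa [Ov, H20.inner_eq_dot]⟩

omit hp [CharP (kk O) p] in
theorem exists_cov (γ : Blk O N) : ∃ β : Blk O G, eG β * eA N γ ≠ 0 := by
  obtain ⟨b, hb, h⟩ := H20.exists_cover (H := ⊤) le_top (H20.isBlk_eA N γ)
  obtain ⟨β, rfl⟩ := hb.exists_eG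
  exact ⟨β, h⟩

theorem exists_def [N.Normal] (h : eG β * eA N γ ≠ 0) {D : Subgroup N} (hD : IsDef p γ D) :
    ∃ E, IsDef p β E ∧ D.map N.subtype = E ⊓ N := by
  obtain ⟨P, hP⟩ := exists_isDef p β
  have hP' := isDef_iff_H20.1 hP
  have hT := H20.top_le_nrm N
  obtain ⟨c, hc, hf, h0⟩ := H20.exists_stable_cover (N := N) (H := ⊤) hT
    (ZZ_fixed (eB β) P) hP.isPGroup le_top hP.br_ne_zero
  have h1 : eG β * c ≠ 0 := fun e => h0 (by rw [e]; simp)
  rw [H20.br_mul hP.isPGroup (ZZ_fixed (eB β) P) hf] at h0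
  have h2 := hP'.inf_of_cover hT le_top (H20.isBlk_eG β) hc h1
    (H20.br_ne_zero_of_le inf_le_left (right_ne_zero_of_mul h0))
  obtain ⟨g, -, hg⟩ := H20.exists_conj_of_cover hT le_top (H20.isBlk_eG β) hc (H20.isBlk_eA N γ) h1 h
  have hs : ∀ g : G, sc g N = N := fun g => H20.sc_eq_of_nrm (hT (mem_top g))
  have hi : ∀ (g : G) (P : Subgroup G), sc g (P ⊓ N) = sc g P ⊓ N := fun g P => by
    rw [H20.sc_inf, hs]
  have h3 := h2.cj g
  rw [hg, hs, hi] at h3
  obtain ⟨x, -, hx⟩ := h3.exists_conj (H20.isBlk_eA N γ) (isDef_map_iff_H20.1 hD)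
  exact ⟨_, (hP.conj g).conj x, by rw [← hx, hi]⟩

include hN in
theorem rank_le_two_mul (h : eG β * eA N γ ≠ 0) :
    blockRank p (irr γ) ≤ 2 * blockRank p (irr β) ∧
      ((∀ χ ∈ irr β, tw hN χ ≠ χ) → blockRank p (irr γ) ≤ blockRank p (irr β)) := by
  classical
  have hn := normal_of_index_eq_two hN
  have h1 : (∀ χ ∈ irr β, tw hN χ ≠ χ) → blockRank p (irr γ) ≤ blockRank p (irr β) := fun h1 =>
    rank_le_of_res fun θ hθ => by
      obtain ⟨χ, h2, h3⟩ := exists_ov h hθ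
      exact ⟨χ, h2, h3.res_eq hN (h1 χ h2)⟩
  refine ⟨?_, h1⟩
  by_cases h2 : ∀ χ ∈ irr β, tw hN χ ≠ χ
  · have := h1 h2; omega
  push Not at h2
  obtain ⟨χ₀, h2, h3⟩ := h2
  have hA : ∀ χ ∈ irr β, tw hN χ ∈ irr β := fun χ hχ => by
    rw [mem_irr] at *
    rw [lam_tw hN (hχ.trans h2.symm), h3, h2]
  have hC : ∀ θ : IrrCharacter N, θ ∈ {θ | eG β * eA N (lam O θ) ≠ 0} ↔
      ∃ χ ∈ irr β, Ov (χ : G → ℂ) (θ : N → ℂ) := fun θ =>
    ⟨fun hθ => exists_ov hθ rfl, fun ⟨χ, e, hχ⟩ => (mem_irr.1 e) ▸ hχ.cover⟩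
  obtain ⟨t, ht⟩ : ∃ t, t ∉ N := by
    by_contra h
    push Not at h
    rw [(eq_top_iff' N).2 h, index_top] at hN
    omega
  have := Fintype.ofFinite G
  have := Fintype.ofFinite N
  obtain ⟨W⟩ := H20.nonempty_wed (kk O) (kk O)[N]
  obtain ⟨m, e1⟩ : ∃ m : ℕ, ∑ y : N with ¬ p ∣ orderOf y, Kr {θ | eG β * eA N (lam O θ) ≠ 0}
      (MulAut.conjNormal t y) y = Nat.card N * m :=
    ⟨_, trace_Kr (p := p) W (MulAut.conjNormal t : MulAut N).toMonoidHom fun b => eG β * eA N b ≠ 0⟩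
  have e2 := sum_Kr_reg (p := p) β
  have e3 := sum_Kr_reg (p := p) γ
  have e4 : ∑ y : N with ¬ p ∣ orderOf y, Kr (irr β) (y : G) y =
      ∑ y : N with ¬ p ∣ orderOf y, Kr {θ | eG β * eA N (lam O θ) ≠ 0} y y + Nat.card N * m := by
    rw [← e1, ← Finset.sum_add_distrib]
    exact Finset.sum_congr rfl fun y _ => Kr_res hN hA hC ht y y
  simp only [Kr_self] at e2 e3 e4
  replace e2 : ∑ y : G with ¬ p ∣ orderOf y, ∑ χ with χ ∈ irr β, ‖(χ : G → ℂ) y‖ ^ 2 =
    Nat.card G * blockRank p (irr β) := by exact_mod_cast e2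
  replace e3 : ∑ y : N with ¬ p ∣ orderOf y, ∑ χ with χ ∈ irr γ, ‖(χ : N → ℂ) y‖ ^ 2 =
    Nat.card N * blockRank p (irr γ) := by exact_mod_cast e3
  replace e4 : ∑ y : N with ¬ p ∣ orderOf y, ∑ χ with χ ∈ irr β, ‖(χ : G → ℂ) y‖ ^ 2 =
    ∑ y : N with ¬ p ∣ orderOf y, ∑ θ with θ ∈ {θ | eG β * eA N (lam O θ) ≠ 0},
        ‖(θ : N → ℂ) y‖ ^ 2 + Nat.card N * m := by exact_mod_cast e4
  have e5 : (Nat.card G : ℝ) = Nat.card N * 2 := by rw [← N.card_mul_index, hN]; simp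
  have e6 : ∑ y : N with ¬ p ∣ orderOf y, ∑ χ with χ ∈ irr β, ‖(χ : G → ℂ) y‖ ^ 2 ≤
      ∑ y : G with ¬ p ∣ orderOf y, ∑ χ with χ ∈ irr β, ‖(χ : G → ℂ) y‖ ^ 2 := by
    rw [← Finset.sum_image (s := univ.filter fun y : N => ¬ p ∣ orderOf y) (g := Subtype.val)
      (f := fun y : G => ∑ χ with χ ∈ irr β, ‖(χ : G → ℂ) y‖ ^ 2) Subtype.val_injective.injOn]
    refine Finset.sum_le_sum_of_subset_of_nonneg (fun y hy => ?_) fun _ _ _ => by positivity
    obtain ⟨x, hx, rfl⟩ := mem_image.1 hy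
    simpa using hx
  have e7 : ∑ y : N with ¬ p ∣ orderOf y, ∑ θ with θ ∈ irr γ, ‖(θ : N → ℂ) y‖ ^ 2 ≤
      ∑ y : N with ¬ p ∣ orderOf y, ∑ θ with θ ∈ {θ | eG β * eA N (lam O θ) ≠ 0},
        ‖(θ : N → ℂ) y‖ ^ 2 :=
    Finset.sum_le_sum fun y _ => Finset.sum_le_sum_of_subset_of_nonneg
      (fun θ hθ => by
        simp only [mem_filter, mem_univ, true_and, mem_irr, Set.mem_ofPred_eq] at hθ ⊢
        rwa [hθ]) fun _ _ _ => by positivity
  have e8 : (0 : ℝ) < Nat.card N := by exact_mod_cast Nat.card_pos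
  have e9 : (0 : ℝ) ≤ Nat.card N * m := by positivity
  have : (Nat.card N : ℝ) * blockRank p (irr γ) ≤ Nat.card N * (2 * blockRank p (irr β)) := by
    rw [e5] at e2; linarith
  exact_mod_cast le_of_mul_le_mul_left this e8

end Block
end H19.Ix
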