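import Cfsg.Agent.H19.Sn9
import Cfsg.Agent.H19.Sn10
import Cfsg.Agent.H20.Kb

/-! Blocks of alternating groups. -/

open H17 Cfsg
open scoped ComplexConjugate MonoidAlgebra
namespace H19.Sn
open Finset Equiv Function Subgroup
open H20 (br sc cent nrm bil vd emin eG eA)
open Nat (factorial)

variable {ι : Type*} [Fintype ι] [DecidableEq ι] {α : Type*} [Fintype α] [DecidableEq α]
  {p : ℕ} [hp : Fact p.Prime] {O : ValuationSubring ℂ} [CharP (kk O) p]

theorem sign_via {Ω : Type*} [Fintype Ω] [DecidableEq Ω] (e : Ω ↪ α) (σ : Perm Ω) :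
    Perm.sign (Perm.viaEmbeddingHom e σ) = Perm.sign σ := by
  rw [Perm.viaEmbeddingHom_apply, Perm.viaEmbedding]
  convert Perm.sign_extendDomain σ _

theorem le_alt (h2 : p ≠ 2) {E : Subgroup (Perm α)} (hE : IsPGroup p E) :
    E ≤ alternatingGroup α := by
  intro x hx
  obtain ⟨k, hk⟩ := hE ⟨x, hx⟩
  have := congrArg (fun y : E => Perm.sign y.1) hk
  simp only [SubgroupClass.coe_pow, map_pow, OneMemClass.coe_one, map_one] at this
  rw [Perm.mem_alternatingGroup]
  rcases Int.units_eq_one_or (Perm.sign x) with h | h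
  · exact h
  · rw [h, (hp.out.odd_of_ne_two h2).pow.neg_one_pow] at this
    exact absurd this (by decide)

/-- a block of the alternating group with defect group `D`, covered by a block of the symmetric
group with core `γ`, weight `w` and defect group `E` -/
structure AB (p : ℕ) (b : Blk O (alternatingGroup α)) (D : Subgroup (alternatingGroup α))
    (B : Blk O (Perm α)) (E : Subgroup (Perm α)) (γ : ι → ℕ) (w : ℕ) : Prop where
  hN : 2 * Fintype.card α ≤ Fintype.card ι
  hD : IsDef p b D
  hE : IsDef p B E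
  cov : eG B * eA _ b ≠ 0
  core : HasCore p B γ w
  map : D.map (alternatingGroup α).subtype = E ⊓ alternatingGroup α

theorem exists_AB (hN : 2 * Fintype.card α ≤ Fintype.card ι) {b : Blk O (alternatingGroup α)}
    {D : Subgroup (alternatingGroup α)} (hD : IsDef p b D) :
    ∃ B E, ∃ γ : ι → ℕ, ∃ w, AB p b D B E γ w := by
  obtain ⟨B, hB⟩ := Ix.exists_cov b
  obtain ⟨E, h1, h2⟩ := Ix.exists_def hB hD
  obtain ⟨γ, w, h⟩ := exists_hasCore (p := p) hN B
  exact ⟨B, E, γ, w, hN, hD, h1, hB, h, h2⟩

namespace AB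
variable {b : Blk O (alternatingGroup α)} {D : Subgroup (alternatingGroup α)}
  {B : Blk O (Perm α)} {E : Subgroup (Perm α)} {γ : ι → ℕ} {w : ℕ} (h : AB p b D B E γ w)
include h

omit hp [CharP (kk O) p] in
theorem mem_iff {x : alternatingGroup α} : x ∈ D ↔ (x : Perm α) ∈ E := by
  have : (x : Perm α) ∈ D.map (alternatingGroup α).subtype ↔ x ∈ D :=
    mem_map_iff_mem (subtype_injective _)
  rw [← this, h.map]; simp

omit hp [CharP (kk O) p] in
theorem card_eq : Nat.card D * (alternatingGroup α).relIndex E = Nat.card E := by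
  rw [← card_map_of_injective (subtype_injective _), h.map, inf_comm, ← inf_relIndex_right,
    relIndex, ← ((alternatingGroup α ⊓ E).subgroupOf E).card_mul_index,
    Nat.card_congr (subgroupOfEquivOfLe inf_le_right).toEquiv]

theorem defect_odd (h2 : p ≠ 2) : blockDefect p (irr b) = (factorial w).factorization p + w := by
  have := h.card_eq
  rw [relIndex_eq_one.2 (le_alt h2 h.hE.isPGroup), mul_one, h.hD.card_eq_pow,
    h.hE.card_eq_pow, h.core.blockDefect_eq h.hN] at this
  exact Nat.pow_right_injective hp.out.two_le this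

theorem defect_le : blockDefect p (irr b) ≤ (factorial w).factorization p + w := by
  have := Nat.le_of_dvd Nat.card_pos (Dvd.intro _ h.card_eq)
  rw [h.hD.card_eq_pow, h.hE.card_eq_pow, h.core.blockDefect_eq h.hN] at this
  exact (Nat.pow_le_pow_iff_right hp.out.one_lt).1 this

theorem defect_two (h2 : p = 2) (hw : w ≠ 0) :
    blockDefect p (irr b) + 1 = (factorial w).factorization p + w := by
  subst h2
  obtain ⟨e, he⟩ := h.core.exists_embedding h.hN h.hE (Ω := Fin 2) (by simp; omega) (R := ⊤)
    (IsPGroup.of_card (n := 1) (by simp [Fintype.card_perm]))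
  have h1 : ¬ E ≤ alternatingGroup α := fun h1 => by
    have := h1 (he ⟨swap 0 1, mem_top _, rfl⟩)
    rw [Perm.mem_alternatingGroup, sign_via, Perm.sign_swap (by decide)] at this
    exact absurd this (by decide)
  have : Nontrivial α := e.injective.nontrivial
  have h3 := relIndex_dvd_index_of_normal (alternatingGroup α) E
  rw [alternatingGroup.index_eq_two, Nat.dvd_prime Nat.prime_two, relIndex_eq_one] at h3
  have := h.card_eq
  rw [h3.resolve_left h1, h.hD.card_eq_pow, h.hE.card_eq_pow,
    h.core.blockDefect_eq h.hN, ← pow_succ] at this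
  exact Nat.pow_right_injective le_rfl this

theorem card_le {s : ℕ} (hs : SectionalPRankLE p s D) {Γ Ω : Type*} [Group Γ] [Fintype Ω]
    [DecidableEq Ω] (hΩ : Fintype.card Ω ≤ p * w) (f : Γ →* Perm Ω) (hf : Injective f)
    (h1 : ∀ x, Perm.sign (f x) = 1) (hc : ∀ x y : Γ, x * y = y * x) (he : ∀ x : Γ, x ^ p = 1) :
    Nat.card Γ ≤ p ^ s := by
  obtain ⟨e, he'⟩ := h.core.exists_embedding h.hN h.hE hΩ (R := f.range)
    (IsPGroup.of_surjective (fun x => ⟨1, by simpa using he x⟩) _ f.rangeRestrict_surjective)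
  refine card_le_of_sectional hs (((Perm.viaEmbeddingHom e).comp f).codRestrict _ fun x => ?_)
    ((MonoidHom.injective_codRestrict _ _ _).2 ((Perm.viaEmbeddingHom_injective e).comp hf))
    (fun x => h.mem_iff.2 (he' ⟨_, ⟨x, rfl⟩, rfl⟩)) hc he
  rw [Perm.mem_alternatingGroup, MonoidHom.comp_apply, sign_via, h1]

theorem tw_ne [Nontrivial α] (h2 : p = 2) (hw : Odd w) {χ : IrrCharacter (Perm α)}
    (hχ : χ ∈ irr B) : Ix.tw alternatingGroup.index_eq_two χ ≠ χ := by
  subst h2
  obtain ⟨u, hu⟩ := exists_type h.core.le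
  refine Ix.tw_ne _ (g := u) ?_ (h.core.apply_ne_zero hu h.hN hχ)
  rw [Perm.mem_alternatingGroup, Perm.sign_of_cycleType, hu]
  simp only [Multiset.sum_replicate, smul_eq_mul, Multiset.card_replicate]
  rw [Odd.neg_one_pow (Even.add_odd (by simp) hw)]
  decide

end AB
end H19.Sn
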