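import Cfsg.Agent.H19.Sn11

/-! Heights of characters of symmetric groups. -/

open H17 Cfsg
open scoped ComplexConjugate MonoidAlgebra
namespace H19.Sn
open Finset Equiv Function Subgroup
open H20 (br sc cent nrm bil vd emin eG eA)
open Nat (factorial)

variable {ι : Type*} [Fintype ι] [DecidableEq ι] {α : Type*} [Fintype α] [DecidableEq α] {p : ℕ}

omit [Fintype ι] [DecidableEq ι] in
theorem inj_fib (ρ : ι → Fin p) (b : ι → ℕ) :
    Injective (fun i => ρ i + p * b i) ↔ ∀ r, Injective fun i : {i // ρ i = r} => b i := by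
  constructor
  · intro h r i j e
    exact Subtype.ext (h (by simp only [i.2, j.2]; rw [show b i = b j from e]))
  · intro h i j e
    have h1 : ρ j = ρ i := by
      have := congrArg (· % p) e
      simp only [Nat.add_mul_mod_self_left, Nat.mod_eq_of_lt (Fin.is_lt _)] at this
      exact Fin.ext this.symm
    simp only [h1, Nat.add_right_inj] at e
    exact congrArg Subtype.val (h (ρ i) (a₁ := ⟨i, rfl⟩) (a₂ := ⟨j, h1⟩)
      (Nat.eq_of_mul_eq_mul_left (ρ i).pos e))

open Classical in
theorem cnt_prod (ρ : ι → Fin p) (w : ℕ) {b : ι → ℕ} {v : Fin p → ℕ}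
    (hb : ∀ r, Injective fun i : {i // ρ i = r} => b i)
    (hv : ∀ r, ∑ i : {i // ρ i = r}, b i = M0 {i // ρ i = r} + v r) (hw : ∑ r, v r = w) :
    cnt p w (fun i => ρ i + p * b i) * ∏ r, factorial (v r) =
      factorial w * ∏ r, cnt 1 (v r) fun i : {i // ρ i = r} => b i := by
  induction w generalizing b v with
  | zero =>
    have : v = 0 := funext fun i => by simpa using (Finset.sum_eq_zero_iff.1 hw) i (mem_univ i)
    subst this
    simp [cnt]
  | succ w ih =>
    rw [cnt, ← Fintype.sum_fiberwise ρ, Finset.sum_mul, Nat.factorial_succ, ← hw, Finset.sum_mul,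
      Finset.sum_mul]
    refine Finset.sum_congr rfl fun r _ => ?_
    have e1 : ∀ i : {i // ρ i = r}, (fun j : {i // ρ i = r} => (b - Pi.single i.1 1 : ι → ℕ) j) =
        (fun j : {i // ρ i = r} => b j) - Pi.single i 1 := fun i => funext fun j => by
      by_cases h : j = i
      · subst h; simp
      · rw [sub_single_ne _ h, sub_single_ne _ (fun e => h (Subtype.ext e))]
    have e2 : ∀ (i : {i // ρ i = r}) s, s ≠ r →
        (fun j : {i // ρ i = s} => (b - Pi.single i.1 1 : ι → ℕ) j) =
          fun j : {i // ρ i = s} => b j :=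
      fun i s hs => funext fun j => sub_single_ne _ (fun e => hs (by rw [← j.2, e, i.2])) _
    have e3 : ∀ i, 1 ≤ b i → ((fun i => ρ i + p * b i) - Pi.single i p : ι → ℕ) =
        fun j => ρ j + p * (b - Pi.single i 1 : ι → ℕ) j := fun i hi => by
      have := mv_sub (p := p) (fun i => (ρ i : ℕ)) hi
      rwa [mul_one] at this
    have e4 : ∀ i, p ≤ ρ i + p * b i ↔ 1 ≤ b i := fun i => by
      have := (ρ i).is_lt
      rcases b i with _ | k
      · simp
      · simp only [Nat.mul_succ, Nat.le_add_left, iff_true]; omega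
    have e5 : ∀ i : {i // ρ i = r}, (p ≤ ρ i + p * b i ∧
        Injective ((fun i => ρ i + p * b i) - Pi.single i.1 p : ι → ℕ)) ↔
        (1 ≤ b i ∧ Injective ((fun j : {i // ρ i = r} => b j) - Pi.single i 1 : _ → ℕ)) := fun i => by
      rw [e4]
      refine and_congr_right fun hi => ?_
      rw [e3 _ hi, inj_fib, ← e1]
      refine ⟨fun h => h r, fun h s => ?_⟩
      by_cases hs : s = r
      · subst hs; exact h
      · rw [e2 i s hs]; exact hb s
    have e6 : ∀ i : {i // ρ i = r}, 1 ≤ b i →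
        ∑ j : {i // ρ i = r}, ((fun j : {i // ρ i = r} => b j) - Pi.single i 1 : _ → ℕ) j + 1 =
          M0 {i // ρ i = r} + v r := fun i hi => by
      rw [← hv, sum_sub_single (β := fun j : {i // ρ i = r} => b j) hi]
    simp only [e5]
    rcases hr : v r with _ | k
    · rw [zero_mul, zero_mul, Finset.sum_eq_zero, zero_mul]
      intro i _
      rw [if_neg]
      rintro ⟨h1, h2⟩
      have := M0_le h2
      have := e6 i h1
      omega
    · rw [← Finset.mul_prod_erase _ (fun s => cnt 1 (v s) _) (mem_univ r), hr, cnt, Finset.sum_mul,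
        Finset.sum_mul, Finset.mul_sum]
      refine Finset.sum_congr rfl fun i _ => ?_
      split_ifs with h
      swap
      · simp
      have h1 : 1 ≤ v r := by omega
      have := ih (b := b - Pi.single i.1 1) (v := v - Pi.single r 1) (fun s => by
          by_cases hs : s = r
          · subst hs; rw [e1]; exact h.2
          · rw [e2 i s hs]; exact hb s)
        (fun s => by
          by_cases hs : s = r
          · subst hs
            have := e6 i h.1
            have h2 : ∑ j : {i // ρ i = s}, (b - Pi.single i.1 1 : ι → ℕ) j = _ :=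
              Finset.sum_congr rfl fun j _ => congrFun (e1 i) j
            rw [← h2] at this
            rw [sub_single_self]; omega
          · rw [sub_single_ne _ hs, ← hv]
            exact Finset.sum_congr rfl fun j _ => congrFun (e2 i s hs) j)
        (by have := sum_sub_single h1; omega)
      have f1 : ∏ s ∈ univ.erase r, factorial ((v - Pi.single r 1 : Fin p → ℕ) s) =
          ∏ s ∈ univ.erase r, factorial (v s) := Finset.prod_congr rfl fun s hs => by
        rw [sub_single_ne _ (ne_of_mem_erase hs)]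
      have f2 : ∏ s ∈ univ.erase r, cnt 1 ((v - Pi.single r 1 : Fin p → ℕ) s)
            (fun j : {i // ρ i = s} => (b - Pi.single i.1 1 : ι → ℕ) j) =
          ∏ s ∈ univ.erase r, cnt 1 (v s) fun j : {i // ρ i = s} => b j :=
        Finset.prod_congr rfl fun s hs => by
          rw [sub_single_ne _ (ne_of_mem_erase hs), e2 i s (ne_of_mem_erase hs)]
      rw [← Finset.mul_prod_erase _ _ (mem_univ r), ← Finset.mul_prod_erase _ _ (mem_univ r),
        sub_single_self, hr, Nat.add_sub_cancel, e1, f1, f2] at this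
      rw [e3 _ h.1, ← Finset.mul_prod_erase _ _ (mem_univ r), hr, Nat.factorial_succ, mul_assoc,
        mul_left_comm, this, mul_assoc]

theorem not_dvd_cnt (hp : p.Prime) {β : ι → ℕ} (hβ : Injective β) {n w : ℕ}
    (hn : ∑ i, β i = M0 ι + n) (hw : ∑ i, β i = ∑ i, core p β i + p * w) (hle : p * w ≤ n)
    (hN : 3 * n ≤ Fintype.card ι) (hlt : w < p) : ¬ p ∣ cnt p w β := by
  classical
  let ρ : ι → Fin p := fun i => ⟨β i % p, Nat.mod_lt _ hp.pos⟩
  have e1 : β = fun i => ρ i + p * (β i / p) := funext fun i => (Nat.mod_add_div _ _).symm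
  have e2 : core p β = fun i => ρ i + p * (core p β i / p) := funext fun i => by
    rw [← Nat.mod_add_div (core p β i) p, core_mod]; simp [ρ, Nat.add_mul_div_left _ _ hp.pos,
      Nat.div_eq_of_lt (Nat.mod_lt _ hp.pos)]
  have hb := (inj_fib ρ _).1 (e1 ▸ hβ)
  have hγ := (core_spec hp.pos hβ).1
  have hc := (inj_fib ρ _).1 (e2 ▸ hγ.1)
  have h1 : ∀ r, ∑ i : {i // ρ i = r}, core p β i / p = M0 {i // ρ i = r} := fun r => by
    refine (rest_dl 1).sum_eq one_pos ⟨hc r, fun i hi => ?_⟩ (res_one _ _)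
    obtain ⟨j, hj⟩ := hγ.2 i ((Nat.one_le_div_iff hp.pos).1 hi)
    refine ⟨⟨j, i.2 ▸ Fin.ext ?_⟩, ?_⟩
    · simp only [ρ]; rw [← core_mod p β j, ← core_mod p β i, ← hj, Nat.add_mod_right]
    · simp only; rw [← hj, Nat.add_div_right _ hp.pos]
  choose v hv using fun r => Nat.exists_eq_add_of_le (M0_le (hb r))
  have h2 : ∑ r, v r = w := by
    have h3 : ∑ i, β i / p = ∑ i, core p β i / p + ∑ r, v r := by
      rw [← Fintype.sum_fiberwise ρ, ← Fintype.sum_fiberwise ρ, ← Finset.sum_add_distrib]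
      exact Finset.sum_congr rfl fun r _ => by rw [h1, ← hv]
    rw [e2] at hw
    conv_lhs at hw => rw [e1]
    simp only [Finset.sum_add_distrib, ← Finset.mul_sum, h3, mul_add, add_assoc,
      Nat.add_right_inj] at hw
    exact Nat.eq_of_mul_eq_mul_left hp.pos hw
  have h3 := cnt_prod ρ w (b := fun i => β i / p) hb hv h2
  rw [← e1] at h3
  intro hd
  have h4 := hd.mul_right (∏ r, factorial (v r))
  rw [h3, hp.dvd_mul, hp.dvd_factorial, hp.prime.dvd_finsetProd_iff] at h4
  obtain ⟨r, -, h5⟩ := h4.resolve_left (by omega)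
  have h6 : v r ≤ w := h2 ▸ Finset.single_le_sum (fun _ _ => Nat.zero_le _) (mem_univ r)
  refine absurd (hp.dvd_factorial.1 (h5.trans (cnt_one_dvd (hb r) (hv r) ?_))) (by omega)
  have h7 : ∀ m : Fin (2 * v r), ∃ i, β i = r + p * m := fun m =>
    exists_eq_of_low hβ hn.le (by
      have h8 : p * (m + 1) ≤ p * (2 * w) := Nat.mul_le_mul_left _ (by omega)
      have := r.is_lt
      rw [Nat.mul_succ, Nat.mul_left_comm] at h8
      omega)
  choose f hf using h7
  have := Fintype.card_le_of_injective (fun m : Fin (2 * v r) => (⟨f m, Fin.ext (by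
    simp [ρ, hf, Nat.mod_eq_of_lt r.is_lt])⟩ : {i // ρ i = r})) fun m m' e => by
      have := congrArg (fun x => β x.1) e
      simp only [hf, Nat.add_right_inj] at this
      exact Fin.ext (Nat.eq_of_mul_eq_mul_left hp.pos this)
  simpa using this

theorem zz_replicate_add {ρ : Multiset ℕ} (h : p ∉ ρ) (w : ℕ) :
    zz (Multiset.replicate w p + ρ) = factorial w * p ^ w * zz ρ := by
  induction w with
  | zero => simp
  | succ w ih =>
    rw [Multiset.replicate_succ, Multiset.cons_add, zz_cons, ih, Multiset.count_add,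
      Multiset.count_replicate_self, Multiset.count_eq_zero.2 h, Nat.factorial_succ]
    ring

omit [Fintype ι] in
theorem top_single {γ : ι → ℕ} {i : ι} (hi : Top p γ i) (v : ℕ) :
    ∀ l, (Pi.single i v : ι → ℕ) l ≠ 0 → Top p γ l := fun l h => by
  by_cases hl : l = i
  · rwa [hl]
  · simp [Pi.single_eq_of_ne hl] at h

variable [hp : Fact p.Prime] {O : ValuationSubring ℂ} [CharP (kk O) p]
  {B : Blk O (Perm α)} {γ : ι → ℕ} {w : ℕ} (hN : 2 * Fintype.card α ≤ Fintype.card ι)
include hN

theorem HasCore.exists_irr (h : HasCore p B γ w) {a : ι → ℕ} (hi : Injective (mv p γ a))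
    (ha : ∑ i, a i = w) : ∃ χ ∈ irr B, Lab (χ : Perm α → ℂ) (mv p γ a) := by
  obtain ⟨χ, hχ⟩ := exists_irr_lab hN hi (by rw [sum_mv, ha, h.2.1])
  exact ⟨χ, h.mem hN hχ (res_mv _ _), hχ⟩

theorem HasCore.exists_cnt_one (h : HasCore p B γ w) :
    ∃ χ ∈ irr B, ∃ β, Lab (χ : Perm α → ℂ) β ∧ core p β = γ ∧ cnt p w β = 1 := by
  rcases w with _ | w
  · obtain ⟨χ, hχ⟩ := irr_nonempty B
    obtain ⟨β, h1, h2⟩ := h.exists_lab hN hχ
    exact ⟨χ, hχ, β, h1, h2, rfl⟩
  have : Nonempty ι := by
    rw [← Fintype.card_pos_iff]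
    have := h.le
    have : 0 < p * (w + 1) := Nat.mul_pos hp.out.pos (Nat.succ_pos w)
    omega
  obtain ⟨i, hi, -⟩ := exists_top (p := p) γ rfl (Classical.arbitrary ι)
  obtain ⟨χ, h1, h2⟩ := h.exists_irr hN (inj_mv h.1.1 (top_single hi (w + 1))) (by simp)
  obtain ⟨h3, h4⟩ := cnt_top hp.out.pos h.1 (w + 1) (top_single hi (w + 1)) (by simp)
  refine ⟨χ, h1, _, h2, h3, ?_⟩
  rw [Finset.prod_eq_single i (fun l _ hl => by simp [Pi.single_eq_of_ne hl]) (by simp),
    Pi.single_eq_same] at h4
  exact Nat.eq_of_mul_eq_mul_right (Nat.factorial_pos _) (by rw [h4, one_mul])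

theorem HasCore.height_eq (h : HasCore p B γ w) {χ : IrrCharacter (Perm α)} (hχ : χ ∈ irr B)
    {β : ι → ℕ} (hβ : Lab (χ : Perm α → ℂ) β) (hc : core p β = γ) :
    blockHeight p (irr B) χ = (cnt p w β).factorization p := by
  obtain ⟨u, hu⟩ := exists_type h.le
  obtain ⟨ξ, hξ, h0⟩ := h.exists_core hu hN
  obtain ⟨y, hy⟩ := exists_isDefCl (lam O ξ)
  have h1 := H20.val_irr_of_cls hy.2 (H20.defCl_fact hy) (mem_irr_lam ξ)
  obtain ⟨ξ', h2, h3⟩ := H20.exists_height_zero p (irr_nonempty (lam O ξ))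
  rw [irr_lam_eq_singleton h0] at h2
  rw [h2] at h3
  rw [h3, pow_zero] at h1
  have key : ∀ {χ : Perm α → ℂ} {β : ι → ℕ}, Lab χ β → core p β = γ →
      O.valuation (χ (u * Perm.ofSubtype y)) = O.valuation (p : ℂ) ^ (cnt p w β).factorization p := by
    intro χ β hβ hc
    obtain ⟨h4, e, he, h5⟩ := h.apply_mul hu hξ hβ hc
    rw [h5, map_mul, map_mul, h1, mul_one, val_natCast O p h4.ne']
    rcases he with rfl | rfl <;> simp
  obtain ⟨χ₁, h4, β₁, h5, h6, h7⟩ := h.exists_cnt_one hN
  have h8 := H20.val_centralChar (p := p) (O := O) χ₁ (u * Perm.ofSubtype y)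
  rw [key h5 h6, h7, Nat.factorization_one, Finsupp.zero_apply, pow_zero, one_mul] at h8
  have h9 : blockDefect p (irr B) ≤
      (Nat.card (centralizer ({u * Perm.ofSubtype y} : Set (Perm α)))).factorization p := by
    have hz : zz y.partition.parts ≠ 0 := by rw [zz_parts]; exact Nat.card_pos.ne'
    rw [← zz_parts, parts_mul hu, zz_replicate_add fun hm => hy.preg ((sing_iff' y).2 ⟨p, hm, dvd_rfl⟩),
      h.blockDefect_eq hN, Nat.factorization_mul (mul_ne_zero (Nat.factorial_ne_zero _)
        (pow_ne_zero _ hp.out.ne_zero)) hz, Nat.factorization_mul (Nat.factorial_ne_zero _)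
        (pow_ne_zero _ hp.out.ne_zero), hp.out.factorization_pow]
    simp
  have h10 := H20.emin_le (p := p) h4
  have h11 := H20.defect_add_emin p (irr_nonempty B)
  have h12 : O.valuation (centralChar (χ₁ : Perm α → ℂ) (u * Perm.ofSubtype y)) ≤ 1 :=
    (O.valuation_le_one_iff _).2 (centralChar_mem O χ₁.2 _)
  have h13 : vd p χ₁ + (Nat.card (centralizer ({u * Perm.ofSubtype y} : Set (Perm α)))).factorization p
      ≤ (Nat.card (Perm α)).factorization p := by
    rw [← val_p_pow_le_iff O p, ← h8]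
    exact mul_le_of_le_one_left' h12
  rw [show vd p χ₁ + _ = (Nat.card (Perm α)).factorization p by omega,
    mul_eq_right₀ (pow_ne_zero _ (H20.val_p_ne_zero O p)), ← H20.blk_cls_ne_zero_iff h4] at h8
  have := H20.val_irr_of_cls h8 (by omega) hχ
  rw [key hβ hc, H20.val_p_pow_inj] at this
  exact this.symm

end H19.Sn
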