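import Cfsg.Agent.H19.Sn12
import Mathlib.GroupTheory.SemidirectProduct
import Mathlib.GroupTheory.FiniteAbelian.Duality

/-! Sylow subgroups of symmetric groups as wreath products; characters of degree `p`. -/

open H17 Cfsg
namespace H19.Sn
open Finset Equiv Function Subgroup SemidirectProduct
open Nat (factorial)

variable {p : ℕ} [hp : Fact p.Prime]

/-- there is an irreducible character of degree `n` -/
def HasDeg (n : ℕ) (G : Type*) [Group G] : Prop := ∃ χ : IrrCharacter G, charDegree (χ : G → ℂ) = n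

theorem HasDeg.of_surj {n : ℕ} {G H : Type*} [Group G] [Group H] (h : HasDeg n H) (f : G →* H)
    (hf : Surjective f) : HasDeg n G := by
  obtain ⟨χ, hχ⟩ := h
  exact ⟨⟨_, χ.2.comp_of_surjective f hf⟩, by simpa [charDegree] using hχ⟩

theorem hasDeg_of_index {G : Type*} [Group G] [Finite G] (hG : IsPGroup p G) {L : Subgroup G}
    (hL : L.index = p) (l : L →* ℂˣ) {x y : L} (h : IsConj (x : G) y) (hne : l x ≠ l y) :
    HasDeg p G := by
  have := Fintype.ofFinite G
  have := Fintype.ofFinite L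
  have hl := isIrr_linear l
  obtain ⟨χ, hχ, h0⟩ := hl.exists_over
  obtain ⟨n, hn, h1⟩ := hχ.exists_pos_one
  refine ⟨⟨χ, hχ⟩, (charDegree_natCast h1).trans ?_⟩
  obtain ⟨k, hk⟩ := IsPGroup.iff_card.1 hG
  obtain ⟨j, -, rfl⟩ := (Nat.dvd_prime_pow hp.out).1 (hk ▸ hχ.degree_dvd_card h1)
  have h2 := hl.isCharacter.ind.irr_degree_le hχ (by
    rwa [frobenius_reciprocity _ hχ.isClassFunction,
      hl.isCharacter.inner_comm (hχ.isCharacter.restrict L)])
  rw [h1, indFun_one, hL] at h2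
  simp only [map_one, Units.val_one, mul_one, Complex.natCast_re, Nat.cast_le] at h2
  have h3 : j ≤ 1 := (Nat.pow_le_pow_iff_right hp.out.one_lt).1 (by simpa using h2)
  have h4 : j ≠ 0 := by
    rintro rfl
    have h4 := (hχ.isCharacter.restrict L).eq_irr_of_degree hl h0 (by simpa using h1)
    refine hne (Units.ext ?_)
    rw [← congrFun h4 x, ← congrFun h4 y]
    exact hχ.isClassFunction.of_isConj h
  rw [show j = 1 by omega, pow_one]

variable {J : Type*} [Fintype J] [DecidableEq J] {C : Type*} [CommGroup C] [Fintype C]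
  [DecidableEq C]

/-- permutational wreath product -/
abbrev Wr (C : Type*) [CommGroup C] (Q : Subgroup (Perm J)) :=
  (J → C) ⋊[(mulAutArrow : Q →* MulAut (J → C))] Q

/-- permuting the first coordinate -/
def fstHom (C : Type*) : Perm J →* Perm (J × C) where
  toFun q := Equiv.prodCongrLeft fun _ => q
  map_one' := by ext ⟨i, x⟩ <;> simp
  map_mul' γ γ' := by ext ⟨i, x⟩ <;> simp

variable (C) in
/-- the imprimitive action of the wreath product -/
def wrHom (Q : Subgroup (Perm J)) : Wr C Q →* Perm (J × C) :=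
  SemidirectProduct.lift (piHom J (MulAction.toPermHom C C)) ((fstHom C).comp Q.subtype) fun q => by
    ext f ⟨i, c⟩ <;> simp [piHom_apply, fstHom, mulAutArrow_apply_apply]
    rfl

omit [Fintype J] [DecidableEq J] [Fintype C] [DecidableEq C] in
theorem wrHom_apply (Q : Subgroup (Perm J)) (x : Wr C Q) (i : J) (c : C) :
    wrHom C Q x (i, c) = (x.right.1 i, x.left (x.right.1 i) * c) := rfl

omit [Fintype J] [DecidableEq J] [Fintype C] [DecidableEq C] in
theorem wrHom_injective (Q : Subgroup (Perm J)) : Injective (wrHom C Q) := by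
  rw [injective_iff_map_eq_one]
  intro x hx
  have h : ∀ i, (x.right.1 i, x.left (x.right.1 i) * 1) = (i, 1) := fun i => by
    rw [← wrHom_apply, hx]; rfl
  simp only [Prod.mk.injEq, mul_one] at h
  ext i
  · have := (h i).2; rwa [(h i).1] at this
  · exact (h i).1

theorem sign_wrHom_inl (Q : Subgroup (Perm J)) (i : J) (c : C) :
    Perm.sign (wrHom C Q (inl (Pi.mulSingle i c))) = Perm.sign (MulAction.toPerm c : Perm C) := by
  rw [wrHom, lift_inl, sign_piHom, Finset.prod_eq_single i]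
  · simp
  · intro j _ hj; rw [Pi.mulSingle_eq_of_ne hj, map_one, map_one]
  · simp

theorem sign_wrHom_inr (Q : Subgroup (Perm J)) (q : Q) :
    Perm.sign (wrHom C Q (inr q)) = Perm.sign q.1 ^ Fintype.card C := by
  rw [wrHom, lift_inr]
  exact (Perm.sign_prodCongrLeft fun _ : C => q.1).trans (by simp)

omit [DecidableEq C] [DecidableEq J] in
theorem exists_sylow_wr (hC : Fintype.card C = p) (Q : Sylow p (Perm J)) :
    ∃ P : Sylow p (Perm (J × C)), (P : Subgroup (Perm (J × C))) = (wrHom C (Q : Subgroup (Perm J))).range := by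
  classical
  refine ⟨Sylow.ofCard (wrHom C (Q : Subgroup (Perm J))).range ?_, rfl⟩
  rw [← Nat.card_congr (MonoidHom.ofInjective (wrHom_injective _)).toEquiv, SemidirectProduct.card,
    Sylow.card_eq_multiplicity, Nat.card_perm, Nat.card_perm, Nat.card_pi, Nat.card_prod,
    Nat.card_eq_fintype_card (α := C), hC, mul_comm _ p, Nat.factorization_factorial_mul hp.out]
  simp [pow_add, mul_comm]

omit [DecidableEq C] in
theorem hasDeg_wr {Q : Subgroup (Perm J)} (hQ : IsPGroup p Q) {T : Subgroup (Wr C Q)}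
    (hT : IsPGroup p T) (h1 : ∀ q, inr q ∈ T) {i : J} {q₀ : Q} (hq : q₀.1 i ≠ i) {g : C} (hg : g ≠ 1)
    {f : J → C} (hf : ∀ q : Q, f (q.1 i) = 1) (h2 : inl (Pi.mulSingle i g * f) ∈ T) :
    HasDeg p T := by
  classical
  have : Finite (Wr C Q) := Finite.of_equiv _ SemidirectProduct.equivProd.symm
  obtain ⟨M, hM, hle⟩ := (eq_top_or_exists_le_coatom (MulAction.stabilizer Q i)).resolve_left
    fun e => hq ((eq_top_iff' _).1 e q₀)
  obtain ⟨t, ht⟩ : ∃ t, t ∉ M := by
    by_contra h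
    push Not at h
    exact hM.1 ((eq_top_iff' _).2 h)
  obtain ⟨μ, hμ⟩ := CommGroup.exists_apply_ne_one_of_hasEnoughRootsOfUnity C ℂ hg
  let S := univ.filter fun j => ∃ m ∈ M, m.1 i = j
  have hS : ∀ m ∈ M, ∀ j, m.1 j ∈ S ↔ j ∈ S := fun m hm j => by
    simp only [S, mem_filter, mem_univ, true_and]
    exact ⟨fun ⟨n, hn, e⟩ => ⟨m⁻¹ * n, mul_mem (inv_mem hm) hn, by simp [e]⟩,
      fun ⟨n, hn, e⟩ => ⟨m * n, mul_mem hm hn, by simp [e]⟩⟩
  let π : T →* Q := rightHom.comp T.subtype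
  have hπ : Surjective π := fun q => ⟨⟨inr q, h1 q⟩, rfl⟩
  let l : M.comap π →* C :=
    { toFun := fun x => ∏ j ∈ S, x.1.1.left j
      map_one' := by simp
      map_mul' := fun x y => by
        rw [← Finset.prod_equiv (f := fun j => y.1.1.left (x.1.1.right⁻¹.1 j)) (s := S)
          x.1.1.right⁻¹.1 (fun j => (hS _ (inv_mem x.2) j).symm) (fun _ _ => rfl),
          ← Finset.prod_mul_distrib]
        rfl }
  have h3 : inl (mulAutArrow t (Pi.mulSingle i g * f)) ∈ T := by
    rw [inl_aut]; exact mul_mem (mul_mem (h1 t) h2) (h1 _)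
  refine hasDeg_of_index hT (L := M.comap π)
    (by rw [index_comap_of_surjective _ hπ, H9.index_of_isCoatom hQ hM]) (μ.comp l)
    (x := ⟨⟨_, h2⟩, by simp [π, one_mem]⟩) (y := ⟨⟨_, h3⟩, by simp [π, one_mem]⟩)
    (isConj_iff.2 ⟨⟨inr t, h1 t⟩, Subtype.ext (by simp [inl_aut])⟩) ?_
  have e1 : ∏ j ∈ S, (Pi.mulSingle i g * f : J → C) j = g := by
    rw [Finset.prod_eq_single i]
    · simpa using hf 1
    · intro j hj hji
      obtain ⟨m, -, rfl⟩ := (mem_filter.1 hj).2
      simp [Pi.mulSingle_eq_of_ne hji, hf]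
    · intro h; exact absurd (mem_filter.2 ⟨mem_univ _, 1, one_mem _, rfl⟩) h
  have e2 : ∏ j ∈ S, (Pi.mulSingle i g * f : J → C) (t⁻¹.1 j) = 1 := by
    refine Finset.prod_eq_one fun j hj => ?_
    obtain ⟨m, hm, rfl⟩ := (mem_filter.1 hj).2
    have h4 : (t⁻¹ * m).1 i ≠ i := fun e => ht (by
      simpa using mul_mem hm (inv_mem (hle (show t⁻¹ * m ∈ MulAction.stabilizer Q i from e))))
    have h5 := hf (t⁻¹ * m)
    show Pi.mulSingle (M := fun _ => C) i g ((t⁻¹ * m).1 i) * f ((t⁻¹ * m).1 i) = 1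
    rw [Pi.mulSingle_eq_of_ne h4, h5, one_mul]
  show μ (∏ j ∈ S, (Pi.mulSingle i g * f : J → C) j) ≠
    μ (∏ j ∈ S, (Pi.mulSingle i g * f : J → C) (t⁻¹.1 j))
  rwa [e1, e2, map_one]

omit [DecidableEq J] in
theorem exists_moved (Q : Sylow p (Perm J)) (h : p ≤ Fintype.card J) :
    ∃ (i : J) (q : (Q : Subgroup (Perm J))), q.1 i ≠ i := by
  by_contra hn
  push Not at hn
  have : (Q : Subgroup (Perm J)) = ⊥ := (eq_bot_iff_forall _).2 fun x hx =>
    Equiv.ext fun i => hn i ⟨x, hx⟩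
  refine Q.ne_bot_of_dvd_card ?_ this
  rw [Nat.card_perm, Nat.card_eq_fintype_card]
  exact (hp.out.dvd_factorial).2 h

theorem hasDeg_sylow {Ω : Type*} [Fintype Ω] {v : ℕ} (hΩ : Fintype.card Ω = p * v) (hv : p ≤ v)
    (P : Sylow p (Perm Ω)) : HasDeg p P := by
  classical
  let C := Multiplicative (ZMod p)
  have hC : Fintype.card C = p := by simp [C]
  let Q : Sylow p (Perm (Fin v)) := default
  obtain ⟨P', hP'⟩ := exists_sylow_wr hC Q
  obtain ⟨i, q, hq⟩ := exists_moved Q (by simpa using hv)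
  obtain ⟨g, hg⟩ := exists_ne (1 : C)
  have h1 : IsPGroup p (Wr C (Q : Subgroup (Perm (Fin v)))) :=
    (hP' ▸ P'.isPGroup').of_equiv (MonoidHom.ofInjective (wrHom_injective _)).symm
  have h2 := hasDeg_wr Q.isPGroup' (T := ⊤) (h1.to_subgroup _) (fun _ => mem_top _) hq hg
    (f := 1) (fun _ => rfl) (mem_top _)
  let e : Fin v × C ≃ Ω := Fintype.equivOfCardEq (by simp [hC, hΩ, mul_comm])
  let e1 := (P.equiv (P'.mapSurjective (f := e.permCongrHom.toMonoidHom) e.permCongrHom.surjective))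
  let e2 := ((P' : Subgroup (Perm (Fin v × C))).equivMapOfInjective e.permCongrHom.toMonoidHom
    e.permCongrHom.injective).symm
  let e3 := (MulEquiv.subgroupCongr hP').trans (MonoidHom.ofInjective (wrHom_injective _)).symm
  let e4 := ((e1.trans e2).trans e3).trans topEquiv.symm
  exact h2.of_surj e4.toMonoidHom e4.surjective

variable (C) in
/-- the even part of the wreath product -/
def WrE (Q : Subgroup (Perm J)) : Subgroup (Wr C Q) := (Perm.sign.comp (wrHom C Q)).ker

theorem hasDeg_wrE (hC : Fintype.card C = p) (Q : Sylow p (Perm J)) (h1 : p ≤ Fintype.card J)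
    (h3 : 3 ≤ Fintype.card J) : HasDeg p (WrE C (Q : Subgroup (Perm J))) := by
  classical
  obtain ⟨P', hP'⟩ := exists_sylow_wr hC Q
  obtain ⟨i, q, hq⟩ := exists_moved Q h1
  have : Nontrivial C := Fintype.one_lt_card_iff_nontrivial.1 (hC ▸ hp.out.one_lt)
  obtain ⟨g, hg⟩ := exists_ne (1 : C)
  have h1 : IsPGroup p (Wr C (Q : Subgroup (Perm J))) :=
    (hP' ▸ P'.isPGroup').of_equiv (MonoidHom.ofInjective (wrHom_injective _)).symm
  by_cases h2 : p = 2
  swap
  · have h4 : ∀ x, x ∈ WrE C (Q : Subgroup (Perm J)) := fun x =>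
      le_alt h2 P'.isPGroup' (hP' ▸ ⟨x, rfl⟩)
    exact hasDeg_wr Q.isPGroup' (h1.to_subgroup _) (fun _ => h4 _) hq hg (f := 1) (fun _ => rfl) (h4 _)
  subst h2
  have h4 : ∀ q, inr q ∈ WrE C (Q : Subgroup (Perm J)) := fun q => by
    show Perm.sign (wrHom C _ _) = 1
    rw [sign_wrHom_inr, hC, Int.units_sq]
  by_cases h5 : ∀ k, ∃ q : (Q : Subgroup (Perm J)), q.1 i = k
  · have : MulAction.IsPretransitive (Q : Subgroup (Perm J)) J := ⟨fun a b => by
      obtain ⟨x, rfl⟩ := h5 a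
      obtain ⟨y, rfl⟩ := h5 b
      exact ⟨y * x⁻¹, by simp [Subgroup.smul_def]⟩⟩
    obtain ⟨k, hk⟩ := Q.isPGroup'.index (MulAction.stabilizer _ i)
    rw [MulAction.index_stabilizer_of_transitive, Nat.card_eq_fintype_card] at hk
    have h6 : 2 ∣ Fintype.card J := by
      rw [hk]; refine dvd_pow_self 2 ?_
      rintro rfl; omega
    obtain ⟨v, hv⟩ := h6
    exact (hasDeg_sylow hv (by omega) Q).of_surj (rightHom.comp (WrE C _).subtype)
      fun q => ⟨⟨inr q, h4 q⟩, rfl⟩
  · push Not at h5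
    obtain ⟨k, hk⟩ := h5
    refine hasDeg_wr Q.isPGroup' (h1.to_subgroup _) h4 hq hg (f := Pi.mulSingle k g)
      (fun q => Pi.mulSingle_eq_of_ne (hk q) _) ?_
    show Perm.sign (wrHom C _ _) = 1
    rw [map_mul, map_mul, map_mul, sign_wrHom_inl, sign_wrHom_inl, Int.units_mul_self]

variable {ι : Type*} [Fintype ι] [DecidableEq ι] {α : Type*} [Fintype α] [DecidableEq α]
  {O : ValuationSubring ℂ} [CharP (kk O) p]
  {b : Blk O (alternatingGroup α)} {D : Subgroup (alternatingGroup α)}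
  {B : Blk O (Perm α)} {E : Subgroup (Perm α)} {γ : ι → ℕ} {w : ℕ}

theorem AB.nonempty_equiv (h : AB p b D B E γ w) (hC : Fintype.card C = p)
    (hJ : Fintype.card J = w) (Q : Sylow p (Perm J)) :
    Nonempty (WrE C (Q : Subgroup (Perm J)) ≃* D) := by
  obtain ⟨P, hP⟩ := exists_sylow_wr hC Q
  obtain ⟨e, he⟩ := h.core.defect_eq h.hN h.hE (Ω := J × C) (by simp [hC, hJ, mul_comm]) P
  rw [hP] at he
  let f := ((Perm.viaEmbeddingHom e).comp (wrHom C _)).comp (WrE C (Q : Subgroup (Perm J))).subtype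
  have h1 : ∀ x, f x ∈ alternatingGroup α := fun x => by
    rw [Perm.mem_alternatingGroup]; exact (sign_via _ _).trans x.2
  have h2 : ∀ x, f.codRestrict _ h1 x ∈ D := fun x => h.mem_iff.2 (he ▸ ⟨_, ⟨x, rfl⟩, rfl⟩)
  refine ⟨MulEquiv.ofBijective ((f.codRestrict _ h1).codRestrict _ h2) ⟨?_, fun d => ?_⟩⟩
  · rw [MonoidHom.injective_codRestrict, MonoidHom.injective_codRestrict]
    exact ((Perm.viaEmbeddingHom_injective e).comp (wrHom_injective _)).comp Subtype.val_injective
  · obtain ⟨_, ⟨x, rfl⟩, hx⟩ := he ▸ h.mem_iff.1 d.2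
    refine ⟨⟨x, ?_⟩, Subtype.ext (Subtype.ext hx)⟩
    show Perm.sign (wrHom C _ x) = 1
    rw [← sign_via e, hx]; exact d.1.2

theorem AB.hasDeg (h : AB p b D B E γ w) (h1 : p ≤ w) (h3 : 3 ≤ w) : HasDeg p D := by
  let C := Multiplicative (ZMod p)
  have hC : Fintype.card C = p := by simp [C]
  obtain ⟨e⟩ := h.nonempty_equiv hC (Fintype.card_fin w) default
  exact (hasDeg_wrE hC _ (by simpa) (by simpa)).of_surj e.symm.toMonoidHom e.symm.surjective

theorem AB.comm (h : AB p b D B E γ w) (h1 : w < p) : IsMulCommutative D := by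
  let C := Multiplicative (ZMod p)
  have hC : Fintype.card C = p := by simp [C]
  let Q : Sylow p (Perm (Fin w)) := default
  obtain ⟨e⟩ := h.nonempty_equiv hC (Fintype.card_fin w) Q
  have : Subsingleton (Q : Subgroup (Perm (Fin w))) := by
    rw [← Finite.card_le_one_iff_subsingleton, Sylow.card_eq_multiplicity, Nat.card_perm,
      Nat.card_eq_fintype_card, Fintype.card_fin, Nat.factorization_factorial_eq_zero_of_lt h1]
    simp
  refine ⟨⟨fun x y => e.symm.injective ?_⟩⟩
  rw [map_mul, map_mul]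
  refine Subtype.ext (SemidirectProduct.ext ?_ (Subsingleton.elim _ _))
  simp [Subsingleton.elim (e.symm x).1.right 1, Subsingleton.elim (e.symm y).1.right 1, mul_comm]

end H19.Sn
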