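import Cfsg.Agent.H19.Sn13
import Mathlib.Data.Nat.Choose.Lucas

/-! Characters of height one in blocks of symmetric and alternating groups. -/

open H17 Cfsg
namespace H19.Sn
open Finset Equiv Function Subgroup
open H20 (vd emin eG eA)
open Nat (factorial choose)

variable {ι : Type*} [Fintype ι] [DecidableEq ι] {α : Type*} [Fintype α] [DecidableEq α]
  {p : ℕ} [hp : Fact p.Prime]

theorem fact_choose_pow {n a : ℕ} (h : ¬ p ∣ n / p ^ a) :
    choose n (p ^ a) ≠ 0 ∧ (choose n (p ^ a)).factorization p = 0 := by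
  have h1 := Choose.choose_modEq_choose_mul_prod_range_choose (n := n) (k := p ^ a) (p := p) a
  rw [Nat.div_self (Nat.pow_pos hp.out.pos), Nat.choose_one_right, Finset.prod_eq_one,
    Nat.cast_one, mul_one, Int.natCast_modEq_iff] at h1
  · have h2 : ¬ p ∣ choose n (p ^ a) := fun e => h ((h1.dvd_iff dvd_rfl).1 e)
    exact ⟨fun e => h2 (e ▸ dvd_zero p), Nat.factorization_eq_zero_of_not_dvd h2⟩
  · intro i hi
    obtain ⟨k, rfl⟩ := Nat.exists_eq_add_of_lt (mem_range.1 hi)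
    rw [add_assoc, pow_add, Nat.mul_div_cancel_left _ (Nat.pow_pos hp.out.pos), pow_succ]
    simp

theorem fact_choose_succ (t : ℕ) :
    choose (p ^ (t + 1)) (p ^ t) ≠ 0 ∧ (choose (p ^ (t + 1)) (p ^ t)).factorization p = 1 := by
  have h := Nat.pow_le_pow_right hp.out.pos (Nat.le_succ t)
  refine ⟨(Nat.choose_pos h).ne', ?_⟩
  rw [Nat.factorization_choose_prime_pow hp.out h (pow_ne_zero _ hp.out.ne_zero),
    hp.out.factorization_pow]
  simp

theorem exists_choose_two {w : ℕ} (h3 : 3 ≤ w) (h4 : w % 4 ≠ 3) :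
    ∃ k ≤ w, (choose w k).factorization 2 = 1 := by
  obtain ⟨j, o, ho, hj⟩ : ∃ j o, Odd o ∧ w / 2 ^ j = 2 * o := by
    obtain ⟨i, h1, h2⟩ : ∃ i, w / 2 ^ i ≠ 0 ∧ 2 ∣ w / 2 ^ i := by
      by_cases h : 2 ∣ w
      · exact ⟨0, by omega, by simpa using h⟩
      · exact ⟨1, by omega, by omega⟩
    obtain ⟨s, o, ho, e⟩ := Nat.exists_eq_two_pow_mul_odd h1
    rcases s with _ | s
    · rw [e] at h2; obtain ⟨k, rfl⟩ := ho; omega
    · refine ⟨i + s, o, ho, ?_⟩
      rw [pow_add, ← Nat.div_div_eq_div_mul, e, pow_succ, mul_assoc,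
        Nat.mul_div_cancel_left _ (by positivity)]
  have hpos : 0 < 2 ^ j := by positivity
  have hle : 2 ^ j ≤ w := (Nat.one_le_div_iff hpos).1 (by obtain ⟨k, rfl⟩ := ho; omega)
  refine ⟨2 ^ j, hle, ?_⟩
  have h1 := fact_choose_pow (p := 2) (n := w) (a := j + 1) (by
    rw [pow_succ, ← Nat.div_div_eq_div_mul, hj]; obtain ⟨k, rfl⟩ := ho; omega)
  have h2 := fact_choose_succ (p := 2) j
  have h3 := fact_choose_pow (p := 2) (n := w - 2 ^ j) (a := j) (by
    have := Nat.div_eq_sub_div hpos hle; omega)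
  have h4 := congrArg (fun x => x.factorization 2)
    (Nat.choose_mul (n := w) (Nat.pow_le_pow_right two_pos (Nat.le_succ j)))
  rw [show 2 ^ (j + 1) - 2 ^ j = 2 ^ j by omega] at h4
  simp only [Nat.factorization_mul h1.1 h2.1, Nat.factorization_mul (Nat.choose_pos hle).ne' h3.1,
    Finsupp.add_apply, h1.2, h2.2, h3.2] at h4
  omega

theorem X_one_ne_zero {γ : ι → ℕ} (hγ : Injective γ) {m : ℕ} (h : ∑ i, γ i = M0 ι + m) :
    X (Multiset.replicate m 1) γ ≠ 0 := by
  have h1 : ∑ i, core 1 γ i = M0 ι :=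
    (rest_dl 1).sum_eq one_pos (core_spec one_pos hγ).1 (res_one _ _)
  obtain ⟨h2, h3⟩ := Um_replicate one_pos anti_vac m hγ (by omega)
  obtain ⟨s, hs⟩ := exists_perm_dl (core_spec one_pos hγ).1.1 h1.le
  rw [X, h2, hs, anti_vac, vac_dl, mul_one]
  exact mul_ne_zero (by exact_mod_cast h3.ne') (sg_ne_zero s)

theorem sign_parts (σ : Perm α) :
    Perm.sign σ = (-1) ^ (Fintype.card α + σ.partition.parts.card) := by
  rw [Perm.sign_of_cycleType, Perm.parts_partition, Multiset.card_add, Multiset.card_replicate,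
    Perm.sum_cycleType]
  obtain ⟨k, hk⟩ := Nat.exists_eq_add_of_le (card_le_univ σ.support)
  rw [hk, Nat.add_sub_cancel_left, show #σ.support + k + (σ.cycleType.card + k) =
    #σ.support + σ.cycleType.card + 2 * k by ring, pow_add _ _ (2 * k), pow_mul]
  simp

variable {O : ValuationSubring ℂ} [CharP (kk O) p]
  {b : Blk O (alternatingGroup α)} {D : Subgroup (alternatingGroup α)}
  {B : Blk O (Perm α)} {E : Subgroup (Perm α)} {γ : ι → ℕ} {w : ℕ}

omit hp [CharP (kk O) p] in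
theorem HasCore.exists_top (h : HasCore p B γ w) {r : ℕ}
    (hr : r + Fintype.card α < Fintype.card ι) :
    ∃ i, Top p γ i ∧ γ i % p = r % p ∧ r ≤ γ i := by
  classical
  obtain ⟨j, rfl⟩ := exists_eq_of_low h.1.1 (by have := h.2.1; omega) hr
  obtain ⟨i, h1, h2⟩ := Sn.exists_top (p := p) γ rfl j
  exact ⟨i, h1, h2, h1 j h2.symm⟩

theorem HasCore.exists_multi (hN : 3 * Fintype.card α ≤ Fintype.card ι) (h : HasCore p B γ w)
    (hw : w ≠ 0) {m : ℕ} (hm : m ≤ p) (x : Fin m → ℕ) (hx : ∑ k, x k = w) :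
    ∃ a : ι → ℕ, (∀ i, a i ≠ 0 → Top p γ i) ∧ ∑ i, a i = w ∧ (∀ k, ∃ i, a i = x k) ∧
      ∃ χ ∈ irr B, Lab (χ : Perm α → ℂ) (mv p γ a) ∧ ∃ c, c * ∏ k, factorial (x k) = factorial w ∧
        blockHeight p (irr B) χ = c.factorization p := by
  classical
  have h1 : p ≤ Fintype.card α := (Nat.le_mul_of_pos_right _ (Nat.pos_of_ne_zero hw)).trans h.le
  choose τ h2 h3 h4 using fun k : Fin m => h.exists_top (r := k) (by omega)
  have hτ : Injective τ := fun k l e => Fin.ext (by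
    rw [← Nat.mod_eq_of_lt (k.2.trans_le hm), ← h3, e, h3, Nat.mod_eq_of_lt (l.2.trans_le hm)])
  have ht : ∀ i, extend τ x 0 i ≠ 0 → Top p γ i := fun i hi => by
    by_cases e : ∃ k, τ k = i
    · obtain ⟨k, rfl⟩ := e; exact h2 k
    · exact absurd (extend_apply' _ _ _ e) hi
  have hs : ∑ i, extend τ x 0 i = w := hx ▸ (Fintype.sum_of_injective τ hτ _ _
    (fun i hi => extend_apply' x (0 : ι → ℕ) i hi) fun k => (hτ.extend_apply _ _ k).symm).symm
  obtain ⟨χ, h5, h6⟩ := h.exists_irr (by omega) (inj_mv h.1.1 ht) hs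
  obtain ⟨h7, h8⟩ := cnt_top hp.out.pos h.1 w ht hs
  refine ⟨_, ht, hs, fun k => ⟨τ k, hτ.extend_apply _ _ k⟩, χ, h5, h6, _, ?_,
    h.height_eq (by omega) h5 h6 h7⟩
  rw [← h8, Fintype.prod_of_injective τ hτ _ (fun i => factorial (extend τ x 0 i))
    (fun i hi => by rw [extend_apply' _ _ _ hi]; rfl) fun k => by rw [hτ.extend_apply]]

theorem HasCore.height_one_odd (hN : 3 * Fintype.card α ≤ Fintype.card ι) (h : HasCore p B γ w)
    (h2 : p ≠ 2) (hw : p ≤ w) : ∃ χ ∈ irr B, blockHeight p (irr B) χ = 1 := by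
  have h1 := hp.out.two_le
  obtain ⟨t, ht⟩ : ∃ t, Nat.log p w = t + 1 :=
    Nat.exists_eq_succ_of_ne_zero (Nat.log_pos hp.out.one_lt hw).ne'
  have h3 : p ^ (t + 1) ≤ w := ht ▸ Nat.pow_log_le_self p (by omega)
  have h4 : w < p ^ (t + 1 + 1) := ht ▸ Nat.lt_pow_succ_log_self hp.out.one_lt w
  have h5 : p ^ t ≤ p ^ (t + 1) := Nat.pow_le_pow_right hp.out.pos (Nat.le_succ t)
  obtain ⟨a, -, -, -, χ, h6, -, c, h7, h8⟩ := h.exists_multi hN (by omega) (m := 3) (by omega)
    ![p ^ t, p ^ (t + 1) - p ^ t, w - p ^ (t + 1)] (by simp [Fin.sum_univ_three]; omega)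
  refine ⟨χ, h6, ?_⟩
  have h9 := fact_choose_pow (p := p) (n := w) (a := t + 1) (Nat.not_dvd_of_pos_of_lt
    (Nat.div_pos h3 (by positivity)) (Nat.div_lt_of_lt_mul (by rwa [← pow_succ])))
  have h10 := fact_choose_succ (p := p) t
  have : c = choose w (p ^ (t + 1)) * choose (p ^ (t + 1)) (p ^ t) := by
    refine Nat.eq_of_mul_eq_mul_right (Finset.prod_pos fun _ _ => Nat.factorial_pos _) (h7.trans ?_)
    rw [← Nat.choose_mul_factorial_mul_factorial h3, ← Nat.choose_mul_factorial_mul_factorial h5]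
    simp [Fin.prod_univ_three, mul_assoc]
  rw [h8, this, Nat.factorization_mul h9.1 h10.1, Finsupp.add_apply, h9.2, h10.2]

theorem AB.height_one_two [Nontrivial α] (hN : 3 * Fintype.card α ≤ Fintype.card ι)
    (h : AB p b D B E γ w) (h2 : p = 2) (hw : 3 ≤ w) :
    ∃ χ ∈ irr B, blockHeight p (irr B) χ = 1 ∧ Ix.tw alternatingGroup.index_eq_two χ ≠ χ := by
  subst h2
  have hle := h.core.le
  by_cases h4 : w % 4 = 3
  · obtain ⟨i, h1, -, h3⟩ := h.core.exists_top (r := 2) (by omega)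
    obtain ⟨j, hj⟩ := h.core.1.2 i h3
    obtain ⟨v, rfl⟩ := Nat.exists_eq_add_of_le' (show 2 ≤ w by omega)
    obtain ⟨h5, h6, h7⟩ := cnt_two two_pos h.core.1 h1 hj v
    obtain ⟨χ, h8, h9⟩ := h.core.exists_irr h.hN h5 (by simp [Finset.sum_add_distrib])
    refine ⟨χ, h8, ?_, h.tw_ne rfl (Nat.odd_iff.2 (by omega)) h8⟩
    rw [h.core.height_eq h.hN h8 h9 h6, h7, show v + 1 = 2 * (v / 2 + 1) by omega,
      Nat.factorization_mul two_ne_zero (by omega), Finsupp.add_apply,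
      Nat.factorization_eq_zero_of_not_dvd (n := v / 2 + 1) (by omega), Nat.prime_two.factorization]
    simp
  obtain ⟨k, hk, h5⟩ := exists_choose_two hw h4
  obtain ⟨a, a1, a2, a3, χ, h6, h7, c, h8, h9⟩ := h.core.exists_multi hN (by omega) (m := 2) le_rfl
    ![k, w - k] (by simp; omega)
  have : c = choose w k := by
    refine Nat.eq_of_mul_eq_mul_right (Finset.prod_pos fun _ _ => Nat.factorial_pos _) (h8.trans ?_)
    rw [← Nat.choose_mul_factorial_mul_factorial hk]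
    simp [mul_assoc]
  refine ⟨χ, h6, by rw [h9, this, h5], ?_⟩
  rcases Nat.even_or_odd w with he | ho
  swap
  · exact h.tw_ne rfl ho h6
  obtain ⟨i, hi⟩ : ∃ i, 2 ≤ a i := by
    obtain ⟨i, hi⟩ := a3 0
    obtain ⟨j, hj⟩ := a3 1
    simp only [Matrix.cons_val_zero, Matrix.cons_val_one] at hi hj
    by_cases e : 2 ≤ k
    · exact ⟨i, by omega⟩
    · exact ⟨j, by omega⟩
  obtain ⟨v, rfl⟩ := Nat.exists_eq_add_of_le (show 2 ≤ w by omega)
  obtain ⟨d, hd, h10⟩ := top_value two_pos h.core.1 a1 a2 hi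
  obtain ⟨m, hm⟩ := Nat.exists_eq_add_of_le hle
  obtain ⟨σ, hσ⟩ := exists_parts_eq α (2 * 2 ::ₘ Multiset.replicate v 2 + Multiset.replicate m 1)
    (fun k hk => by
      simp only [Multiset.mem_add, Multiset.mem_cons, Multiset.mem_replicate] at hk; omega)
    (by simp; omega)
  refine Ix.tw_ne _ (g := σ) ?_ ((h7.ne_zero_iff σ).2 ?_)
  · rw [Perm.mem_alternatingGroup, sign_parts, hσ, Odd.neg_one_pow]
    · decide
    · obtain ⟨e, he⟩ := he
      simp only [Multiset.card_add, Multiset.card_cons, Multiset.card_replicate, Nat.odd_iff]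
      omega
  · rw [hσ, X_add, h10 _ (anti_X _)]
    exact mul_ne_zero (by exact_mod_cast hd.ne')
      (X_one_ne_zero h.core.1.1 (by have := h.core.2.1; omega))

theorem AB.height_eq [Nontrivial α] (h : AB p b D B E γ w) (hw : p ≠ 2 ∨ w ≠ 0)
    {χ : IrrCharacter (Perm α)} {θ : IrrCharacter (alternatingGroup α)} (h0 : Ix.Ov (χ : Perm α → ℂ) (θ : alternatingGroup α → ℂ))
    (h1 : p ≠ 2 ∨ Ix.tw alternatingGroup.index_eq_two χ ≠ χ) :
    blockHeight p (irr b) θ = blockHeight p (irr B) χ := by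
  rw [H20.blockHeight_eq, H20.blockHeight_eq, h0.vd_eq _ h1]
  have h2 := H20.defect_add_emin p (irr_nonempty B)
  have h3 := H20.defect_add_emin p (irr_nonempty b)
  rw [h.core.blockDefect_eq h.hN, ← (alternatingGroup α).card_mul_index,
    alternatingGroup.index_eq_two, Nat.factorization_mul Nat.card_pos.ne' two_ne_zero,
    Nat.prime_two.factorization, Finsupp.add_apply] at h2
  by_cases h4 : p = 2
  · have := h.defect_two h4 (hw.resolve_left (not_not.2 h4))
    rw [h4, Finsupp.single_eq_same, ← h4] at h2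
    omega
  · have := h.defect_odd h4
    rw [Finsupp.single_eq_of_ne h4] at h2
    omega

omit hp [CharP (kk O) p] in
theorem AB.exists_under (h : AB p b D B E γ w) {χ : IrrCharacter (Perm α)} (hχ : χ ∈ irr B) :
    ∃ θ ∈ irr b, Ix.Ov (χ : Perm α → ℂ) (θ : alternatingGroup α → ℂ) := by
  obtain ⟨_, rfl, θ, h1, h2⟩ := (H20.fB_mul_map_ne_zero_iff (alternatingGroup α).subtype _ _).1
    (H20.exists_irr_under_of_cover h.cov hχ)
  exact ⟨θ, h1, Ix.ov_iff.2 h2⟩

end H19.Sn
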