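import Cfsg.Agent.H19.Sn1

/-! The abacus: cores, weights, and the rule for removing `p`-hooks. -/

namespace H19.Sn
open Finset Equiv Function

variable {ι : Type*} [Fintype ι] [DecidableEq ι]

def core (p : ℕ) (β : ι → ℕ) (i : ι) : ℕ :=
  β i % p + p * (univ.filter fun j => β j % p = β i % p ∧ β j < β i).card

def Rest (p : ℕ) (γ : ι → ℕ) : Prop := Injective γ ∧ ∀ i, p ≤ γ i → ∃ j, γ j + p = γ i

/-- number of beads on each runner -/
def res (p : ℕ) (β : ι → ℕ) (c : ℕ) : ℕ := (univ.filter fun j => β j % p = c).card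

omit [DecidableEq ι] in
theorem core_mod (p : ℕ) (β : ι → ℕ) (i : ι) : core p β i % p = β i % p := by
  simp [core]

omit [DecidableEq ι] in
theorem res_congr {p : ℕ} {β γ : ι → ℕ} (h : ∀ i, β i % p = γ i % p) : res p β = res p γ := by
  funext c; simp only [res, h]

omit [DecidableEq ι] in
theorem res_core (p : ℕ) (β : ι → ℕ) : res p (core p β) = res p β := res_congr (core_mod p β)

omit [DecidableEq ι] in
theorem res_comp (p : ℕ) (β : ι → ℕ) (s : Perm ι) : res p (β ∘ s) = res p β := by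
  funext c
  simp only [res]
  refine Finset.card_bij (fun j _ => s j) (by simp) (by simp) fun j hj => ⟨s.symm j, ?_, by simp⟩
  simpa using hj

omit [Fintype ι] in
theorem add_single_mod (p k : ℕ) (β : ι → ℕ) (i j : ι) :
    (β + Pi.single i (p * k) : ι → ℕ) j % p = β j % p := by
  by_cases h : j = i
  · subst h; simp
  · simp [Pi.single_eq_of_ne h]

theorem res_add_single (p k : ℕ) (β : ι → ℕ) (i : ι) :
    res p (β + Pi.single i (p * k)) = res p β := res_congr (add_single_mod p k β i)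

omit [Fintype ι] in
theorem sub_single_mod {p k : ℕ} {β : ι → ℕ} {i : ι} (h : p * k ≤ β i) (j : ι) :
    (β - Pi.single i (p * k) : ι → ℕ) j % p = β j % p := by
  conv_rhs => rw [← sub_add_single h, add_single_mod]

theorem res_sub_single {p k : ℕ} {β : ι → ℕ} {i : ι} (h : p * k ≤ β i) :
    res p (β - Pi.single i (p * k)) = res p β := res_congr (sub_single_mod h)

theorem add_le_of_mod {p a b : ℕ} (h : a % p = b % p) (hab : a < b) : a + p ≤ b := by
  have h1 : p ∣ b - a := (Nat.modEq_iff_dvd' hab.le).1 h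
  have := Nat.le_of_dvd (by omega) h1
  omega

omit [Fintype ι] in
theorem sub_single_self (β : ι → ℕ) (i : ι) (k : ℕ) : (β - Pi.single i k : ι → ℕ) i = β i - k := by
  simp

omit [Fintype ι] in
theorem sub_single_ne (β : ι → ℕ) {i j : ι} (h : j ≠ i) (k : ℕ) :
    (β - Pi.single i k : ι → ℕ) j = β j := by
  simp [Pi.single_eq_of_ne h]

omit [Fintype ι] in
theorem add_single_self (β : ι → ℕ) (i : ι) (k : ℕ) : (β + Pi.single i k : ι → ℕ) i = β i + k := by
  simp

omit [Fintype ι] in
theorem add_single_ne (β : ι → ℕ) {i j : ι} (h : j ≠ i) (k : ℕ) :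
    (β + Pi.single i k : ι → ℕ) j = β j := by
  simp [Pi.single_eq_of_ne h]

theorem core_move {p : ℕ} {β : ι → ℕ} (hβ : Injective β) {i : ι} (hi : p ≤ β i)
    (hβ' : Injective (β - Pi.single i p : ι → ℕ)) : core p (β - Pi.single i p) = core p β := by
  have hm : ∀ j, (β - Pi.single i p : ι → ℕ) j % p = β j % p := fun j => by
    have := sub_single_mod (p := p) (k := 1) (β := β) (i := i) (by simpa using hi) j
    simpa using this
  funext x
  simp only [core, hm]
  congr 3
  refine Finset.filter_congr fun j _ => and_congr_right fun hjx => ?_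
  by_cases hj : j = i <;> by_cases hx : x = i
  · subst hj; subst hx; simp
  · subst hj
    rw [sub_single_self, sub_single_ne _ hx]
    have h1 : β x ≠ β j := fun h => hx (hβ h)
    have h2 : β x ≠ β j - p := fun h => hx (hβ' (by rw [sub_single_self, sub_single_ne _ hx, h]))
    constructor
    · intro h
      by_contra h3
      have := add_le_of_mod hjx.symm (by omega); omega
    · omega
  · subst hx
    rw [sub_single_self, sub_single_ne _ hj]
    have h2 : β j ≠ β x - p := fun h => hj (hβ' (by rw [sub_single_self, sub_single_ne _ hj, h]))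
    constructor
    · omega
    · intro h
      have := add_le_of_mod hjx h; omega
  · rw [sub_single_ne _ hj, sub_single_ne _ hx]

omit [Fintype ι] [DecidableEq ι] in
theorem Rest.down {p : ℕ} {γ : ι → ℕ} (h : Rest p γ) (m : ℕ) (i : ι) (hm : p * m ≤ γ i) :
    ∃ j, γ j + p * m = γ i := by
  induction m with
  | zero => exact ⟨i, by simp⟩
  | succ m ih =>
    obtain ⟨j, hj⟩ := ih (by rw [Nat.mul_succ] at hm; omega)
    obtain ⟨j', hj'⟩ := h.2 j (by rw [Nat.mul_succ] at hm; omega)
    exact ⟨j', by rw [Nat.mul_succ]; omega⟩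

omit [Fintype ι] [DecidableEq ι] in
theorem Rest.down' {p : ℕ} {γ : ι → ℕ} (h : Rest p γ) (i : ι) {m : ℕ} (hm : m ≤ γ i / p) :
    ∃ j, γ j = γ i % p + p * m := by
  have h1 := Nat.mod_add_div (γ i) p
  obtain ⟨t, ht⟩ := Nat.exists_eq_add_of_le hm
  rw [ht, Nat.mul_add] at h1
  obtain ⟨j, hj⟩ := h.down t i (by omega)
  exact ⟨j, by omega⟩

theorem eq_of_mod_div {p a b : ℕ} (h1 : a % p = b % p) (h2 : a / p = b / p) : a = b := by
  rw [← Nat.mod_add_div a p, ← Nat.mod_add_div b p, h1, h2]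

omit [DecidableEq ι] in
theorem Rest.core_eq {p : ℕ} (hp : 0 < p) {γ : ι → ℕ} (h : Rest p γ) : core p γ = γ := by
  funext i
  rw [core]
  conv_rhs => rw [← Nat.mod_add_div (γ i) p, ← Finset.card_range (γ i / p)]
  congr 2
  refine Finset.card_bij (fun j _ => γ j / p) ?_ ?_ ?_
  · intro j hj
    simp only [mem_filter, mem_univ, true_and, mem_range] at hj ⊢
    have h1 := Nat.div_le_div_right (c := p) hj.2.le
    have h2 : γ j / p ≠ γ i / p := fun h2 => hj.2.ne (eq_of_mod_div hj.1 h2)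
    omega
  · intro j hj j' hj' he
    simp only [mem_filter, mem_univ, true_and] at hj hj'
    exact h.1 (eq_of_mod_div (hj.1.trans hj'.1.symm) he)
  · intro m hm
    rw [mem_range] at hm
    obtain ⟨j, hj⟩ := h.down' i hm.le
    refine ⟨j, ?_, ?_⟩
    · simp only [mem_filter, mem_univ, true_and, hj]
      refine ⟨by simp, ?_⟩
      have h1 := Nat.mod_add_div (γ i) p
      have := Nat.mul_lt_mul_of_pos_left hm hp
      omega
    · rw [hj, Nat.add_mul_div_left _ _ hp, Nat.div_eq_of_lt (Nat.mod_lt _ hp), zero_add]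

omit [DecidableEq ι] in
theorem Rest.mem_iff {p : ℕ} (hp : 0 < p) {γ : ι → ℕ} (h : Rest p γ) (x : ℕ) :
    (∃ i, γ i = x) ↔ x / p < res p γ (x % p) := by
  constructor
  · rintro ⟨i, rfl⟩
    rw [res, ← Nat.succ_le_iff, ← Finset.card_range (γ i / p).succ]
    have hne : Nonempty ι := ⟨i⟩
    have h0 : ∀ m ∈ range (γ i / p).succ, ∃ j, γ j = γ i % p + p * m := fun m hm =>
      h.down' i (Nat.lt_succ_iff.1 (mem_range.1 hm))
    choose! J hJ using h0
    refine Finset.card_le_card_of_injOn J (fun m hm => ?_) (fun m hm m' hm' he => ?_)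
    · simp [hJ m hm]
    · have h1 := hJ m hm
      rw [he, hJ m' hm'] at h1
      exact (Nat.eq_of_mul_eq_mul_left hp (by omega : p * m' = p * m)).symm
  · intro hx
    by_contra hne
    push Not at hne
    apply absurd hx
    rw [not_lt, res, ← Finset.card_range (x / p)]
    refine Finset.card_le_card_of_injOn (fun j => γ j / p) (fun j hj => ?_) (fun j hj j' hj' he => ?_)
    · simp only [coe_filter, mem_univ, true_and, Set.mem_ofPred_eq, coe_range, Set.mem_Iio] at hj ⊢
      by_contra hlt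
      obtain ⟨j', hj'⟩ := h.down' j (not_lt.1 hlt)
      exact hne j' (by rw [hj', hj, Nat.mod_add_div])
    · simp only [coe_filter, mem_univ, true_and, Set.mem_ofPred_eq] at hj hj'
      exact h.1 (eq_of_mod_div (hj.trans hj'.symm) he)

omit [DecidableEq ι] in
theorem exists_perm_of_range {γ γ' : ι → ℕ} (h' : Injective γ') (hr : ∀ i, ∃ j, γ j = γ' i) :
    ∃ s : Perm ι, γ' = γ ∘ s := by
  choose s hs using hr
  have hinj : Injective s := fun i j hij => h' (by rw [← hs, ← hs, hij])
  exact ⟨Equiv.ofBijective s (Finite.injective_iff_bijective.1 hinj), funext fun i => (hs i).symm⟩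

omit [DecidableEq ι] in
theorem Rest.exists_perm {p : ℕ} (hp : 0 < p) {γ γ' : ι → ℕ} (h : Rest p γ) (h' : Rest p γ')
    (hr : res p γ = res p γ') : ∃ s : Perm ι, γ' = γ ∘ s :=
  exists_perm_of_range h'.1 fun i => by
    rw [h.mem_iff hp, hr, ← h'.mem_iff hp]; exact ⟨i, rfl⟩

omit [DecidableEq ι] in
theorem sum_comp_perm (γ : ι → ℕ) (s : Perm ι) : ∑ i, (γ ∘ s) i = ∑ i, γ i :=
  Equiv.sum_comp s γ

omit [DecidableEq ι] in
theorem Rest.sum_eq {p : ℕ} (hp : 0 < p) {γ γ' : ι → ℕ} (h : Rest p γ) (h' : Rest p γ')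
    (hr : res p γ = res p γ') : ∑ i, γ' i = ∑ i, γ i := by
  obtain ⟨s, rfl⟩ := h.exists_perm hp h' hr
  exact sum_comp_perm γ s

omit [Fintype ι] in
theorem inj_sub_single {β : ι → ℕ} (hβ : Injective β) {i : ι} {k : ℕ} (hk : k ≤ β i)
    (h : ∀ j, β j + k ≠ β i ∨ j = i) : Injective (β - Pi.single i k : ι → ℕ) := by
  intro x y hxy
  by_cases hx : x = i <;> by_cases hy : y = i
  · rw [hx, hy]
  · subst hx; rw [sub_single_self, sub_single_ne _ hy] at hxy
    rcases h y with h | h
    · omega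
    · exact h.symm
  · subst hy; rw [sub_single_self, sub_single_ne _ hx] at hxy
    rcases h x with h | h
    · omega
    · exact h
  · rw [sub_single_ne _ hx, sub_single_ne _ hy] at hxy; exact hβ hxy

omit [Fintype ι] in
theorem exists_move {p : ℕ} {β : ι → ℕ} (hβ : Injective β) (h : ¬ Rest p β) :
    ∃ i, p ≤ β i ∧ Injective (β - Pi.single i p : ι → ℕ) := by
  simp only [Rest, hβ, true_and, not_forall, not_exists] at h
  obtain ⟨i, hi, h⟩ := h
  exact ⟨i, hi, inj_sub_single hβ hi fun j => Or.inl (h j)⟩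

omit [Fintype ι] in
theorem Rest.not_inj {p : ℕ} (hp : 0 < p) {γ : ι → ℕ} (h : Rest p γ) {i : ι} {k : ℕ} (hk : 0 < k)
    (hi : p * k ≤ γ i) : ¬ Injective (γ - Pi.single i (p * k) : ι → ℕ) := by
  intro hinj
  obtain ⟨j, hj⟩ := h.down k i hi
  have hpk : 0 < p * k := Nat.mul_pos hp hk
  have hji : j ≠ i := by rintro rfl; omega
  exact hji (hinj (by rw [sub_single_self, sub_single_ne _ hji]; omega))

theorem core_spec {p : ℕ} (hp : 0 < p) {β : ι → ℕ} (hβ : Injective β) :
    Rest p (core p β) ∧ ∃ w, ∑ i, β i = ∑ i, core p β i + p * w := by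
  induction hM : ∑ i, β i using Nat.strong_induction_on generalizing β with
  | _ M ih =>
  by_cases h : Rest p β
  · rw [h.core_eq hp]; exact ⟨h, 0, by simp [hM]⟩
  · obtain ⟨i, hi, hinj⟩ := exists_move hβ h
    have h1 := sum_sub_single hi
    obtain ⟨h2, w, hw⟩ := ih _ (by omega) hinj rfl
    rw [core_move hβ hi hinj] at h2 hw
    exact ⟨h2, w + 1, by rw [Nat.mul_succ]; omega⟩

theorem core_sum_eq {p : ℕ} (hp : 0 < p) {β β' : ι → ℕ} (hβ : Injective β) (hβ' : Injective β')
    (h : res p β = res p β') : ∑ i, core p β' i = ∑ i, core p β i :=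
  (core_spec hp hβ).1.sum_eq hp (core_spec hp hβ').1 (by rw [res_core, res_core, h])

theorem Rest.sum_le {p : ℕ} (hp : 0 < p) {γ β : ι → ℕ} (h : Rest p γ) (hβ : Injective β)
    (hr : res p β = res p γ) : ∃ w, ∑ i, β i = ∑ i, γ i + p * w := by
  obtain ⟨-, w, hw⟩ := core_spec hp hβ
  rw [← core_sum_eq hp hβ h.1 hr, h.core_eq hp] at hw
  exact ⟨w, hw⟩

theorem Rest.of_sum {p : ℕ} (hp : 0 < p) {γ β : ι → ℕ} (h : Rest p γ) (hβ : Injective β)
    (hr : res p β = res p γ) (hs : ∑ i, β i ≤ ∑ i, γ i) : Rest p β := by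
  by_contra hn
  obtain ⟨i, hi, hinj⟩ := exists_move hβ hn
  have h1 := sum_sub_single hi
  obtain ⟨w, hw⟩ := h.sum_le hp hinj (by
    rw [← hr]; simpa using res_sub_single (p := p) (k := 1) (β := β) (i := i) (by simpa using hi))
  omega

open Classical in
/-- number of ways to remove `w` hooks of length `p` -/
noncomputable def cnt (p : ℕ) : ℕ → (ι → ℕ) → ℕ
  | 0, _ => 1
  | w + 1, β => ∑ i, if p ≤ β i ∧ Injective (β - Pi.single i p : ι → ℕ) then
      cnt p w (β - Pi.single i p) else 0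

theorem Um_replicate {p : ℕ} (hp : 0 < p) {f : Fn ι} (hf : Anti f) (w : ℕ) {β : ι → ℕ}
    (hβ : Injective β) (hw : ∑ i, β i = ∑ i, core p β i + p * w) :
    Um (Multiset.replicate w p) f β = cnt p w β * f (core p β) ∧ 0 < cnt p w β := by
  classical
  induction w generalizing β with
  | zero =>
    have : Rest p β := (core_spec hp hβ).1.of_sum hp hβ (res_core p β).symm (by omega)
    simp [cnt, this.core_eq hp]
  | succ w ih =>
    have key : ∀ i, p ≤ β i → Injective (β - Pi.single i p : ι → ℕ) →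
        ∑ j, (β - Pi.single i p : ι → ℕ) j = ∑ j, core p (β - Pi.single i p) j + p * w := by
      intro i hi hinj
      have := sum_sub_single hi
      rw [core_move hβ hi hinj]; rw [Nat.mul_succ] at hw; omega
    constructor
    · rw [Multiset.replicate_succ, Um_cons, U_apply, cnt, Nat.cast_sum, Finset.sum_mul]
      refine Finset.sum_congr rfl fun i _ => ?_
      by_cases hi : p ≤ β i
      · by_cases hinj : Injective (β - Pi.single i p : ι → ℕ)
        · rw [if_pos hi, if_pos ⟨hi, hinj⟩, (ih hinj (key i hi hinj)).1, core_move hβ hi hinj]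
        · rw [if_pos hi, if_neg (fun h => hinj h.2), (hf.Um _).zero_of hinj]; simp
      · rw [if_neg hi, if_neg (fun h => hi h.1)]; simp
    · have : ¬ Rest p β := fun h => by
        rw [h.core_eq hp, Nat.mul_succ] at hw; omega
      obtain ⟨i, hi, hinj⟩ := exists_move hβ this
      rw [cnt]
      refine lt_of_lt_of_le ?_ (Finset.single_le_sum (fun _ _ => Nat.zero_le _) (mem_univ i))
      rw [if_pos ⟨hi, hinj⟩]
      exact (ih hinj (key i hi hinj)).2

theorem exists_of_Um_ne_zero {p : ℕ} {g : Fn ι} (ρ : Multiset ℕ) (hρ : ∀ k ∈ ρ, p ∣ k)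
    {β : ι → ℕ} (h : Um ρ g β ≠ 0) :
    ∃ γ, g γ ≠ 0 ∧ res p γ = res p β ∧ ∑ i, γ i + ρ.sum = ∑ i, β i := by
  induction ρ using Multiset.induction_on generalizing β with
  | empty => exact ⟨β, by simpa using h, rfl, by simp⟩
  | cons k ρ ih =>
    rw [Um_cons, U_apply] at h
    obtain ⟨i, -, hi⟩ := Finset.exists_ne_zero_of_sum_ne_zero h
    split_ifs at hi with hk
    · obtain ⟨γ, h1, h2, h3⟩ := ih (fun k hk => hρ k (Multiset.mem_cons_of_mem hk)) hi
      obtain ⟨t, rfl⟩ := hρ k (Multiset.mem_cons_self _ _)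
      refine ⟨γ, h1, h2.trans (res_sub_single hk), ?_⟩
      have := sum_sub_single hk
      rw [Multiset.sum_cons]; omega
    · exact absurd rfl hi

/-- too many `p`-hooks -/
theorem sum_le_of_Um_ne_zero {p : ℕ} (hp : 0 < p) {g : Fn ι} (hg : Anti g) (ρ : Multiset ℕ)
    (hρ : ∀ k ∈ ρ, p ∣ k) {β : ι → ℕ} (h : Um ρ g β ≠ 0) :
    ∑ i, core p β i + ρ.sum ≤ ∑ i, β i := by
  obtain ⟨γ, h1, h2, h3⟩ := exists_of_Um_ne_zero ρ hρ h
  have hβ := (hg.Um ρ).inj h
  obtain ⟨-, w, hw⟩ := core_spec hp (hg.inj h1)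
  rw [core_sum_eq hp (hg.inj h1) hβ h2]; omega

end H19.Sn
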