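import Cfsg.Agent.H19.Sn2

/-! The pairing, the vacuum vector, the Heisenberg relation and orthogonality. -/

namespace H19.Sn
open Finset Equiv Function Nat

variable {ι : Type*} [Fintype ι] [DecidableEq ι]

noncomputable def ip (M : ℕ) (f g : Fn ι) : ℂ := ∑ β ∈ piAntidiag univ M, f β * g β

theorem mem_pA {M : ℕ} {β : ι → ℕ} : β ∈ piAntidiag univ M ↔ ∑ i, β i = M := by
  simp [mem_piAntidiag]

theorem ip_comm (M : ℕ) (f g : Fn ι) : ip M f g = ip M g f := by simp only [ip, mul_comm]
theorem ip_smul_right (M : ℕ) (c : ℂ) (f g : Fn ι) : ip M f (c • g) = c * ip M f g := by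
  simp only [ip, Finset.mul_sum, Pi.smul_apply, smul_eq_mul]
  exact Finset.sum_congr rfl fun _ _ => by ring
theorem ip_smul_left (M : ℕ) (c : ℂ) (f g : Fn ι) : ip M (c • f) g = c * ip M f g := by
  rw [ip_comm, ip_smul_right, ip_comm]
theorem ip_sub_left (M : ℕ) (f f' g : Fn ι) : ip M (f - f') g = ip M f g - ip M f' g := by
  simp only [ip, Pi.sub_apply, sub_mul, Finset.sum_sub_distrib]
theorem ip_add_left (M : ℕ) (f f' g : Fn ι) : ip M (f + f') g = ip M f g + ip M f' g := by
  simp only [ip, Pi.add_apply, add_mul, Finset.sum_add_distrib]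
@[simp] theorem ip_zero_left (M : ℕ) (g : Fn ι) : ip M 0 g = 0 := by simp [ip]
@[simp] theorem ip_zero_right (M : ℕ) (g : Fn ι) : ip M g 0 = 0 := by simp [ip]
theorem ip_sum_left {κ : Type*} (M : ℕ) (T : Finset κ) (f : κ → Fn ι) (g : Fn ι) :
    ip M (∑ x ∈ T, f x) g = ∑ x ∈ T, ip M (f x) g := by
  simp only [ip, Finset.sum_apply, Finset.sum_mul]
  exact Finset.sum_comm

theorem sum_shift (M k : ℕ) (i : ι) (F : (ι → ℕ) → ℂ) :
    ∑ β ∈ piAntidiag univ (M + k), (if k ≤ β i then F β else 0) =
      ∑ γ ∈ piAntidiag univ M, F (γ + Pi.single i k) := by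
  rw [← Finset.sum_filter]
  symm
  refine Finset.sum_bij' (fun γ _ => γ + Pi.single i k) (fun β _ => β - Pi.single i k) ?_ ?_ ?_ ?_
    (fun _ _ => rfl)
  · intro γ hγ
    rw [mem_filter, mem_pA, sum_add_single, mem_pA.1 hγ, add_single_self]
    exact ⟨rfl, by omega⟩
  · intro β hβ
    rw [mem_filter, mem_pA] at hβ
    have := sum_sub_single hβ.2
    rw [mem_pA]; omega
  · intro γ _
    funext j; simp
  · intro β hβ
    exact sub_add_single (mem_filter.1 hβ).2

theorem ip_U (M k : ℕ) (f g : Fn ι) : ip (M + k) (U k f) g = ip M f (D k g) := by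
  simp only [ip, U_apply, D_apply, Finset.sum_mul, Finset.mul_sum]
  rw [Finset.sum_comm, Finset.sum_comm (s := piAntidiag univ M)]
  refine Finset.sum_congr rfl fun i _ => ?_
  simp only [ite_mul, zero_mul]
  refine (sum_shift M k i (fun β => f (β - Pi.single i k) * g β)).trans ?_
  refine Finset.sum_congr rfl fun γ _ => ?_
  congr 2
  funext j; simp

open Classical in
noncomputable def alt (γ : ι → ℕ) : Fn ι := fun β => ∑ w : Perm ι, if β = γ ∘ w then sg w else 0

theorem anti_alt (γ : ι → ℕ) : Anti (alt γ) := fun s β => by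
  simp only [alt, Finset.mul_sum]
  rw [← Equiv.sum_comp (Equiv.mulRight s)]
  refine Finset.sum_congr rfl fun w _ => ?_
  simp only [Equiv.coe_mulRight, Perm.coe_mul, sg_mul]
  have : β ∘ s = γ ∘ (w ∘ s) ↔ β = γ ∘ w := by
    rw [← Function.comp_assoc]; exact s.surjective.right_cancellable
  simp only [this]
  split_ifs <;> ring

theorem exists_of_alt_ne_zero {γ β : ι → ℕ} (h : alt γ β ≠ 0) : ∃ w : Perm ι, β = γ ∘ w := by
  obtain ⟨w, -, hw⟩ := Finset.exists_ne_zero_of_sum_ne_zero h
  exact ⟨w, by by_contra h; simp [h] at hw⟩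

theorem deg_alt (γ : ι → ℕ) : Deg (∑ i, γ i) (alt γ) := fun β h => by
  obtain ⟨w, rfl⟩ := exists_of_alt_ne_zero h
  exact sum_comp_perm γ w

theorem alt_self {γ : ι → ℕ} (h : Injective γ) : alt γ γ = 1 := by
  rw [alt, Finset.sum_eq_single 1]
  · simp
  · intro w _ hw
    rw [if_neg]
    intro h1
    exact hw (Equiv.ext fun x => (h (congrFun h1 x)).symm)
  · simp

theorem ip_alt {f : Fn ι} (hf : Anti f) (γ : ι → ℕ) :
    ip (∑ i, γ i) (alt γ) f = (Fintype.card ι)! * f γ := by
  classical
  simp only [ip, alt, Finset.sum_mul, ite_mul, zero_mul]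
  rw [Finset.sum_comm, ← Fintype.card_perm, Finset.sum_congr rfl (g := fun _ => f γ)]
  · simp
  · intro w _
    rw [Finset.sum_ite_eq' (piAntidiag univ (∑ i, γ i)) (γ ∘ w) (fun β => sg w * f β),
      if_pos (mem_pA.2 (sum_comp_perm γ w)), hf, ← mul_assoc, sg_mul_self, one_mul]

variable (ι) in
noncomputable def dl (i : ι) : ℕ := Fintype.equivFin ι i
variable (ι) in
noncomputable def M0 : ℕ := ∑ i, dl ι i
variable (ι) in
noncomputable def vac : Fn ι := alt (dl ι)

omit [DecidableEq ι] in
theorem exists_dl {m : ℕ} (h : m < Fintype.card ι) : ∃ i, dl ι i = m :=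
  ⟨(Fintype.equivFin ι).symm ⟨m, h⟩, by simp [dl]⟩

omit [DecidableEq ι] in
theorem dl_lt (i : ι) : dl ι i < Fintype.card ι := (Fintype.equivFin ι i).2

omit [DecidableEq ι] in
theorem dl_inj : Injective (dl ι) := fun _ _ h => (Fintype.equivFin ι).injective (Fin.ext h)

omit [DecidableEq ι] in
theorem rest_dl (p : ℕ) : Rest p (dl ι) := ⟨dl_inj, fun i hi => by
  obtain ⟨j, hj⟩ := exists_dl (ι := ι) (m := dl ι i - p) (by have := dl_lt i; omega)
  exact ⟨j, by omega⟩⟩

omit [DecidableEq ι] in
theorem res_one (β γ : ι → ℕ) : res 1 β = res 1 γ := res_congr fun _ => by simp [Nat.mod_one]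

theorem M0_le {β : ι → ℕ} (h : Injective β) : M0 ι ≤ ∑ i, β i := by
  obtain ⟨w, hw⟩ := (rest_dl 1).sum_le one_pos h (res_one _ _)
  rw [M0]; omega

theorem exists_perm_dl {β : ι → ℕ} (h : Injective β) (hs : ∑ i, β i ≤ M0 ι) :
    ∃ s : Perm ι, β = dl ι ∘ s :=
  (rest_dl 1).exists_perm one_pos ((rest_dl 1).of_sum one_pos h (res_one _ _) hs) (res_one _ _)

theorem anti_vac : Anti (vac ι) := anti_alt _
theorem deg_vac : Deg (M0 ι) (vac ι) := deg_alt _
theorem vac_dl : vac ι (dl ι) = 1 := alt_self dl_inj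

theorem Anti.eq_zero_of_lt {f : Fn ι} (hf : Anti f) (h : ∀ β, f β ≠ 0 → ∑ i, β i < M0 ι) : f = 0 := by
  funext β
  by_contra h0
  exact absurd (M0_le (hf.inj h0)) (not_le.2 (h β h0))

theorem exists_eq_of_low {β : ι → ℕ} (h : Injective β) {d m : ℕ} (hs : ∑ i, β i ≤ M0 ι + d)
    (hm : m + d < Fintype.card ι) : ∃ i, β i = m := by
  by_contra hne
  push Not at hne
  have h1 : Injective fun i => if m < β i then β i - 1 else β i := by
    intro i j hij
    have := hne i; have := hne j
    apply h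
    simp only at hij
    split_ifs at hij <;> omega
  have h2 := M0_le h1
  have h3 : ∑ i, β i = ∑ i, (if m < β i then β i - 1 else β i) +
      (univ.filter fun i => m < β i).card := by
    rw [Finset.card_filter, ← Finset.sum_add_distrib]
    exact Finset.sum_congr rfl fun i _ => by split_ifs <;> omega
  have h4 : (univ.filter fun i => ¬ m < β i).card ≤ (range m).card := by
    refine Finset.card_le_card_of_injOn β (fun i hi => ?_) (fun _ _ _ _ h' => h h')
    have := hne i
    simp only [coe_filter, mem_univ, true_and, Set.mem_ofPred_eq, coe_range, Set.mem_Iio] at hi ⊢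
    omega
  have h5 := Finset.card_filter_add_card_filter_not (s := univ) (fun i => m < β i)
  rw [card_range] at h4
  rw [Finset.card_univ] at h5
  omega

theorem heis {f : Fn ι} (hf : Anti f) {d j k : ℕ} (hd : Deg (M0 ι + d) f)
    (hj : d + j ≤ Fintype.card ι) (hk : d + k ≤ Fintype.card ι) :
    D k (U j f) = U j (D k f) + (if j = k then (k : ℂ) else 0) • f := by
  rw [← sub_eq_zero]
  funext β
  by_cases hβ : Injective β
  swap
  · exact (((hf.U j).D k).sub (((hf.D k).U j).add (hf.smul _))).zero_of hβ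
  have key : ∀ i i', (if j ≤ (β + Pi.single i k : ι → ℕ) i' then
      f (β + Pi.single i k - Pi.single i' j) else 0) =
      (if j ≤ β i' then f (β - Pi.single i' j + Pi.single i k) else 0) +
        if i = i' then (if j = k ∧ β i < k then f β else 0) else 0 := by
    intro i i'
    have e1 : j ≤ β i' → β + Pi.single i k - Pi.single i' j = β - Pi.single i' j + Pi.single i k := by
      intro h
      funext x
      have : (Pi.single i' j : ι → ℕ) x ≤ β x := (single_le_iff i' j β).2 h x
      simp only [Pi.add_apply, Pi.sub_apply]; omega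
    by_cases hi : i = i'
    · subst hi
      rw [if_pos rfl, add_single_self]
      by_cases h1 : j ≤ β i
      · rw [if_pos h1, if_pos (by omega), e1 h1, if_neg (by omega), add_zero]
      · rw [if_neg h1, zero_add]
        by_cases hjk : j = k
        · subst hjk
          rw [if_pos (by omega), if_pos ⟨rfl, by omega⟩]
          congr 1; funext x; simp
        · rw [if_neg (show ¬ (j = k ∧ β i < k) from fun h => hjk h.1)]
          split_ifs with h2
          · by_contra h0
            obtain ⟨x, hx⟩ := exists_eq_of_low (hf.inj h0) (hd _ h0).le (m := β i) (by omega)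
            by_cases hxi : x = i
            · subst hxi
              rw [sub_single_self, add_single_self] at hx; omega
            · rw [sub_single_ne _ hxi, add_single_ne _ hxi] at hx
              exact hxi (hβ hx)
          · rfl
    · rw [if_neg hi, add_zero, add_single_ne _ (Ne.symm hi)]
      split_ifs with h
      · rw [e1 h]
      · rfl
  rw [Pi.sub_apply, Pi.add_apply, Pi.smul_apply, D_apply, U_apply, Pi.zero_apply, smul_eq_mul]
  simp only [D_apply, U_apply, key, Finset.sum_add_distrib, Finset.sum_ite_eq, mem_univ, if_true]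
  rw [Finset.sum_comm, sub_eq_zero]
  congr 1
  · refine Finset.sum_congr rfl fun i _ => ?_
    split_ifs <;> simp
  · by_cases hjk : j = k
    · subst hjk
      simp only [true_and, if_true]
      by_cases h0 : f β = 0
      · simp [h0]
      rw [← Finset.sum_filter, Finset.sum_const, nsmul_eq_mul]
      congr 2
      rw [← Finset.card_range j]
      refine Finset.card_bij (fun i _ => β i) (by simp) (fun _ _ _ _ h => hβ h) fun m hm => ?_
      rw [mem_range] at hm
      obtain ⟨x, hx⟩ := exists_eq_of_low hβ (hd _ h0).le (m := m) (by omega)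
      exact ⟨x, by simp [hx, hm], hx⟩
    · simp [hjk]

theorem D_vac {k : ℕ} (hk : 0 < k) : D k (vac ι) = 0 :=
  (anti_vac.D k).eq_zero_of_lt fun β h => by have := deg_vac.D' k h; omega

/-- `X ρ β`: the coefficient of `x ^ β` in `a_δ p_ρ`. -/
noncomputable def X (ρ : Multiset ℕ) : Fn ι := Um ρ (vac ι)

theorem anti_X (ρ : Multiset ℕ) : Anti (X ρ : Fn ι) := anti_vac.Um ρ
theorem deg_X (ρ : Multiset ℕ) : Deg (M0 ι + ρ.sum) (X ρ : Fn ι) := deg_vac.Um ρ
theorem X_cons (k : ℕ) (ρ : Multiset ℕ) : (X (k ::ₘ ρ) : Fn ι) = U k (X ρ) := Um_cons _ _ _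
theorem X_add (ρ ρ' : Multiset ℕ) : (X (ρ + ρ') : Fn ι) = Um ρ (X ρ') := Um_add _ _ _
theorem X_zero : (X 0 : Fn ι) = vac ι := Um_zero _

theorem D_X {k : ℕ} (hk : 0 < k) (ρ : Multiset ℕ) (h : ρ.sum + k ≤ Fintype.card ι) :
    D k (X ρ : Fn ι) = ((ρ.count k * k : ℕ) : ℂ) • X (ρ.erase k) := by
  induction ρ using Multiset.induction_on with
  | empty => simp [X_zero, D_vac hk]
  | cons j ρ ih =>
    rw [Multiset.sum_cons] at h
    rw [X_cons, heis (anti_X ρ) (deg_X ρ) (by omega) (by omega), ih (by omega), map_smul, ← X_cons]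
    by_cases hjk : j = k
    · subst hjk
      rw [if_pos rfl, Multiset.erase_cons_head, Multiset.count_cons_self]
      by_cases hm : j ∈ ρ
      · rw [Multiset.cons_erase hm, ← add_smul]; congr 1; push_cast; ring
      · rw [Multiset.count_eq_zero_of_notMem hm]; simp
    · rw [if_neg hjk, Multiset.erase_cons_tail _ hjk, Multiset.count_cons_of_ne (Ne.symm hjk)]
      simp

def zz (ρ : Multiset ℕ) : ℕ := ρ.prod * ∏ n ∈ ρ.toFinset, (ρ.count n)!

theorem zz_cons (k : ℕ) (ρ : Multiset ℕ) : zz (k ::ₘ ρ) = (ρ.count k + 1) * k * zz ρ := by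
  have h1 : ∏ n ∈ ρ.toFinset, (ρ.count n)! = ∏ n ∈ insert k ρ.toFinset, (ρ.count n)! := by
    refine Finset.prod_subset (subset_insert _ _) fun n _ hn => ?_
    rw [Multiset.count_eq_zero_of_notMem (by simpa using hn)]; rfl
  rw [zz, zz, Multiset.prod_cons, Multiset.toFinset_cons, h1,
    ← Finset.mul_prod_erase _ _ (mem_insert_self k _),
    ← Finset.mul_prod_erase _ _ (mem_insert_self k _), Multiset.count_cons_self, factorial_succ,
    Finset.prod_congr rfl (g := fun n => (ρ.count n)!)]
  · ring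
  · intro n hn
    rw [Multiset.count_cons_of_ne (Finset.ne_of_mem_erase hn)]

theorem ip_X_X (ρ ρ' : Multiset ℕ) (hρ : ∀ k ∈ ρ, 0 < k) (hρ' : ∀ k ∈ ρ', 0 < k)
    (hs : ρ'.sum = ρ.sum) (hN : 2 * ρ.sum ≤ Fintype.card ι) :
    ip (M0 ι + ρ.sum) (X ρ : Fn ι) (X ρ') =
      if ρ = ρ' then (((Fintype.card ι)! * zz ρ : ℕ) : ℂ) else 0 := by
  induction ρ using Multiset.induction_on generalizing ρ' with
  | empty =>
    have : ρ' = 0 := by
      by_contra h
      obtain ⟨k, hk⟩ := Multiset.exists_mem_of_ne_zero h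
      have := hρ' k hk
      have := Multiset.single_le_sum (fun _ _ => Nat.zero_le _) k hk
      simp at hs; omega
    subst this
    have : ip (M0 ι) (vac ι) (vac ι) = _ := ip_alt (anti_vac (ι := ι)) (dl ι)
    rw [vac_dl] at this
    simpa [X_zero, zz] using this
  | cons k ρ ih =>
    have hk := hρ k (Multiset.mem_cons_self _ _)
    rw [Multiset.sum_cons] at hs hN
    rw [Multiset.sum_cons, add_comm k, ← add_assoc, X_cons, ip_U, D_X hk _ (by omega),
      ip_smul_right]
    by_cases hm : k ∈ ρ'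
    · have h1 : (ρ'.erase k).sum = ρ.sum := by
        rw [← Multiset.cons_erase hm, Multiset.sum_cons] at hs; omega
      rw [ih _ (fun k hk => hρ k (Multiset.mem_cons_of_mem hk))
        (fun k hk => hρ' k (Multiset.mem_of_mem_erase hk)) h1 (by omega)]
      by_cases he : k ::ₘ ρ = ρ'
      · subst he
        rw [if_pos rfl, Multiset.erase_cons_head, if_pos rfl, zz_cons, Multiset.count_cons_self]
        push_cast; ring
      · rw [if_neg he, if_neg, mul_zero]
        rintro rfl
        exact he (Multiset.cons_erase hm)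
    · rw [Multiset.count_eq_zero_of_notMem hm, if_neg]
      · simp
      · rintro rfl; exact hm (Multiset.mem_cons_self _ _)

theorem Anti.eq_zero_of_D {g : Fn ι} (hg : Anti g) {n : ℕ} (hn : 0 < n) (hd : Deg (M0 ι + n) g)
    (hD : ∀ k, 0 < k → Sn.D k g = 0) : g = 0 := by
  funext β
  by_contra h0
  obtain ⟨s, hs⟩ := exists_perm_of_range (γ := β) dl_inj fun i =>
    hg.rest_of_D hD _ (dl_lt i) β h0
  have h1 := hd β h0
  rw [← sum_comp_perm β s, ← hs, M0] at h1
  omega

theorem Anti.eq_zero_of_ip {g : Fn ι} (hg : Anti g) {n : ℕ} (hd : Deg (M0 ι + n) g)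
    (h : ∀ ρ : Multiset ℕ, (∀ k ∈ ρ, 0 < k) → ρ.sum = n → ip (M0 ι + n) (X ρ) g = 0) : g = 0 := by
  induction n using Nat.strong_induction_on generalizing g with
  | _ n ih =>
  rcases Nat.eq_zero_or_pos n with rfl | hn
  · have h1 := h 0 (by simp) rfl
    rw [X_zero, add_zero, vac, M0, ip_alt hg] at h1
    have h2 : g (dl ι) = 0 :=
      (mul_eq_zero.1 h1).resolve_left (by exact_mod_cast (factorial_pos _).ne')
    funext β
    by_contra h0
    obtain ⟨s, rfl⟩ := exists_perm_dl (hg.inj h0) (hd β h0).le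
    exact h0 (by rw [hg, h2, mul_zero]; rfl)
  · refine hg.eq_zero_of_D hn hd fun k hk => ?_
    by_cases hkn : k ≤ n
    · obtain ⟨m, rfl⟩ := Nat.exists_eq_add_of_le' hkn
      refine ih m (by omega) (hg.D k) (Deg.D (by rwa [add_assoc])) fun ρ hρ hs => ?_
      rw [← ip_U, ← X_cons, add_assoc]
      refine h _ (fun j hj => ?_) (by rw [Multiset.sum_cons]; omega)
      rcases Multiset.mem_cons.1 hj with rfl | hj
      exacts [hk, hρ j hj]
    · exact (hg.D k).eq_zero_of_lt fun β hβ => by have := hd.D' k hβ; omega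

end H19.Sn
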