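import Cfsg.Agent.H19.Sn3
import Cfsg.Agent.H17.Gen
import Mathlib.GroupTheory.Perm.Centralizer
import Mathlib.GroupTheory.Perm.Cycle.PossibleTypes

/-! The Frobenius formula: the irreducible characters of the symmetric group. -/

open H17 Cfsg
open scoped ComplexConjugate
namespace H19.Sn
open Finset Equiv Function Nat MvPolynomial

variable {ι : Type*} [Fintype ι] [DecidableEq ι] {α : Type*} [Fintype α] [DecidableEq α]

omit [DecidableEq ι] [DecidableEq α] in
theorem prod_psum_fiber {J : Type*} [Fintype J] [DecidableEq J] (π : α → J) :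
    ∏ j, psum ι ℂ (univ.filter fun x => π x = j).card =
      ∑ c : J → ι, ∏ x, (MvPolynomial.X (c (π x)) : MvPolynomial ι ℂ) := by
  simp only [psum]
  rw [Finset.prod_univ_sum, Fintype.piFinset_univ]
  refine Finset.sum_congr rfl fun c _ => ?_
  rw [← Finset.prod_fiberwise (s := univ) π]
  refine Finset.prod_congr rfl fun j _ => ?_
  rw [← Finset.prod_const]
  exact Finset.prod_congr rfl fun x hx => by rw [(mem_filter.1 hx).2]

theorem prod_psum_perm (σ : Perm α) :
    (σ.partition.parts.map (psum ι ℂ)).prod =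
      ∑ f ∈ univ.filter (fun f : α → ι => f ∘ σ = f),
        ∏ x, (MvPolynomial.X (f x) : MvPolynomial ι ℂ) := by
  classical
  let π : α → ↥σ.cycleFactorsFinset ⊕ {x // σ x = x} := fun x =>
    if h : σ x = x then Sum.inr ⟨x, h⟩ else
      Sum.inl ⟨σ.cycleOf x, Perm.cycleOf_mem_cycleFactorsFinset_iff.2 (Perm.mem_support.2 h)⟩
  have h1 : ∀ (c : ↥σ.cycleFactorsFinset) x, π x = Sum.inl c ↔ x ∈ c.1.support := by
    intro c x
    by_cases h : σ x = x
    · simp only [π, dif_pos h, reduceCtorEq, false_iff]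
      exact fun hx => (Perm.mem_support.1 (Perm.mem_cycleFactorsFinset_support_le c.2 hx)) h
    · simp only [π, dif_neg h, Sum.inl.injEq]
      constructor
      · rintro rfl
        exact (Perm.mem_support_cycleOf_iff' h).2 (Perm.SameCycle.refl _ _)
      · intro hx; exact Subtype.ext (Perm.cycle_is_cycleOf hx c.2).symm
  have h2 : ∀ (y : {x // σ x = x}) x, π x = Sum.inr y ↔ x = y.1 := by
    intro y x
    by_cases h : σ x = x
    · simp only [π, dif_pos h, Sum.inr.injEq, Subtype.ext_iff]
    · simp only [π, dif_neg h, reduceCtorEq, false_iff]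
      rintro rfl; exact h y.2
  have hsurj : Surjective π := by
    rintro (c | y)
    · obtain ⟨x, hx⟩ := (Perm.mem_cycleFactorsFinset_iff.1 c.2).1.nonempty_support
      exact ⟨x, (h1 c x).2 hx⟩
    · exact ⟨y.1, (h2 y _).2 rfl⟩
  have hσ : ∀ x, π (σ x) = π x := by
    intro x
    by_cases h : σ x = x
    · rw [h]
    · have h' : σ (σ x) ≠ σ x := fun h' => h (σ.injective h')
      simp only [π, dif_neg h, dif_neg h', Perm.cycleOf_self_apply]
  have hf : ∀ f : α → ι, f ∘ σ = f → ∀ x y, π x = π y → f x = f y := by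
    intro f hf x y hxy
    have hs : ∀ x y, σ.SameCycle x y → f x = f y := by
      intro x y h
      obtain ⟨k, hk, rfl⟩ := h.exists_pow_eq'
      clear hk h
      induction k with
      | zero => rfl
      | succ k ih => rw [ih, _root_.pow_succ', Perm.mul_apply]; exact (congrFun hf _).symm
    by_cases h : σ y = y
    · rw [(h2 ⟨y, h⟩ x).1 (hxy.trans ((h2 ⟨y, h⟩ y).2 rfl))]
    · have h3 := (h1 ⟨σ.cycleOf y, Perm.cycleOf_mem_cycleFactorsFinset_iff.2
        (Perm.mem_support.2 h)⟩ x).1 (by rw [hxy]; simp only [π, dif_neg h])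
      exact (hs _ _ ((Perm.mem_support_cycleOf_iff' h).1 h3)).symm
  have h3 : (σ.partition.parts.map (psum ι ℂ)).prod =
      ∏ j, psum ι ℂ (univ.filter fun x => π x = j).card := by
    rw [Fintype.prod_sum_type, Perm.parts_partition, Multiset.map_add, Multiset.prod_add]
    congr 1
    · rw [Perm.cycleType_def, Multiset.map_map, ← Finset.prod_eq_multiset_prod,
        ← Finset.prod_coe_sort]
      refine Finset.prod_congr rfl fun c _ => ?_
      simp only [h1, Function.comp_apply, Finset.filter_univ_mem]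
    · simp only [h2, Finset.filter_eq', mem_univ, if_true, Finset.card_singleton,
        Multiset.map_replicate, Multiset.prod_replicate, Finset.prod_const, Finset.card_univ]
      congr 1
      rw [Fintype.card_subtype, ← Finset.card_compl]
      congr 1; ext x; simp
  rw [h3, prod_psum_fiber]
  refine Finset.sum_bij (fun c _ => c ∘ π) ?_ ?_ ?_ (fun _ _ => rfl)
  · intro c _
    simp only [mem_filter, mem_univ, true_and]
    funext x; simp [hσ]
  · intro c _ c' _ h
    exact hsurj.right_cancellable.1 h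
  · intro f hf'
    refine ⟨f ∘ Function.surjInv hsurj, mem_univ _, ?_⟩
    funext x
    exact hf f (mem_filter.1 hf').2 _ _ (Function.surjInv_eq hsurj _)

/-- the content of a colouring -/
noncomputable def cont (f : α → ι) : ι →₀ ℕ := ∑ x, Finsupp.single (f x) 1

omit [Fintype ι] [DecidableEq ι] [DecidableEq α] in
theorem cont_comp (f : α → ι) (g : Perm α) : cont (f ∘ g) = cont f :=
  Equiv.sum_comp g (fun x => Finsupp.single (f x) 1)

/-- colourings with a given content -/
def Om (α : Type*) [Fintype α] (m : ι →₀ ℕ) := {f : α → ι // cont f = m}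

instance (m : ι →₀ ℕ) : Finite (Om α m) := by unfold Om; infer_instance

noncomputable instance (m : ι →₀ ℕ) : MulAction (Perm α) (Om α m) where
  smul g f := ⟨f.1 ∘ (g⁻¹ : Perm α), by rw [cont_comp, f.2]⟩
  one_smul f := rfl
  mul_smul g h f := rfl

open Classical in
theorem card_fixed_Om (m : ι →₀ ℕ) (σ : Perm α) : Nat.card (MulAction.fixedBy (Om α m) σ) =
    ((univ.filter fun f : α → ι => f ∘ σ = f).filter fun f => cont f = m).card := by
  rw [← Fintype.card_coe, ← Nat.card_eq_fintype_card]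
  refine Nat.card_congr ⟨fun f => ⟨f.1.1, ?_⟩, fun f => ⟨⟨f.1, (mem_filter.1 f.2).2⟩, ?_⟩,
    fun _ => rfl, fun _ => rfl⟩
  · have h : f.1.1 ∘ (σ⁻¹ : Perm α) = f.1.1 := congrArg Subtype.val f.2
    simp only [mem_filter, mem_univ, true_and]
    refine ⟨?_, f.1.2⟩
    funext x
    simpa using (congrFun h (σ x)).symm
  · have h := (mem_filter.1 (mem_filter.1 f.2).1).2
    apply Subtype.ext
    funext x
    show f.1 (σ⁻¹ x) = f.1 x
    simpa using (congrFun h (σ⁻¹ x)).symm

theorem vac_int (γ : ι → ℕ) : ∃ z : ℤ, vac ι γ = z := by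
  classical
  refine ⟨∑ w : Perm ι, if γ = dl ι ∘ w then (Perm.sign w : ℤ) else 0, ?_⟩
  simp only [vac, alt, sg, Int.cast_sum, Int.cast_ite, Int.cast_zero]

theorem X_int (ρ : Multiset ℕ) (β : ι → ℕ) : ∃ z : ℤ, X ρ β = z := by
  induction ρ using Multiset.induction_on generalizing β with
  | empty => rw [X_zero]; exact vac_int β
  | cons k ρ ih =>
    choose z hz using ih
    refine ⟨∑ i, if k ≤ β i then z (β - Pi.single i k) else 0, ?_⟩
    simp only [X_cons, U_apply, hz, Int.cast_sum, Int.cast_ite, Int.cast_zero]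

/-- the class function of the symmetric group attached to a bead configuration -/
noncomputable def ch (α : Type*) [Fintype α] [DecidableEq α] (β : ι → ℕ) : Perm α → ℂ :=
  fun σ => X σ.partition.parts β

theorem isGen_ch (β : ι → ℕ) : IsGeneralizedCharacter (Perm α) (ch α β) := by
  classical
  choose z hz using vac_int (ι := ι)
  have : ch α β = ∑ m ∈ univ.image (cont : (α → ι) → _),
      (((if (⇑m : ι → ℕ) ≤ β then z (β - ⇑m) else 0 : ℤ) : ℂ)) •
        fun σ : Perm α => (Nat.card (MulAction.fixedBy (Om α m) σ) : ℂ) := by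
    funext σ
    simp only [ch, X, Um, prod_psum_perm, Finset.sum_apply, Pi.smul_apply, card_fixed_Om, map_sum,
      LinearMap.sum_apply, smul_eq_mul]
    rw [← Finset.sum_fiberwise_of_maps_to (t := univ.image (cont : (α → ι) → _)) (g := cont)
      (fun f _ => mem_image_of_mem _ (mem_univ f))]
    refine Finset.sum_congr rfl fun m _ => ?_
    rw [mul_comm, ← nsmul_eq_mul, ← Finset.sum_const]
    refine Finset.sum_congr rfl fun f hf => ?_
    have h1 : (∏ x, MvPolynomial.X (f x) : MvPolynomial ι ℂ) = monomial (cont f) 1 := by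
      rw [cont, monomial_sum_one]; rfl
    rw [h1, up_monomial, (mem_filter.1 hf).2, hz]
    split_ifs <;> simp
  rw [this]
  exact isGen_sum _ _ fun m _ => (isCharacter_perm (Om α m)).isGen.intCast_smul _

theorem conj_ch (β : ι → ℕ) (σ : Perm α) : conj (ch α β σ) = ch α β σ := by
  obtain ⟨z, hz⟩ := X_int σ.partition.parts β
  rw [ch, hz, map_intCast]

theorem zz_add_replicate (ρ : Multiset ℕ) (h : 1 ∉ ρ) (m : ℕ) :
    zz (ρ + Multiset.replicate m 1) = m ! * zz ρ := by
  induction m with
  | zero => simp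
  | succ m ih =>
    rw [Multiset.replicate_succ, Multiset.add_cons, zz_cons, ih, Multiset.count_add,
      Multiset.count_eq_zero_of_notMem h, Multiset.count_replicate_self, factorial_succ]
    ring

theorem zz_parts (σ : Perm α) :
    zz σ.partition.parts = Nat.card (Subgroup.centralizer ({σ} : Set (Perm α))) := by
  rw [Perm.parts_partition, zz_add_replicate, Perm.nat_card_centralizer, Perm.sum_cycleType, zz,
    mul_assoc]
  exact fun h => absurd (Perm.two_le_of_mem_cycleType h) (by norm_num)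

theorem parts_eq_iff {σ τ : Perm α} : σ.partition.parts = τ.partition.parts ↔ IsConj σ τ := by
  rw [Perm.partition_eq_of_isConj, Nat.Partition.ext_iff]

theorem exists_parts_eq (α : Type*) [Fintype α] [DecidableEq α] (ρ : Multiset ℕ)
    (h : ∀ k ∈ ρ, 0 < k) (hs : ρ.sum = Fintype.card α) : ∃ σ : Perm α, σ.partition.parts = ρ := by
  have h1 := Multiset.filter_add_not (fun k => 2 ≤ k) ρ
  have h2 : ρ.filter (fun k => ¬ 2 ≤ k) = Multiset.replicate (ρ.filter (fun k => ¬ 2 ≤ k)).card 1 := by
    rw [Multiset.eq_replicate_card]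
    intro k hk
    have := h k (Multiset.mem_of_mem_filter hk)
    have := Multiset.of_mem_filter hk
    omega
  have h3 := congrArg Multiset.sum h1
  rw [Multiset.sum_add, h2, Multiset.sum_replicate, smul_eq_mul, mul_one] at h3
  obtain ⟨σ, hσ⟩ := (Perm.exists_with_cycleType_iff α (m := ρ.filter (fun k => 2 ≤ k))).2
    ⟨by omega, fun a ha => Multiset.of_mem_filter ha⟩
  refine ⟨σ, ?_⟩
  rw [Perm.parts_partition, ← Perm.sum_cycleType, hσ]
  conv_rhs => rw [← h1, h2]
  congr 2; omega

theorem sum_parts (σ : Perm α) : σ.partition.parts.sum = Fintype.card α := σ.partition.parts_sum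

theorem deg_X_perm (σ : Perm α) : Deg (M0 ι + Fintype.card α) (X σ.partition.parts : Fn ι) := by
  have := deg_X (ι := ι) σ.partition.parts
  rwa [sum_parts] at this

theorem ip_X_perm (hN : 2 * Fintype.card α ≤ Fintype.card ι) (σ τ : Perm α) :
    ip (M0 ι + Fintype.card α) (X σ.partition.parts : Fn ι) (X τ.partition.parts) =
      if σ.partition.parts = τ.partition.parts then
        (((Fintype.card ι)! * Nat.card (Subgroup.centralizer ({σ} : Set (Perm α))) : ℕ) : ℂ)
      else 0 := by
  have := ip_X_X (ι := ι) σ.partition.parts τ.partition.parts (fun _ h => σ.partition.parts_pos h)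
    (fun _ h => τ.partition.parts_pos h) (by rw [sum_parts, sum_parts]) (by rwa [sum_parts])
  rwa [sum_parts, zz_parts] at this

theorem ip_X_sum (hN : 2 * Fintype.card α ≤ Fintype.card ι) {θ : Perm α → ℂ}
    (hθ : IsClassFunction (Perm α) θ) (τ : Perm α) :
    ip (M0 ι + Fintype.card α) (∑ σ : Perm α, θ σ • X σ.partition.parts : Fn ι)
      (X τ.partition.parts) = (Fintype.card ι)! * Nat.card (Perm α) * θ τ := by
  classical
  have hc : (univ.filter fun h => IsConj τ h).card =
      (Subgroup.centralizer ({τ} : Set (Perm α))).index := by convert card_filter_isConj τ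
  rw [ip_sum_left]
  simp only [ip_smul_left]
  rw [Finset.sum_congr rfl (g := fun σ => if IsConj τ σ then
    (((Fintype.card ι)! * Nat.card (Subgroup.centralizer ({τ} : Set (Perm α))) : ℕ) : ℂ) * θ τ
      else 0), ← Finset.sum_filter, Finset.sum_const, hc, nsmul_eq_mul,
      ← Subgroup.card_mul_index (Subgroup.centralizer ({τ} : Set (Perm α)))]
  · push_cast; ring
  · intro σ _
    rw [ip_comm, ip_X_perm hN]
    by_cases h : IsConj τ σ
    · rw [if_pos h, if_pos (parts_eq_iff.2 h), hθ.of_isConj h, mul_comm]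
    · rw [if_neg h, if_neg (fun h' => h (parts_eq_iff.1 h')), mul_zero]

/-- expansion of an antisymmetric function in the basis `X ρ` -/
theorem Anti.expand (hN : 2 * Fintype.card α ≤ Fintype.card ι) {g : Fn ι} (hg : Anti g)
    (hd : Deg (M0 ι + Fintype.card α) g) :
    (((Fintype.card ι)! * Nat.card (Perm α) : ℕ) : ℂ) • g =
      ∑ σ : Perm α, ip (M0 ι + Fintype.card α) g (X σ.partition.parts) • X σ.partition.parts := by
  rw [← sub_eq_zero]
  refine Anti.eq_zero_of_ip (n := Fintype.card α)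
    ((hg.smul _).sub (anti_sum _ _ fun σ _ => (anti_X _).smul _))
    ((hd.smul _).sub (deg_sum _ _ fun σ _ => (deg_X_perm σ).smul _)) fun ρ hρ hs => ?_
  obtain ⟨τ, rfl⟩ := exists_parts_eq α ρ hρ hs
  rw [ip_comm, ip_sub_left, ip_X_sum hN, ip_smul_left]
  · push_cast; ring
  · rw [isClassFunction_iff_isConj]
    intro g h hc
    rw [parts_eq_iff.2 hc]

theorem inner_ch (hN : 2 * Fintype.card α ≤ Fintype.card ι) {β : ι → ℕ}
    (hβ : ∑ i, β i = M0 ι + Fintype.card α) (β' : ι → ℕ) :
    classInner (ch α β) (ch α β') = alt β β' := by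
  have h := congrFun ((anti_alt β).expand hN (hβ ▸ deg_alt β)) β'
  simp only [← hβ, ip_alt (anti_X _), Finset.sum_apply, Pi.smul_apply, smul_eq_mul] at h
  rw [classInner_def]
  simp only [conj_ch]
  have h1 : ((Fintype.card ι)! : ℂ) ≠ 0 := by exact_mod_cast (factorial_pos _).ne'
  have h2 := card_ne_zero_complex (G := Perm α)
  rw [inv_mul_eq_iff_eq_mul₀ h2]
  apply mul_left_cancel₀ h1
  rw [← mul_assoc, ← Nat.cast_mul, h, Finset.mul_sum]
  exact Finset.sum_congr rfl fun σ _ => by simp only [ch]; ring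

/-- `χ` is labelled by the bead configuration `β` -/
def Lab (χ : Perm α → ℂ) (β : ι → ℕ) : Prop :=
  Injective β ∧ ∑ i, β i = M0 ι + Fintype.card α ∧
    ∃ e : ℂ, (e = 1 ∨ e = -1) ∧ ∀ σ, χ σ = e * ch α β σ

theorem exists_irr_lab (hN : 2 * Fintype.card α ≤ Fintype.card ι) {β : ι → ℕ} (hi : Injective β)
    (hβ : ∑ i, β i = M0 ι + Fintype.card α) : ∃ χ : IrrCharacter (Perm α), Lab (χ : Perm α → ℂ) β := by
  rcases (isGen_ch β).irr_or_neg_irr (by rw [inner_ch hN hβ, alt_self hi]) with h | h
  · exact ⟨⟨_, h⟩, hi, hβ, 1, Or.inl rfl, fun σ => by simp⟩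
  · exact ⟨⟨_, h⟩, hi, hβ, -1, Or.inr rfl, fun σ => by simp⟩

theorem exists_lab (hN : 2 * Fintype.card α ≤ Fintype.card ι) (χ : IrrCharacter (Perm α)) :
    ∃ β : ι → ℕ, Lab (χ : Perm α → ℂ) β := by
  by_contra hne
  push Not at hne
  have h0 : (∑ σ : Perm α, (χ : Perm α → ℂ) σ • X σ.partition.parts : Fn ι) = 0 := by
    funext β
    by_contra h
    have hi := (anti_sum _ _ fun σ _ => (anti_X _).smul _).inj h
    have hs := (deg_sum _ _ fun σ _ => (deg_X_perm σ).smul _) β h
    obtain ⟨ψ, hψ⟩ := exists_irr_lab hN hi hs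
    have hne' : χ ≠ ψ := by rintro rfl; exact hne β hψ
    obtain ⟨-, -, e, he, hψ⟩ := hψ
    have h1 := irr_inner χ ψ
    rw [if_neg hne', classInner_def] at h1
    have h2 := (mul_eq_zero.1 h1).resolve_left (inv_ne_zero card_ne_zero_complex)
    simp only [hψ, map_mul, conj_ch] at h2
    apply h
    have h3 : conj e ≠ 0 := by rcases he with rfl | rfl <;> simp
    apply mul_left_cancel₀ h3
    simp only [Finset.sum_apply, Pi.smul_apply, smul_eq_mul, Pi.zero_apply, mul_zero, Finset.mul_sum]
    rw [← h2]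
    exact Finset.sum_congr rfl fun σ _ => by simp only [ch]; ring
  have := ip_X_sum hN χ.2.isClassFunction 1
  rw [h0, ip_zero_left] at this
  refine absurd this.symm (mul_ne_zero (mul_ne_zero ?_ card_ne_zero_complex) χ.2.one_ne_zero)
  exact_mod_cast (factorial_pos _).ne'

theorem Lab.inner (hN : 2 * Fintype.card α ≤ Fintype.card ι) {χ ψ : Perm α → ℂ} {β β' : ι → ℕ}
    (h : Lab χ β) (h' : Lab ψ β') : classInner χ ψ ≠ 0 ↔ ∃ s : Perm ι, β' = β ∘ s := by
  obtain ⟨hi, hs, e, he, h⟩ := h
  obtain ⟨-, -, e', he', h'⟩ := h'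
  have h1 : χ = e • ch α β := funext h
  have h2 : ψ = e' • ch α β' := funext h'
  have h3 : e ≠ 0 := by rcases he with rfl | rfl <;> simp
  have h4 : conj e' ≠ 0 := by rcases he' with rfl | rfl <;> simp
  rw [h1, h2, classInner_smul_left, classInner_smul_right, inner_ch hN hs]
  constructor
  · intro h0
    exact exists_of_alt_ne_zero fun h => h0 (by simp [h])
  · rintro ⟨s, rfl⟩
    rw [anti_alt, alt_self hi, mul_one]
    exact mul_ne_zero h3 (mul_ne_zero h4 (sg_ne_zero s))

theorem Lab.eq_iff (hN : 2 * Fintype.card α ≤ Fintype.card ι) {χ ψ : IrrCharacter (Perm α)}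
    {β β' : ι → ℕ} (h : Lab (χ : Perm α → ℂ) β) (h' : Lab (ψ : Perm α → ℂ) β') :
    χ = ψ ↔ ∃ s : Perm ι, β' = β ∘ s := by
  rw [← h.inner hN h', irr_inner]
  by_cases he : χ = ψ <;> simp [he]

theorem Lab.ne_zero_iff {χ : Perm α → ℂ} {β : ι → ℕ} (h : Lab χ β) (σ : Perm α) :
    χ σ ≠ 0 ↔ X σ.partition.parts β ≠ 0 := by
  obtain ⟨-, -, e, he, h⟩ := h
  have h3 : e ≠ 0 := by rcases he with rfl | rfl <;> simp
  simp [h, h3, ch]

theorem Lab.comp {χ : Perm α → ℂ} {β : ι → ℕ} (h : Lab χ β) (s : Perm ι) : Lab χ (β ∘ s) := by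
  obtain ⟨hi, hs, e, he, h⟩ := h
  refine ⟨hi.comp s.injective, by rw [sum_comp_perm, hs], e * sg s, ?_, fun σ => ?_⟩
  · rcases he with rfl | rfl <;> rcases sg_eq s with h | h <;> simp [h]
  · rw [h, ch, ch, anti_X, mul_assoc, ← mul_assoc (sg s), sg_mul_self, one_mul]

end H19.Sn
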