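import Cfsg.Agent.H19.Sn3
import Mathlib.Data.Sym.Card
import Mathlib.Data.Set.Card.Arithmetic

/-! Runner operators and the count of coloured partitions. -/

namespace H19.Sn
open Finset Equiv Function Module

variable {ι : Type*} [Fintype ι] [DecidableEq ι]

open Classical in
noncomputable def Pj (p : ℕ) (κ : ℕ → ℕ) : Module.End ℂ (Fn ι) where
  toFun f β := if res p β = κ then f β else 0
  map_add' f g := by funext β; simp only [Pi.add_apply]; split_ifs <;> simp
  map_smul' c f := by funext β; simp only [Pi.smul_apply]; split_ifs <;> simp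

omit [DecidableEq ι] in
open Classical in
theorem Pj_apply (p : ℕ) (κ : ℕ → ℕ) (f : Fn ι) (β : ι → ℕ) :
    Pj p κ f β = if res p β = κ then f β else 0 := rfl

theorem Anti.Pj {f : Fn ι} (h : Anti f) (p : ℕ) (κ : ℕ → ℕ) : Anti (Pj p κ f) := fun s β => by
  rw [Pj_apply, Pj_apply, res_comp, h s β]; split_ifs <;> simp

omit [DecidableEq ι] in
theorem Deg.Pj {M : ℕ} {f : Fn ι} (h : Deg M f) (p : ℕ) (κ : ℕ → ℕ) : Deg M (Pj p κ f) :=
  fun β hβ => h β fun h0 => hβ (by simp [Pj_apply, h0])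

theorem Pj_D (p k : ℕ) (κ : ℕ → ℕ) (f : Fn ι) : Pj p κ (D (p * k) f) = D (p * k) (Pj p κ f) := by
  funext β
  by_cases h : res p β = κ <;> simp [Pj_apply, D_apply, res_add_single, h]

theorem Pj_U (p k : ℕ) (κ : ℕ → ℕ) (f : Fn ι) : Pj p κ (U (p * k) f) = U (p * k) (Pj p κ f) := by
  funext β
  simp only [Pj_apply, U_apply]
  split_ifs with h
  · refine Finset.sum_congr rfl fun i _ => ?_
    split_ifs with h1 h2
    · rfl
    · exact absurd ((res_sub_single h1).trans h) h2
    · rfl
  · symm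
    refine Finset.sum_eq_zero fun i _ => ?_
    split_ifs with h1 h2
    · exact absurd ((res_sub_single h1).symm.trans h2) h
    · rfl
    · rfl

theorem ip_Pj (M p : ℕ) (κ : ℕ → ℕ) (f g : Fn ι) : ip M (Pj p κ f) g = ip M f (Pj p κ g) := by
  simp only [ip, Pj_apply]
  exact Finset.sum_congr rfl fun β _ => by split_ifs <;> simp

noncomputable def Dr (p c k : ℕ) : Module.End ℂ (Fn ι) where
  toFun f β := ∑ i, if β i % p = c then f (β + Pi.single i (p * k)) else 0
  map_add' f g := by
    funext β; simp only [Pi.add_apply, ← Finset.sum_add_distrib]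
    exact Finset.sum_congr rfl fun i _ => by split_ifs <;> simp
  map_smul' c f := by
    funext β; simp only [Pi.smul_apply, RingHom.id_apply, smul_eq_mul, Finset.mul_sum]
    exact Finset.sum_congr rfl fun i _ => by split_ifs <;> simp

theorem Dr_apply (p c k : ℕ) (f : Fn ι) (β : ι → ℕ) :
    Dr p c k f β = ∑ i, if β i % p = c then f (β + Pi.single i (p * k)) else 0 := rfl

theorem Dr_comm (p c k c' k' : ℕ) :
    (Dr p c k * Dr p c' k' : Module.End ℂ (Fn ι)) = Dr p c' k' * Dr p c k := by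
  ext f β
  have key : ∀ c k c' k', Dr p c k (Dr p c' k' f) β = ∑ i, ∑ j,
      if β i % p = c ∧ β j % p = c' then
        f (β + (Pi.single i (p * k) + Pi.single j (p * k'))) else 0 := by
    intro c k c' k'
    simp only [Dr_apply, add_single_mod, add_assoc]
    refine Finset.sum_congr rfl fun i _ => ?_
    split_ifs with h <;> simp [h]
  rw [Module.End.mul_apply, Module.End.mul_apply, key, key, Finset.sum_comm]
  simp only [and_comm, add_comm]

theorem D_eq_sum {p : ℕ} (hp : 0 < p) (k : ℕ) (f : Fn ι) :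
    D (p * k) f = ∑ c ∈ range p, Dr p c k f := by
  funext β
  simp only [D_apply, Finset.sum_apply, Dr_apply]
  rw [Finset.sum_comm]
  refine Finset.sum_congr rfl fun i _ => ?_
  rw [Finset.sum_ite_eq, if_pos (mem_range.2 (Nat.mod_lt _ hp))]

theorem D_Dr {p : ℕ} (hp : 0 < p) (c k k' : ℕ) (f : Fn ι) :
    D (p * k') (Dr p c k f) = Dr p c k (D (p * k') f) := by
  rw [D_eq_sum hp, D_eq_sum hp, map_sum]
  refine Finset.sum_congr rfl fun c' _ => ?_
  rw [← Module.End.mul_apply, Dr_comm, Module.End.mul_apply]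

theorem Anti.Dr {f : Fn ι} (h : Anti f) (p c k : ℕ) : Anti (Dr p c k f) := fun s β => by
  rw [Dr_apply, Dr_apply, Finset.mul_sum, ← Equiv.sum_comp s (fun i => sg s * _)]
  refine Finset.sum_congr rfl fun i _ => ?_
  simp only [Function.comp_apply]
  split_ifs
  · rw [← h s, ← single_comp s i (p * k)]; rfl
  · simp

theorem exists_of_Dr_ne_zero {p c k : ℕ} {f : Fn ι} {β : ι → ℕ} (h : Dr p c k f β ≠ 0) :
    ∃ i, f (β + Pi.single i (p * k)) ≠ 0 := by
  obtain ⟨i, -, hi⟩ := Finset.exists_ne_zero_of_sum_ne_zero h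
  exact ⟨i, fun h0 => hi (by simp [h0])⟩

theorem Anti.rest_of_Dr {p : ℕ} (hp : 0 < p) {g : Fn ι} (hg : Anti g)
    (hD : ∀ c k, c < p → 0 < k → Sn.Dr p c k g = 0) {β : ι → ℕ} (hβ : g β ≠ 0) : Rest p β := by
  refine ⟨hg.inj hβ, fun i hi => ?_⟩
  set c := β i % p with hc
  have hcp : c < p := Nat.mod_lt _ hp
  let ex : ({x // β x % p = c} → ℕ) → ι → ℕ := fun b x =>
    if h : β x % p = c then c + p * b ⟨x, h⟩ else β x
  have hex : ∀ b x, ex b x % p = c ↔ β x % p = c := by
    intro b x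
    by_cases h : β x % p = c
    · simp only [ex, dif_pos h, h, Nat.add_mul_mod_self_left, Nat.mod_eq_of_lt hcp]
    · simp only [ex, dif_neg h]
  let g' : Fn {x // β x % p = c} := fun b => g (ex b)
  have h1 : Anti g' := by
    intro s b
    have : ex (b ∘ s) = ex b ∘ Perm.ofSubtype s := by
      funext x
      by_cases h : β x % p = c
      · simp only [ex, Function.comp_apply, Perm.ofSubtype_apply_of_mem s h, dif_pos h,
          dif_pos (s ⟨x, h⟩).2]
      · simp only [ex, Function.comp_apply, Perm.ofSubtype_apply_of_not_mem s h, dif_neg h]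
    simp only [g', this, hg _ (ex b), sg, Perm.sign_ofSubtype]
  have h2 : ∀ k, 0 < k → Sn.D k g' = 0 := by
    intro k hk
    funext b
    have := congrFun (hD c k hcp hk) (ex b)
    rw [Dr_apply, ← Finset.sum_filter, Finset.sum_subtype (p := fun x => β x % p = c) _
      (by simp [hex])] at this
    rw [D_apply, Pi.zero_apply, ← Pi.zero_apply (M := fun _ => ℂ) (ex b), ← this]
    refine Finset.sum_congr rfl fun x _ => ?_
    simp only [g']
    congr 1
    funext y
    by_cases hy : y = x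
    · subst hy
      rw [add_single_self]
      simp only [ex, dif_pos x.2, Subtype.coe_eta, add_single_self]; ring
    · rw [add_single_ne _ hy]
      by_cases h : β y % p = c
      · simp only [ex, dif_pos h]
        rw [add_single_ne _ (fun h' => hy (congrArg Subtype.val h'))]
      · simp only [ex, dif_neg h]
  let b0 : {x // β x % p = c} → ℕ := fun x => β x / p
  have h3 : g' b0 ≠ 0 := by
    have : ex b0 = β := by
      funext x
      by_cases h : β x % p = c
      · simp only [ex, dif_pos h, b0]; rw [← h, Nat.mod_add_div]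
      · simp only [ex, dif_neg h]
    simpa only [g', this] using hβ
  have h4 := fun m hm => h1.rest_of_D h2 m hm b0 h3
  obtain ⟨s, hs⟩ := exists_perm_of_range (γ := b0) dl_inj fun x => h4 _ (dl_lt x)
  have h5 : b0 ⟨i, rfl⟩ < Fintype.card {x // β x % p = c} := by
    have := dl_lt (s.symm ⟨i, rfl⟩)
    rwa [hs, Function.comp_apply, Equiv.apply_symm_apply] at this
  have h6 : 0 < β i / p := Nat.div_pos hi hp
  obtain ⟨x, hx⟩ := h4 (β i / p - 1) (by simp only [b0] at h5; omega)
  refine ⟨x, ?_⟩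
  have e1 := Nat.mod_add_div (β x) p
  have e2 := Nat.mod_add_div (β i) p
  simp only [b0] at hx
  obtain ⟨t, ht⟩ := Nat.exists_eq_succ_of_ne_zero h6.ne'
  rw [hx, x.2, ht] at e1
  rw [ht, Nat.mul_succ] at e2
  simp only [Nat.succ_sub_one] at e1
  omega

instance (q : ℕ) : LeftCommutative
    (fun (x : Fin q × ℕ) (L : Module.End ℂ (Fn ι)) => Dr (q + 1) (x.1 + 1) x.2 * L) :=
  ⟨fun x y L => by rw [← mul_assoc, ← mul_assoc, Dr_comm]⟩

noncomputable def Dm {q : ℕ} (m : Multiset (Fin q × ℕ)) : Module.End ℂ (Fn ι) :=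
  m.foldr (fun (x : Fin q × ℕ) (L : Module.End ℂ (Fn ι)) => Dr (q + 1) (x.1 + 1) x.2 * L) 1

theorem Dm_cons {q : ℕ} (x : Fin q × ℕ) (m : Multiset (Fin q × ℕ)) :
    (Dm (x ::ₘ m) : Module.End ℂ (Fn ι)) = Dm m * Dr (q + 1) (x.1 + 1) x.2 := by
  have : ∀ x m, (Dm (x ::ₘ m) : Module.End ℂ (Fn ι)) = Dr (q + 1) (x.1 + 1) x.2 * Dm m :=
    fun x m => Multiset.foldr_cons _ _ _ _
  rw [this]
  induction m using Multiset.induction_on with
  | empty => simp [Dm]
  | cons y m ih => rw [this, ← mul_assoc, Dr_comm, mul_assoc, ih, mul_assoc]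

/-- coloured partitions of `w` with `q` colours -/
def CP (q w : ℕ) : Set (Multiset (Fin q × ℕ)) :=
  {m | (∀ x ∈ m, 0 < x.2) ∧ (m.map Prod.snd).sum = w}

/-- the vectors of weight `w` over the core `γ` killed by all `D (p k)` -/
def KK (p : ℕ) (γ : ι → ℕ) (w : ℕ) : Submodule ℂ (Fn ι) where
  carrier := {g | Anti g ∧ Deg (∑ i, γ i + p * w) g ∧ (∀ β, g β ≠ 0 → res p β = res p γ) ∧
    ∀ k, 0 < k → D (p * k) g = 0}
  add_mem' := fun {f g} hf hg => ⟨hf.1.add hg.1, hf.2.1.add hg.2.1, fun β h => by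
    by_cases h1 : f β = 0
    · exact hg.2.2.1 β (by simpa [h1] using h)
    · exact hf.2.2.1 β h1, fun k hk => by rw [map_add, hf.2.2.2 k hk, hg.2.2.2 k hk, add_zero]⟩
  zero_mem' := ⟨anti_zero, deg_zero _, fun _ h => absurd rfl h, fun _ _ => map_zero _⟩
  smul_mem' := fun c f hf => ⟨hf.1.smul c, hf.2.1.smul c, fun β h => hf.2.2.1 β fun h0 =>
    h (by simp [h0]), fun k hk => by rw [map_smul, hf.2.2.2 k hk, smul_zero]⟩

theorem KK_eq_zero {q : ℕ} {γ : ι → ℕ} (hγ : Rest (q + 1) γ) {w : ℕ} {g : Fn ι}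
    (hg : g ∈ KK (q + 1) γ w) (h : ∀ m ∈ CP q w, Dm m g γ = 0) : g = 0 := by
  have hp : 0 < q + 1 := Nat.succ_pos q
  induction w using Nat.strong_induction_on generalizing g with
  | _ w ih =>
  obtain ⟨h1, h2, h3, h4⟩ := hg
  rcases Nat.eq_zero_or_pos w with rfl | hw
  · have h0 : g γ = 0 := by simpa [Dm] using h 0 ⟨by simp, by simp⟩
    funext β
    by_contra hβ
    obtain ⟨s, rfl⟩ := hγ.exists_perm hp
      (hγ.of_sum hp (h1.inj hβ) (h3 β hβ) (by simpa using (h2 β hβ).le)) (h3 β hβ).symm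
    exact hβ (by rw [h1, h0, mul_zero]; rfl)
  have hsupp : ∀ c k β, Dr (q + 1) c k g β ≠ 0 →
      res (q + 1) β = res (q + 1) γ ∧ ∑ i, β i + (q + 1) * k = ∑ i, γ i + (q + 1) * w := by
    intro c k β hβ
    obtain ⟨i, hi⟩ := exists_of_Dr_ne_zero hβ
    exact ⟨by rw [← h3 _ hi, res_add_single], by rw [← h2 _ hi, sum_add_single]⟩
  have h5 : ∀ (c : Fin q) k, 0 < k → Dr (q + 1) (c + 1) k g = 0 := by
    intro c k hk
    by_cases hkw : k ≤ w
    · obtain ⟨v, rfl⟩ := Nat.exists_eq_add_of_le hkw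
      refine ih v (by omega) ⟨h1.Dr _ _ _, fun β hβ => ?_, fun β hβ => (hsupp _ _ _ hβ).1,
        fun k' hk' => by rw [D_Dr hp, h4 k' hk', map_zero]⟩ fun m hm => ?_
      · have := (hsupp _ _ _ hβ).2
        rw [Nat.mul_add] at this; omega
      · have := h ((c, k) ::ₘ m) ⟨fun x hx => ?_, by simp [hm.2]⟩
        · rwa [Dm_cons] at this
        · rcases Multiset.mem_cons.1 hx with rfl | hx
          exacts [hk, hm.1 x hx]
    · funext β
      by_contra hβ
      obtain ⟨e1, e2⟩ := hsupp _ _ _ hβ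
      obtain ⟨v, hv⟩ := hγ.sum_le hp ((h1.Dr _ _ _).inj hβ) e1
      have := Nat.mul_lt_mul_of_pos_left (not_le.1 hkw) hp
      omega
  have h6 : ∀ c k, c < q + 1 → 0 < k → Dr (q + 1) c k g = 0 := by
    intro c k hc hk
    rcases c with _ | c
    · have := h4 k hk
      rwa [D_eq_sum hp, Finset.sum_range_succ', Finset.sum_eq_zero, zero_add] at this
      intro c hc
      exact h5 ⟨c, mem_range.1 hc⟩ k hk
    · exact h5 ⟨c, by omega⟩ k hk
  funext β
  by_contra hβ
  have h7 := hγ.sum_eq hp (h1.rest_of_Dr hp h6 hβ) (h3 β hβ).symm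
  have h8 := h2 β hβ
  have := Nat.mul_pos hp hw
  omega

theorem CP_zero (q : ℕ) : CP q 0 = {0} := by
  ext m
  simp only [CP, Set.mem_ofPred_eq, Set.mem_singleton_iff]
  refine ⟨fun h => ?_, by rintro rfl; simp⟩
  by_contra h0
  obtain ⟨x, hx⟩ := Multiset.exists_mem_of_ne_zero h0
  have := h.1 x hx
  have := Multiset.single_le_sum (fun _ _ => Nat.zero_le _) _ (Multiset.mem_map_of_mem Prod.snd hx)
  omega

open Classical in
noncomputable def bump {q : ℕ} (y : Multiset (Fin q × ℕ) × Option (Fin q)) : Multiset (Fin q × ℕ) :=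
  match y.2 with
  | some c => (c, 1) ::ₘ y.1
  | none => if h : ∃ x ∈ y.1, ∀ z ∈ y.1, x.2 ≤ z.2 then
      (h.choose.1, h.choose.2 + 1) ::ₘ y.1.erase h.choose else 0

theorem CP_succ (q w : ℕ) : CP q (w + 1) ⊆ bump '' (CP q w ×ˢ Set.univ) := by
  classical
  intro m hm
  by_cases h1 : ∃ c, (c, 1) ∈ m
  · obtain ⟨c, hc⟩ := h1
    refine ⟨(m.erase (c, 1), some c), ⟨⟨fun x hx => hm.1 x (Multiset.mem_of_mem_erase hx), ?_⟩,
      trivial⟩, Multiset.cons_erase hc⟩
    have := hm.2
    rw [← Multiset.cons_erase hc] at this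
    simp only [Multiset.map_cons, Multiset.sum_cons] at this ⊢
    omega
  · have h0 : m ≠ 0 := by rintro rfl; simpa using hm.2
    obtain ⟨x, hx, hmin⟩ := Finset.exists_min_image m.toFinset Prod.snd
      (Multiset.toFinset_nonempty.2 h0)
    simp only [Multiset.mem_toFinset] at hx hmin
    have hx2 : 2 ≤ x.2 := by
      have := hm.1 x hx
      by_contra h
      exact h1 ⟨x.1, by rw [show (1 : ℕ) = x.2 by omega]; exact hx⟩
    have hlt : ∀ z ∈ m.erase x, x.2 - 1 < z.2 := fun z hz => by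
      have := hmin z (Multiset.mem_of_mem_erase hz); omega
    refine ⟨((x.1, x.2 - 1) ::ₘ m.erase x, none), ⟨⟨fun z hz => ?_, ?_⟩, trivial⟩, ?_⟩
    · rcases Multiset.mem_cons.1 hz with rfl | hz
      · simp only; omega
      · have := hlt z hz; omega
    · have := hm.2
      rw [← Multiset.cons_erase hx] at this
      simp only [Multiset.map_cons, Multiset.sum_cons] at this ⊢
      omega
    · have h : ∃ y ∈ (x.1, x.2 - 1) ::ₘ m.erase x, ∀ z ∈ (x.1, x.2 - 1) ::ₘ m.erase x, y.2 ≤ z.2 :=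
        ⟨_, Multiset.mem_cons_self _ _, fun z hz => by
          rcases Multiset.mem_cons.1 hz with rfl | hz
          exacts [le_rfl, (hlt z hz).le]⟩
      have h2 : h.choose = (x.1, x.2 - 1) := by
        rcases Multiset.mem_cons.1 h.choose_spec.1 with h3 | h3
        · exact h3
        · exact absurd (h.choose_spec.2 _ (Multiset.mem_cons_self _ _)) (not_le.2 (hlt _ h3))
      simp only [bump, dif_pos h, h2, Multiset.erase_cons_head]
      rw [Nat.sub_add_cancel (by omega)]
      exact Multiset.cons_erase hx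

theorem CP_finite (q w : ℕ) : (CP q w).Finite := by
  induction w with
  | zero => rw [CP_zero]; exact Set.finite_singleton _
  | succ w ih => exact ((ih.prod Set.finite_univ).image _).subset (CP_succ q w)

theorem ncard_CP_succ (q w : ℕ) : (CP q (w + 1)).ncard ≤ (CP q w).ncard * (q + 1) := by
  have hf := (CP_finite q w).prod (Set.finite_univ (α := Option (Fin q)))
  refine (Set.ncard_le_ncard (CP_succ q w) (hf.image _)).trans ((Set.ncard_image_le hf).trans ?_)
  rw [Set.ncard_prod, Set.ncard_univ]; simp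

theorem ncard_CP_add (q w v : ℕ) : (CP q (w + v)).ncard ≤ (CP q w).ncard * (q + 1) ^ v := by
  induction v with
  | zero => simp
  | succ v ih =>
    refine (ncard_CP_succ q (w + v)).trans ?_
    rw [pow_succ, ← mul_assoc]; exact Nat.mul_le_mul_right _ ih

theorem card_le_of_CP {q w : ℕ} {m : Multiset (Fin q × ℕ)} (hm : m ∈ CP q w) : m.card ≤ w := by
  have := Multiset.card_nsmul_le_sum (s := m.map Prod.snd) (a := 1) (fun x hx => by
    obtain ⟨y, hy, rfl⟩ := Multiset.mem_map.1 hx; exact hm.1 y hy)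
  simpa [hm.2] using this

theorem ncard_CP_one (q : ℕ) : (CP q 1).ncard ≤ q := by
  have : CP q 1 ⊆ (fun c : Fin q => ({(c, 1)} : Multiset (Fin q × ℕ))) '' Set.univ := by
    intro m hm
    have h1 := card_le_of_CP hm
    have h0 : m.card ≠ 0 := by
      rw [Ne, Multiset.card_eq_zero]; rintro rfl; simpa using hm.2
    obtain ⟨x, rfl⟩ := Multiset.card_eq_one.1 (by omega : m.card = 1)
    have : x.2 = 1 := by simpa using hm.2
    exact ⟨x.1, trivial, by rw [← this]⟩
  refine (Set.ncard_le_ncard this (Set.finite_univ.image _)).trans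
    ((Set.ncard_image_le Set.finite_univ).trans ?_)
  simp [Set.ncard_univ]

theorem ncard_CP_three (q : ℕ) : (CP q 3).ncard ≤ q + q * q + (q + 2).choose 3 := by
  have : CP q 3 ⊆ ((fun c : Fin q => ({(c, 3)} : Multiset (Fin q × ℕ))) '' Set.univ ∪
      (fun c : Fin q × Fin q => ({(c.1, 2), (c.2, 1)} : Multiset (Fin q × ℕ))) '' Set.univ) ∪
      (fun c : Sym (Fin q) 3 => (c : Multiset (Fin q)).map fun a => (a, 1)) '' Set.univ := by
    intro m hm
    have h1 := card_le_of_CP hm
    have h0 : m.card ≠ 0 := by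
      rw [Ne, Multiset.card_eq_zero]; rintro rfl; simpa using hm.2
    have h2 := hm.2
    rcases (by omega : m.card = 1 ∨ m.card = 2 ∨ m.card = 3) with h | h | h
    · obtain ⟨x, rfl⟩ := Multiset.card_eq_one.1 h
      have : x.2 = 3 := by simpa using h2
      exact Or.inl (Or.inl ⟨x.1, trivial, by rw [← this]⟩)
    · obtain ⟨x, y, rfl⟩ := Multiset.card_eq_two.1 h
      have hx := hm.1 x (by simp)
      have hy := hm.1 y (by simp)
      simp only [Multiset.insert_eq_cons, Multiset.map_cons, Multiset.map_singleton,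
        Multiset.sum_cons, Multiset.sum_singleton] at h2
      rcases (by omega : (x.2 = 2 ∧ y.2 = 1) ∨ (y.2 = 2 ∧ x.2 = 1)) with h | h
      · exact Or.inl (Or.inr ⟨(x.1, y.1), trivial, by simp only; rw [← h.1, ← h.2]⟩)
      · exact Or.inl (Or.inr ⟨(y.1, x.1), trivial, by
          simp only; rw [← h.1, ← h.2, Multiset.pair_comm]⟩)
    · refine Or.inr ⟨⟨m.map Prod.fst, by simp [h]⟩, trivial, ?_⟩
      obtain ⟨x, y, z, rfl⟩ := Multiset.card_eq_three.1 h
      have hx := hm.1 x (by simp)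
      have hy := hm.1 y (by simp)
      have hz := hm.1 z (by simp)
      simp only [Multiset.insert_eq_cons, Multiset.map_cons, Multiset.map_singleton,
        Multiset.sum_cons, Multiset.sum_singleton] at h2
      have e1 : (x.1, 1) = x := Prod.ext rfl (by simp only; omega)
      have e2 : (y.1, 1) = y := Prod.ext rfl (by simp only; omega)
      have e3 : (z.1, 1) = z := Prod.ext rfl (by simp only; omega)
      simp [e1, e2, e3]
  refine (Set.ncard_le_ncard this (Set.toFinite _)).trans ((Set.ncard_union_le _ _).trans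
    (Nat.add_le_add ((Set.ncard_union_le _ _).trans (Nat.add_le_add ?_ ?_)) ?_)) <;>
  refine (Set.ncard_image_le Set.finite_univ).trans ?_
  · simp [Set.ncard_univ]
  · simp [Set.ncard_univ]
  · rw [Set.ncard_univ, Nat.card_eq_fintype_card, Sym.card_sym_eq_choose, Fintype.card_fin]
    exact le_rfl

theorem finrank_le_of_le_KK {q : ℕ} {γ : ι → ℕ} (hγ : Rest (q + 1) γ) {w : ℕ}
    {V : Type*} [AddCommGroup V] [Module ℂ V] (Φ : V →ₗ[ℂ] Fn ι) (hΦ : Injective Φ)
    (h : ∀ v, Φ v ∈ KK (q + 1) γ w) : finrank ℂ V ≤ (CP q w).ncard := by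
  have := (CP_finite q w).fintype
  let Ψ : V →ₗ[ℂ] (CP q w → ℂ) :=
    LinearMap.pi fun m => (LinearMap.proj γ).comp ((Dm m.1).comp Φ)
  have hΨ : Injective Ψ := by
    rw [injective_iff_map_eq_zero]
    intro v hv
    apply hΦ
    rw [map_zero]
    exact KK_eq_zero hγ (h v) fun m hm => congrFun hv ⟨m, hm⟩
  have := LinearMap.finrank_le_finrank_of_injective hΨ
  rwa [Module.finrank_fintype_fun_eq_card, ← Nat.card_eq_fintype_card, Nat.card_coe_set_eq] at this

end H19.Sn
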