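import Cfsg.Agent.H19.Sn4
import Cfsg.Agent.H19.Sn5
import Cfsg.Agent.H19.Main1
import Cfsg.Agent.H20.Ht2

/-! Blocks of symmetric groups: characters in one block have the same residues; bound for `l(B)`. -/

open H17 Cfsg
open scoped ComplexConjugate MonoidAlgebra
namespace H19.Sn
open Finset Equiv Function Subgroup
open H20 (br sc cent nrm bil vd emin)
open Nat (factorial)

variable {ι : Type*} [Fintype ι] [DecidableEq ι] {α : Type*} [Fintype α] [DecidableEq α]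
  {p : ℕ} [hp : Fact p.Prime]

theorem sing_iff (σ : Perm α) : p ∣ orderOf σ ↔ ∃ k ∈ σ.cycleType, p ∣ k := by
  constructor
  · intro h
    rw [← Perm.lcm_cycleType] at h
    exact hp.out.prime.exists_mem_multiset_dvd
      (h.trans (Multiset.lcm_dvd.2 fun _ => Multiset.dvd_prod))
  · rintro ⟨k, hk, h⟩; exact h.trans (Perm.dvd_of_mem_cycleType hk)

theorem sing_iff' (σ : Perm α) : p ∣ orderOf σ ↔ ∃ k ∈ σ.partition.parts, p ∣ k := by
  rw [sing_iff, Perm.parts_partition]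
  constructor
  · rintro ⟨k, hk, h⟩; exact ⟨k, Multiset.mem_add.2 (Or.inl hk), h⟩
  · rintro ⟨k, hk, h⟩
    rcases Multiset.mem_add.1 hk with hk | hk
    · exact ⟨k, hk, h⟩
    · rw [Multiset.eq_of_mem_replicate hk] at h
      exact absurd (Nat.dvd_one.1 h) hp.out.ne_one

omit hp in
theorem D_X_of_not_mem {k : ℕ} (hk : 0 < k) {ρ : Multiset ℕ} (hN : 2 * ρ.sum ≤ Fintype.card ι)
    (h : k ∉ ρ) : D k (X ρ : Fn ι) = 0 := by
  by_cases hle : k ≤ ρ.sum
  · rw [D_X hk ρ (by omega), Multiset.count_eq_zero_of_notMem h]; simp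
  · exact ((anti_X ρ).D k).eq_zero_of_lt fun β hβ => by have := (deg_X ρ).D' k hβ; omega

theorem D_X_reg (hN : 2 * Fintype.card α ≤ Fintype.card ι) {y : Perm α} (hy : ¬ p ∣ orderOf y)
    {k : ℕ} (hk : 0 < k) : D (p * k) (X y.partition.parts : Fn ι) = 0 :=
  D_X_of_not_mem (Nat.mul_pos hp.out.pos hk) (by rwa [sum_parts]) fun h =>
    hy ((sing_iff' y).2 ⟨_, h, dvd_mul_right _ _⟩)

theorem ip_Pj_X (hN : 2 * Fintype.card α ≤ Fintype.card ι) {τ y : Perm α} (hτ : p ∣ orderOf τ)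
    (hy : ¬ p ∣ orderOf y) (κ : ℕ → ℕ) :
    ip (M0 ι + Fintype.card α) (X τ.partition.parts : Fn ι) (X y.partition.parts) = 0 ∧
    ip (M0 ι + Fintype.card α) (Pj p κ (X τ.partition.parts : Fn ι)) (X y.partition.parts) = 0 := by
  obtain ⟨_, hk, k, rfl⟩ := (sing_iff' τ).1 hτ
  have h0 : 0 < k := Nat.pos_of_mul_pos_left (τ.partition.parts_pos hk)
  have h1 := sum_parts τ
  rw [← Multiset.cons_erase hk, Multiset.sum_cons] at h1
  have h2 : M0 ι + Fintype.card α = M0 ι + (τ.partition.parts.erase (p * k)).sum + p * k := by omega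
  rw [← Multiset.cons_erase hk, X_cons, Pj_U, h2, ip_U, ip_U, D_X_reg hN hy h0]
  simp

variable (ι α) in
noncomputable def Ph : (Perm α → ℂ) →ₗ[ℂ] Fn ι where
  toFun θ := ∑ σ : Perm α, θ σ • X σ.partition.parts
  map_add' θ η := by simp only [Pi.add_apply, add_smul, Finset.sum_add_distrib]
  map_smul' c θ := by simp only [Pi.smul_apply, smul_assoc, Finset.smul_sum, RingHom.id_apply]

omit hp in
theorem Ph_apply (θ : Perm α → ℂ) : Ph ι α θ = ∑ σ : Perm α, θ σ • X σ.partition.parts := rfl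

omit hp in
theorem anti_Ph (θ : Perm α → ℂ) : Anti (Ph ι α θ) := anti_sum _ _ fun _ _ => (anti_X _).smul _

omit hp in
theorem deg_Ph (θ : Perm α → ℂ) : Deg (M0 ι + Fintype.card α) (Ph ι α θ) :=
  deg_sum _ _ fun σ _ => (deg_X_perm σ).smul _

omit hp in
theorem Ph_ch (hN : 2 * Fintype.card α ≤ Fintype.card ι) {β : ι → ℕ}
    (hβ : ∑ i, β i = M0 ι + Fintype.card α) :
    Ph ι α (ch α β) = (Nat.card (Perm α) : ℂ) • alt β := by
  have h := (anti_alt β).expand hN (hβ ▸ deg_alt β)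
  simp only [← hβ, ip_alt (anti_X _)] at h
  have h1 : (factorial (Fintype.card ι) : ℂ) ≠ 0 := by exact_mod_cast (Nat.factorial_pos _).ne'
  apply smul_right_injective _ h1
  simp only [Ph_apply, Finset.smul_sum, smul_smul, ch]
  rw [← h, Nat.cast_mul]

theorem Pj_Ph_pr (hN : 2 * Fintype.card α ≤ Fintype.card ι) {β : ι → ℕ}
    (hβ : ∑ i, β i = M0 ι + Fintype.card α) :
    Pj p (res p β) (Ph ι α (pRegularPart p (ch α β))) = Ph ι α (pRegularPart p (ch α β)) := by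
  have key : ∀ (θ : Perm α → ℂ) (τ : Perm α), (∀ y, θ y ≠ 0 → (p ∣ orderOf τ ↔ ¬ p ∣ orderOf y)) →
      ip (M0 ι + Fintype.card α) (X τ.partition.parts)
        (Pj p (res p β) (Ph ι α θ) - Ph ι α θ) = 0 := by
    intro θ τ h
    rw [ip_comm, ip_sub_left, Ph_apply, map_sum, ip_sum_left, ip_sum_left, ← Finset.sum_sub_distrib]
    refine Finset.sum_eq_zero fun y _ => ?_
    rw [map_smul, ip_smul_left, ip_smul_left]
    by_cases h0 : θ y = 0
    · simp [h0]
    by_cases hτ : p ∣ orderOf τ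
    · have := ip_Pj_X hN hτ ((h y h0).1 hτ) (res p β)
      rw [ip_Pj, ip_comm, this.2, ip_comm, this.1]; simp
    · have := ip_Pj_X hN (by_contra fun h' => hτ ((h y h0).2 h')) hτ (res p β)
      rw [this.1, this.2]; simp
  rw [← sub_eq_zero]
  refine Anti.eq_zero_of_ip (n := Fintype.card α) (((anti_Ph _).Pj _ _).sub (anti_Ph _))
    (((deg_Ph _).Pj _ _).sub (deg_Ph _)) fun ρ hρ hs => ?_
  obtain ⟨τ, rfl⟩ := exists_parts_eq α ρ hρ hs
  by_cases hτ : p ∣ orderOf τ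
  · exact key _ τ fun y hy => ⟨fun _ h => hy (pr_of_sing _ h), fun _ => hτ⟩
  · have h1 := key (pRegularPart p (ch α β) - ch α β) τ fun y hy =>
      ⟨fun h => absurd h hτ, fun h => absurd (by simp [pr_of_reg _ h]) hy⟩
    have h2 : Pj p (res p β) (alt β) = alt β := by
      funext γ
      rw [Pj_apply]
      split_ifs with h
      · rfl
      · by_contra h0
        obtain ⟨w, rfl⟩ := exists_of_alt_ne_zero (Ne.symm h0)
        exact h (res_comp _ _ _)
    rwa [map_sub, map_sub, Ph_ch hN hβ, map_smul, h2, sub_sub_sub_cancel_right] at h1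

omit hp in
theorem Lab.eq_smul {χ : Perm α → ℂ} {β : ι → ℕ} (h : Lab χ β) :
    ∃ e : ℂ, (e = 1 ∨ e = -1) ∧ χ = e • ch α β := by
  obtain ⟨-, -, e, he, h⟩ := h
  exact ⟨e, he, funext h⟩

omit hp in
theorem ch_inv (β : ι → ℕ) (σ : Perm α) : ch α β σ⁻¹ = ch α β σ := by
  rw [ch, ch, parts_eq_iff.2 (Perm.isConj_iff_cycleType_eq.2 (Perm.cycleType_inv σ))]

theorem Lab.res_eq_of_bil (hN : 2 * Fintype.card α ≤ Fintype.card ι) {χ ψ : Perm α → ℂ}
    {β β' : ι → ℕ} (h : Lab χ β) (h' : Lab ψ β') (h0 : bil (pRegularPart p χ) ψ ≠ 0) :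
    res p β' = res p β := by
  by_contra hne
  obtain ⟨e, -, rfl⟩ := h.eq_smul
  obtain ⟨e', -, rfl⟩ := h'.eq_smul
  apply h0
  have h1 := congrFun (Pj_Ph_pr (p := p) hN h.2.1) β'
  rw [Pj_apply, if_neg hne, Ph_apply, Finset.sum_apply] at h1
  rw [pr_smul, map_smul, map_smul, LinearMap.smul_apply, H20.bil_apply]
  simp only [ch_inv]
  rw [show ∑ g, pRegularPart p (ch α β) g * ch α β' g = 0 from h1.symm]
  simp

variable {O : ValuationSubring ℂ} [CharP (kk O) p]

theorem exists_bil_ne_zero {G : Type*} [Group G] [Finite G] (B : Blk O G) :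
    ∃ χ ∈ irr B, ∀ ψ ∈ irr B, bil (pRegularPart p (χ : G → ℂ)) ψ ≠ 0 := by
  obtain ⟨χ, hχ, h0⟩ := H20.exists_height_zero p (irr_nonempty B)
  refine ⟨χ, hχ, fun ψ hψ h => ?_⟩
  have := H20.val_ctr_of_lamZ (p := p) (pr_class χ.2.isClassFunction) (H20.pr_irr_mem χ)
    ((H20.lamZ_irr_ne_zero_iff hχ).2 h0) hψ
  rw [h, mul_zero, map_zero] at this
  exact pow_ne_zero _ (H20.val_p_ne_zero O p) this.symm

theorem Lab.res_eq (hN : 2 * Fintype.card α ≤ Fintype.card ι) {χ ψ : IrrCharacter (Perm α)}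
    {β β' : ι → ℕ} (h : Lab (χ : Perm α → ℂ) β) (h' : Lab (ψ : Perm α → ℂ) β')
    (hl : lam O χ = lam O ψ) : res p β' = res p β := by
  obtain ⟨ξ, -, hξ⟩ := exists_bil_ne_zero (p := p) (lam O χ)
  obtain ⟨β0, h0⟩ := exists_lab hN ξ
  rw [h0.res_eq_of_bil hN h (hξ χ rfl), h0.res_eq_of_bil hN h' (hξ ψ hl.symm)]

theorem blockRank_le (hN : 2 * Fintype.card α ≤ Fintype.card ι) {γ : ι → ℕ} (hγ : Rest p γ) {w : ℕ}
    (hw : M0 ι + Fintype.card α = ∑ i, γ i + p * w) {A : Set (IrrCharacter (Perm α))}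
    (hA : ∀ χ ∈ A, ∃ β : ι → ℕ, Lab (χ : Perm α → ℂ) β ∧ res p β = res p γ) :
    blockRank p A ≤ (CP (p - 1) w).ncard := by
  obtain ⟨q, rfl⟩ : ∃ q, p = q + 1 := ⟨p - 1, by have := hp.out.pos; omega⟩
  refine finrank_le_of_le_KK hγ ((Ph ι α).domRestrict _) ?_ ?_
  · rw [injective_iff_map_eq_zero]
    rintro ⟨θ, hθ⟩ h
    have hc : IsClassFunction (Perm α) θ := by
      clear h
      induction hθ using Submodule.span_induction with
      | mem x hx => obtain ⟨χ, -, rfl⟩ := hx; exact pr_class χ.2.isClassFunction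
      | zero => exact isClassFunction_zero
      | add x y _ _ h1 h2 => exact h1.add h2
      | smul c x _ h => exact h.smul c
    refine Subtype.ext (funext fun τ => ?_)
    have := ip_X_sum hN hc τ
    rw [← Ph_apply, show Ph ι α θ = 0 from h, ip_zero_left] at this
    refine (mul_eq_zero.1 this.symm).resolve_left (mul_ne_zero ?_ card_ne_zero_complex)
    exact_mod_cast (Nat.factorial_pos _).ne'
  · rintro ⟨θ, hθ⟩
    show Ph ι α θ ∈ _
    induction hθ using Submodule.span_induction with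
    | mem x hx =>
      obtain ⟨χ, hχ, rfl⟩ := hx
      obtain ⟨β, hβ, hr⟩ := hA χ hχ
      obtain ⟨e, -, he⟩ := hβ.eq_smul
      simp only [he, pr_smul, map_smul]
      refine Submodule.smul_mem _ _ ⟨anti_Ph _, hw ▸ deg_Ph _, fun β' h => ?_, fun k hk => ?_⟩
      · rw [← Pj_Ph_pr hN hβ.2.1, Pj_apply] at h
        by_contra hne
        exact h (if_neg (hr ▸ hne))
      · rw [Ph_apply, map_sum]
        refine Finset.sum_eq_zero fun y _ => ?_
        by_cases hy : q + 1 ∣ orderOf y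
        · rw [pr_of_sing _ hy, zero_smul, map_zero]
        · rw [map_smul, D_X_reg hN hy hk, smul_zero]
    | zero => rw [map_zero]; exact zero_mem _
    | add x y _ _ h1 h2 => rw [map_add]; exact add_mem h1 h2
    | smul c x _ h => rw [map_smul]; exact Submodule.smul_mem _ _ h

/-- `B` has core `γ` and weight `w` -/
def HasCore (p : ℕ) (B : Blk O (Perm α)) (γ : ι → ℕ) (w : ℕ) : Prop :=
  Rest p γ ∧ M0 ι + Fintype.card α = ∑ i, γ i + p * w ∧
    ∀ χ ∈ irr B, ∀ β : ι → ℕ, Lab (χ : Perm α → ℂ) β → res p β = res p γ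

theorem Lab.hasCore (hN : 2 * Fintype.card α ≤ Fintype.card ι) {χ : IrrCharacter (Perm α)}
    {β : ι → ℕ} (h : Lab (χ : Perm α → ℂ) β) : ∃ w, HasCore p (lam O χ) (core p β) w := by
  obtain ⟨h1, w, hw⟩ := core_spec hp.out.pos h.1
  exact ⟨w, h1, by rw [← hw, h.2.1], fun ψ hψ β' h' => by
    rw [res_core]; exact h.res_eq hN h' hψ.symm⟩

theorem exists_hasCore (hN : 2 * Fintype.card α ≤ Fintype.card ι) (B : Blk O (Perm α)) :
    ∃ (γ : ι → ℕ) (w : ℕ), HasCore p B γ w := by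
  obtain ⟨χ, rfl⟩ := lam_surjective B
  obtain ⟨β, hβ⟩ := exists_lab hN χ
  exact ⟨_, hβ.hasCore hN⟩

omit [CharP (kk O) p] in
theorem HasCore.rank_le (hN : 2 * Fintype.card α ≤ Fintype.card ι) {B : Blk O (Perm α)} {γ : ι → ℕ}
    {w : ℕ} (h : HasCore p B γ w) : blockRank p (irr B) ≤ (CP (p - 1) w).ncard :=
  blockRank_le hN h.1 h.2.1 fun χ hχ => (exists_lab hN χ).imp fun β hβ => ⟨hβ, h.2.2 χ hχ β hβ⟩

omit hp [CharP (kk O) p] in
theorem HasCore.le {B : Blk O (Perm α)} {γ : ι → ℕ} {w : ℕ} (h : HasCore p B γ w) :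
    p * w ≤ Fintype.card α := by
  have := M0_le h.1.1
  have := h.2.1
  omega

omit [CharP (kk O) p] in
/-- every character of the block has a label whose core is exactly `γ` -/
theorem HasCore.exists_lab (hN : 2 * Fintype.card α ≤ Fintype.card ι) {B : Blk O (Perm α)}
    {γ : ι → ℕ} {w : ℕ} (h : HasCore p B γ w) {χ : IrrCharacter (Perm α)} (hχ : χ ∈ irr B) :
    ∃ β : ι → ℕ, Lab (χ : Perm α → ℂ) β ∧ core p β = γ := by
  obtain ⟨β, hβ⟩ := Sn.exists_lab hN χ
  obtain ⟨s, hs⟩ := (core_spec hp.out.pos hβ.1).1.exists_perm hp.out.pos h.1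
    (by rw [res_core, h.2.2 χ hχ β hβ])
  refine ⟨β ∘ s, hβ.comp s, ?_⟩
  rw [hs]
  funext i
  simp only [core, Function.comp_apply]
  congr 2
  exact Finset.card_bij (fun j _ => s j) (by simp) (by simp) fun j hj =>
    ⟨s.symm j, by simpa using hj, by simp⟩

end H19.Sn
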