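import Cfsg.Agent.H19.Sn6
import Cfsg.Agent.H19.BS1
import Mathlib.GroupTheory.Perm.ViaEmbedding

/-! Blocks of symmetric groups: the subsection at a product of `w` cycles of length `p`;
the Nakayama conjecture. -/

open H17 Cfsg
open scoped ComplexConjugate MonoidAlgebra
namespace H19.Sn
open Finset Equiv Function Subgroup
open H20 (br sc cent nrm bil vd emin)
open Nat (factorial)

variable {ι : Type*} [Fintype ι] [DecidableEq ι] {α : Type*} [Fintype α] [DecidableEq α]
  {p : ℕ} [hp : Fact p.Prime] {O : ValuationSubring ℂ} [CharP (kk O) p]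

theorem coeff_eB_eq_Kr {G : Type*} [Group G] [Finite G] {x y : G} (hx : IsPElt p x) (B : Blk O G)
    (hc : y ∈ centralizer ({x} : Set G)) (hy : ¬ p ∣ orderOf y) :
    (Nat.card (centralizer ({x} : Set G)) : ℂ)⁻¹ * Kr (irr B) x (x * y) ∈ O ∧
    (eB B : (kk O)[G]).coeff y =
      H19.res O ((Nat.card (centralizer ({x} : Set G)) : ℂ)⁻¹ * Kr (irr B) x (x * y)) := by
  classical
  have h1 := Kr_shift hx B (y := 1) (z := ⟨y, hc⟩) preg_one (by rwa [← orderOf_coe] )
  simp only [OneMemClass.coe_one, mul_one] at h1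
  have h2 := congrArg (fun a : ℂ[centralizer ({x} : Set G)] => a.coeff ⟨y, hc⟩)
    (fB_eq_sum_of_closed (O := O) (A := {ψ | Induces _ (lam O ψ) B})
      (univ.filter fun b => Induces _ b B) (by simp))
  simp only [coeff_fB, coeff_sum_apply] at h2
  rw [h1, Kr_eq, ← blockCoeff_eq_sum, h2]
  refine ⟨sum_mem fun b _ => blockCoeff_irr_mem b _, ?_⟩
  have hH : centralizer ({x} : Set G) ≤ nrm (zpowers x) :=
    (H20.cent_zpowers x).ge.trans (H20.cent_le_nrm _)
  have h3 := congrArg (fun a : ZZ (kk O) (centralizer ({x} : Set G)) =>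
      (a : (kk O)[centralizer ({x} : Set G)]).coeff ⟨y, hc⟩)
    (brZ_eB_eq_sum hx.isPGroup_zpowers (zpowers_le.2 (mem_centralizer_singleton_iff.2 rfl))
      (H20.cent_zpowers x).le hH B)
  simp only [coe_brZ, coeff_resH, AddSubmonoidClass.coe_finsetSum, coeff_sum_apply,
    coeff_eB] at h3
  rw [H20.coeff_br_of_mem _ ((H20.cent_zpowers x).ge hc)] at h3
  rw [h3, res_sum _ fun b _ => blockCoeff_irr_mem b _]

omit [DecidableEq α] in
theorem fix_of_commute_cycle {g c : Perm α} (hc : c.IsCycle) (hcp : c ^ p = 1) (h : Commute g c)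
    (hg : ¬ p ∣ orderOf g) {x : α} (hx : c x ≠ x) : g x = x := by
  have h1 : c (g x) ≠ g x := by
    rw [← Perm.mul_apply, ← h.eq, Perm.mul_apply]; exact fun h' => hx (g.injective h')
  obtain ⟨i, hi⟩ := hc.exists_pow_eq hx h1
  have h2 : ∀ m : ℕ, (g ^ m) x = (c ^ (i * m)) x := by
    intro m
    induction m with
    | zero => simp
    | succ m ih =>
      rw [pow_succ, Perm.mul_apply, ← hi, ← Perm.mul_apply, (h.pow_pow m i).eq, Perm.mul_apply, ih,
        ← Perm.mul_apply, ← pow_add, Nat.mul_succ, add_comm]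
  have h3 := h2 (orderOf g)
  rw [pow_orderOf_eq_one, Perm.one_apply, eq_comm, ← hc.pow_eq_one_iff' hx,
    ← orderOf_dvd_iff_pow_eq_one, orderOf_eq_prime hcp hc.ne_one] at h3
  obtain ⟨t, rfl⟩ := (hp.out.dvd_mul.1 h3).resolve_right hg
  rw [← hi, pow_mul, hcp, one_pow, Perm.one_apply]

theorem fix_of_coeff {u g : Perm α} (hu : u ^ p = 1) {B : Blk O (Perm α)}
    (h : (eB B : (kk O)[Perm α]).coeff g ≠ 0) (hc : g ∈ centralizer ({u} : Set (Perm α)))
    {x : α} (hx : u x ≠ x) : g x = x := by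
  classical
  have hu' : IsPElt p u := isPElt_iff.2 ⟨1, by rwa [pow_one]⟩
  set H := centralizer ({u} : Set (Perm α))
  set E := closure (u.cycleFactorsFinset : Set (Perm α))
  have hpow : ∀ c ∈ u.cycleFactorsFinset, c ^ p = 1 := by
    intro c hc
    rw [← orderOf_dvd_iff_pow_eq_one, (Perm.mem_cycleFactorsFinset_iff.1 hc).1.orderOf]
    exact (Perm.pow_prime_eq_one_iff.1 hu _
      (Multiset.mem_map_of_mem (Finset.card ∘ Perm.support) hc)).dvd
  have hcomm : IsMulCommutative E := isMulCommutative_closure fun a ha b hb =>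
    (Perm.cycleFactorsFinset_mem_commute' u ha hb).eq
  have hE : IsPGroup p E := by
    have : ∀ e ∈ E, e ^ p = 1 := by
      intro e he
      induction he using closure_induction with
      | mem c hc => exact hpow c hc
      | one => exact one_pow _
      | mul a b ha hb h1 h2 =>
        rw [Commute.mul_pow (setLike_mul_comm (s := E) ha hb), h1, h2, mul_one]
      | inv a _ h1 => rw [inv_pow, h1, inv_one]
    exact fun e => ⟨1, Subtype.ext (by simpa using this e e.2)⟩
  have hEH : E ≤ H := (closure_le _).2 fun c hc =>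
    mem_centralizer_singleton_iff.2 (Perm.self_mem_cycle_factors_commute hc).eq
  have hHE : H ≤ nrm E := by
    have key : ∀ k ∈ H, ∀ e ∈ E, k * e * k⁻¹ ∈ E := by
      intro k hk e he
      induction he using closure_induction with
      | mem c hc =>
        refine subset_closure ?_
        have := (Perm.mem_cycleFactorsFinset_conj u k c).2 hc
        rwa [mem_centralizer_singleton_iff.1 hk, mul_inv_cancel_right] at this
      | one => simp
      | mul a b _ _ h1 h2 => simpa using mul_mem h1 h2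
      | inv a _ h1 => simpa [mul_assoc] using inv_mem h1
    intro k hk
    refine mem_normalizer_iff.2 fun e => ⟨key k hk e, fun h => ?_⟩
    simpa [mul_assoc] using key k⁻¹ (inv_mem hk) _ h
  have hH : H ≤ nrm (zpowers u) := (H20.cent_zpowers u).ge.trans (H20.cent_le_nrm _)
  have h3 := congrArg (fun a : ZZ (kk O) H => (a : (kk O)[H]).coeff ⟨g, hc⟩)
    (brZ_eB_eq_sum hu'.isPGroup_zpowers (zpowers_le.2 (mem_centralizer_singleton_iff.2 rfl))
      (H20.cent_zpowers u).le hH B)
  simp only [coe_brZ, coeff_resH, AddSubmonoidClass.coe_finsetSum, coeff_sum_apply] at h3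
  rw [H20.coeff_br_of_mem _ ((H20.cent_zpowers u).ge hc)] at h3
  obtain ⟨b, -, hb⟩ := Finset.exists_ne_zero_of_sum_ne_zero (h3 ▸ h)
  have h4 : g ∈ cent E := H20.mem_of_coeff_ne_zero (embH_eB_mem_supp hE hEH hHE b)
    (by rwa [coeff_embH_of_mem _ _ hc])
  have h5 := Perm.cycleOf_mem_cycleFactorsFinset_iff.2 (Perm.mem_support.2 hx)
  refine fix_of_commute_cycle (Perm.mem_cycleFactorsFinset_iff.1 h5).1 (hpow _ h5)
    (Commute.symm (mem_centralizer_iff.1 h4 _ (subset_closure h5))) (preg_of_coeff_eB h) ?_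
  rwa [Perm.cycleOf_apply_self]

/-- the fixed points of `u` -/
abbrev Fx (u : Perm α) := {x // u x = x}

section Sub
variable {u : Perm α} {w : ℕ}

omit hp [Fintype α] in
theorem disjoint_Fx (u : Perm α) (y : Perm (Fx u)) : Perm.Disjoint u (Perm.ofSubtype y) := fun x => by
  by_cases h : u x = x
  · exact Or.inl h
  · exact Or.inr (Perm.ofSubtype_apply_of_not_mem y h)

omit hp [Fintype α] in
theorem mem_cent_Fx (u : Perm α) (y : Perm (Fx u)) :
    Perm.ofSubtype y ∈ centralizer ({u} : Set (Perm α)) :=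
  mem_centralizer_singleton_iff.2 (disjoint_Fx u y).commute.eq.symm

omit hp [Fintype α] in
theorem orderOf_Fx (y : Perm (Fx u)) : orderOf (Perm.ofSubtype y : Perm α) = orderOf y :=
  orderOf_injective Perm.ofSubtype Perm.ofSubtype_injective y

omit hp in
theorem exists_Fx {g : Perm α} (h : ∀ x, u x ≠ x → g x = x) :
    ∃ y : Perm (Fx u), Perm.ofSubtype y = g :=
  (Perm.mem_range_ofSubtype_iff (p := fun x => u x = x)).2 fun x hx => by
    by_contra h'
    exact Perm.mem_support.1 hx (h x h')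

variable (hu : u.cycleType = Multiset.replicate w p)
include hu

omit hp in
theorem card_supp : u.support.card = p * w := by
  rw [← Perm.sum_cycleType, hu, Multiset.sum_replicate, smul_eq_mul, mul_comm]

omit hp in
theorem card_Fx : Fintype.card (Fx u) + p * w = Fintype.card α := by
  rw [← card_supp hu, Fintype.card_subtype, ← Finset.card_compl_add_card u.support]
  congr 2; ext x; simp

theorem pow_eq_one_of_type : u ^ p = 1 :=
  Perm.pow_prime_eq_one_iff.2 fun _ h => Multiset.eq_of_mem_replicate (hu ▸ h)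

theorem pelt_of_type : IsPElt p u := isPElt_iff.2 ⟨1, by rw [pow_one, pow_eq_one_of_type hu]⟩

omit hp in
theorem parts_mul (y : Perm (Fx u)) :
    (u * Perm.ofSubtype y).partition.parts = Multiset.replicate w p + y.partition.parts := by
  have h1 : (u * Perm.ofSubtype y).cycleType = Multiset.replicate w p + y.cycleType := by
    rw [(disjoint_Fx u y).cycleType_mul, hu, Perm.cycleType_ofSubtype]
  have h2 := card_Fx hu
  rw [Perm.parts_partition, Perm.parts_partition, ← Perm.sum_cycleType, ← Perm.sum_cycleType, h1,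
    add_assoc, Multiset.sum_add, Multiset.sum_replicate, smul_eq_mul, mul_comm]
  congr 3; omega

variable {B B' : Blk O (Perm α)} {γ : ι → ℕ} (hN : 2 * Fintype.card α ≤ Fintype.card ι)
include hN

omit [CharP (kk O) p] in
theorem HasCore.exists_core (h : HasCore p B γ w) :
    ∃ ξ : IrrCharacter (Perm (Fx u)), Lab (ξ : Perm (Fx u) → ℂ) γ ∧
      ∀ y, p ∣ orderOf y → (ξ : Perm (Fx u) → ℂ) y = 0 := by
  have h1 := card_Fx hu
  have h2 := h.2.1
  obtain ⟨ξ, hξ⟩ := exists_irr_lab (α := Fx u) (by omega) h.1.1 (by omega)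
  refine ⟨ξ, hξ, fun y hy => ?_⟩
  by_contra h0
  obtain ⟨k, hk, hpk⟩ := (sing_iff' y).1 hy
  rw [← Ne, hξ.ne_zero_iff, ← Multiset.cons_erase hk, ← Multiset.singleton_add, X_add] at h0
  have := sum_le_of_Um_ne_zero hp.out.pos (anti_X _) _ (by simpa using hpk) h0
  rw [h.1.core_eq hp.out.pos, Multiset.sum_singleton] at this
  have := y.partition.parts_pos hk
  omega

omit [CharP (kk O) p] hN in
theorem HasCore.apply_mul (h : HasCore p B γ w) {ξ : Perm (Fx u) → ℂ} (hξ : Lab ξ γ)
    {χ : Perm α → ℂ} {β : ι → ℕ} (hβ : Lab χ β) (hc : core p β = γ) :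
    0 < cnt p w β ∧ ∃ e : ℂ, (e = 1 ∨ e = -1) ∧
      ∀ y, χ (u * Perm.ofSubtype y) = e * cnt p w β * ξ y := by
  have hw : ∑ i, β i = ∑ i, core p β i + p * w := by rw [hc, hβ.2.1, h.2.1]
  obtain ⟨hi, -, e, he, hβ⟩ := hβ
  obtain ⟨-, -, e', he', hξ⟩ := hξ
  refine ⟨(Um_replicate hp.out.pos anti_zero w hi hw).2, e * e', ?_, fun y => ?_⟩
  · rcases he with rfl | rfl <;> rcases he' with rfl | rfl <;> simp
  · rw [hβ, hξ, ch, ch, parts_mul hu, X_add, (Um_replicate hp.out.pos (anti_X _) w hi hw).1, hc]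
    rcases he' with rfl | rfl <;> ring

omit [CharP (kk O) p] in
theorem HasCore.apply_ne_zero (h : HasCore p B γ w) {χ : IrrCharacter (Perm α)} (hχ : χ ∈ irr B) :
    (χ : Perm α → ℂ) u ≠ 0 := by
  obtain ⟨ξ, hξ, -⟩ := h.exists_core hu hN
  obtain ⟨β, hβ, hc⟩ := h.exists_lab hN hχ
  obtain ⟨h1, e, he, h2⟩ := h.apply_mul hu hξ hβ hc
  have := h2 1
  rw [map_one, mul_one] at this
  rw [this]
  refine mul_ne_zero (mul_ne_zero ?_ (by exact_mod_cast h1.ne')) ξ.2.one_ne_zero
  rcases he with rfl | rfl <;> simp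

theorem HasCore.br_ne_zero (h : HasCore p B γ w) :
    br (zpowers u) (eB B : (kk O)[Perm α]) ≠ 0 := by
  obtain ⟨χ, rfl⟩ := lam_surjective B
  exact fun h0 => h.apply_ne_zero hu hN rfl
    (irr_eq_zero_of_br (isPPart_self (pelt_of_type hu)) h0)

theorem HasCore.exists_coeff (h : HasCore p B γ w) :
    ∃ y : Perm (Fx u), (eB B : (kk O)[Perm α]).coeff (Perm.ofSubtype y) ≠ 0 := by
  obtain ⟨g, hg, h0⟩ := H20.br_ne_zero_iff.1 (h.br_ne_zero hu hN)
  obtain ⟨y, rfl⟩ := exists_Fx fun x hx =>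
    fix_of_coeff (pow_eq_one_of_type hu) h0 ((H20.cent_zpowers u).le hg) hx
  exact ⟨y, h0⟩

/-- every `p`-subgroup moving only points moved by `u` is conjugate into a defect group -/
theorem HasCore.exists_conj_le (h : HasCore p B γ w) {D : Subgroup (Perm α)} (hD : IsDef p B D)
    {R : Subgroup (Perm α)} (hR : IsPGroup p R) (hs : ∀ r ∈ R, ∀ x, u x = x → r x = x) :
    ∃ x, sc x R ≤ D := by
  obtain ⟨y, hy⟩ := h.exists_coeff hu hN
  refine hD.exists_conj_le_of_coeff hy hR fun r hr => mem_centralizer_singleton_iff.2 ?_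
  refine Perm.Disjoint.commute fun x => ?_
  by_cases h : u x = x
  · exact Or.inl (hs r hr x h)
  · exact Or.inr (Perm.ofSubtype_apply_of_not_mem y h)

theorem HasCore.coeff_eq (h : HasCore p B γ w) {ξ : IrrCharacter (Perm (Fx u))}
    (hξ : Lab (ξ : Perm (Fx u) → ℂ) γ) (h0 : ∀ y, p ∣ orderOf y → (ξ : Perm (Fx u) → ℂ) y = 0) :
    ∃ a : kk O, ∀ y, (eB B : (kk O)[Perm α]).coeff (Perm.ofSubtype y) =
      a * (eB (lam O ξ) : (kk O)[Perm (Fx u)]).coeff y := by
  classical
  have h1 : ∃ a : ℂ, ∀ y, (Nat.card (centralizer ({u} : Set (Perm α))) : ℂ)⁻¹ *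
      Kr (irr B) u (u * Perm.ofSubtype y) = a * blockCoeff (irr (lam O ξ)) y := by
    have : ∀ χ ∈ irr B, ∃ c : ℂ, ∀ y, (χ : Perm α → ℂ) (u * Perm.ofSubtype y) =
        c * (ξ : Perm (Fx u) → ℂ) y := fun χ hχ => by
      obtain ⟨β, hβ, hc⟩ := h.exists_lab hN hχ
      obtain ⟨-, e, -, h2⟩ := h.apply_mul hu hξ hβ hc
      exact ⟨_, h2⟩
    choose! c hc using this
    refine ⟨(Nat.card (centralizer ({u} : Set (Perm α))) : ℂ)⁻¹ * Nat.card (Perm (Fx u)) *
      ∑ χ with χ ∈ irr B, c χ * c χ, fun y => ?_⟩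
    rw [irr_lam_eq_singleton (p := p) h0, blockCoeff_singleton, Kr_eq,
      Finset.sum_congr rfl (g := fun χ => c χ * c χ *
        ((ξ : Perm (Fx u) → ℂ) 1 * (ξ : Perm (Fx u) → ℂ) y⁻¹)), ← Finset.sum_mul]
    · have := card_ne_zero_complex (G := Perm (Fx u))
      field_simp
    · intro χ hχ
      have h2 := hc χ (mem_filter.1 hχ).2
      have h3 := h2 1
      rw [map_one, mul_one] at h3
      rw [← irr_conj, h2, h3, map_mul, irr_conj]
      have h4 : conj (c χ) = c χ := by
        have h5 := congrArg conj h3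
        rw [map_mul, irr_conj, irr_conj, inv_one, χ.2.isClassFunction.of_isConj
          (Perm.isConj_iff_cycleType_eq.2 (Perm.cycleType_inv u)), h3] at h5
        exact (mul_right_cancel₀ ξ.2.one_ne_zero h5).symm
      rw [h4]; ring
  obtain ⟨a, ha⟩ := h1
  obtain ⟨y0, hy0⟩ := exists_isDefCl (lam O ξ)
  have h2 := fun y (hy : ¬ p ∣ orderOf y) => coeff_eB_eq_Kr (pelt_of_type hu) B (mem_cent_Fx u y)
    (by rwa [orderOf_Fx])
  have ha' : a ∈ O := by
    have h3 := (h2 y0 hy0.preg).1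
    have h4 : blockCoeff (irr (lam O ξ)) y0 ∉ O.nonunits := by
      rw [← res_eq_zero_iff (blockCoeff_irr_mem _ _), ← coeff_eB]; exact hy0.1
    rw [ha] at h3
    have := div_mem_of_not_nonunits h3 h4
    rwa [mul_div_cancel_right₀ _ (ne_zero_of_not_nonunits h4)] at this
  refine ⟨H19.res O a, fun y => ?_⟩
  by_cases hy : p ∣ orderOf y
  · rw [coeff_eB, coeff_eB, blockCoeff_irr_eq_zero _ hy,
      blockCoeff_irr_eq_zero (p := p) _ (by rwa [orderOf_Fx])]
    simp
  · rw [(h2 y hy).2, ha, res_mul ha' (blockCoeff_irr_mem _ _), coeff_eB]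

theorem HasCore.eq_aux (h : HasCore p B γ w) (h' : HasCore p B' γ w) : B = B' := by
  classical
  by_contra hne
  obtain ⟨ξ, hξ, h0⟩ := h.exists_core hu hN
  let T : (kk O)[Perm α] := ofFun fun g =>
    if hg : ∃ y : Perm (Fx u), Perm.ofSubtype y = g then
      (eB (lam O ξ) : (kk O)[Perm (Fx u)]).coeff hg.choose else 0
  have key : ∀ B : Blk O (Perm α), HasCore p B γ w →
      ∃ a : kk O, br (zpowers u) (eB B : (kk O)[Perm α]) = a • T := by
    intro B h
    obtain ⟨a, ha⟩ := h.coeff_eq hu hN hξ h0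
    refine ⟨a, ga_ext fun g => ?_⟩
    rw [MonoidAlgebra.coeff_smul_apply, smul_eq_mul, coeff_ofFun]
    split_ifs with hg
    · rw [← ha, hg.choose_spec, H20.coeff_br_of_mem]
      rw [H20.cent_zpowers, ← hg.choose_spec]; exact mem_cent_Fx u _
    · rw [mul_zero, H20.coeff_br]
      split_ifs with hc
      · by_contra h1
        exact hg (exists_Fx fun x hx =>
          fix_of_coeff (pow_eq_one_of_type hu) h1 ((H20.cent_zpowers u).le hc) hx)
      · rfl
  obtain ⟨a, ha⟩ := key B h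
  obtain ⟨a', ha'⟩ := key B' h'
  have hP := (pelt_of_type hu).isPGroup_zpowers
  have h1 := br_mul_ZZ hP (eB B) (eB B)
  have h2 := br_mul_ZZ hP (eB B) (eB B')
  rw [eB_mul_of_ne hne, ZeroMemClass.coe_zero, map_zero, ha, ha', smul_mul_smul_comm, eq_comm,
    smul_eq_zero, mul_eq_zero] at h2
  rw [eB_mul_self, ha, smul_mul_smul_comm] at h1
  rcases h2 with (h2 | h2) | h2
  · exact h.br_ne_zero hu hN (by rw [ha, h2, zero_smul])
  · exact h'.br_ne_zero hu hN (by rw [ha', h2, zero_smul])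
  · exact h.br_ne_zero hu hN (by rw [ha, h1, h2, smul_zero])

end Sub

theorem exists_type {w : ℕ} (h : p * w ≤ Fintype.card α) :
    ∃ u : Perm α, u.cycleType = Multiset.replicate w p :=
  (Perm.exists_with_cycleType_iff α).2 ⟨by rwa [Multiset.sum_replicate, smul_eq_mul, mul_comm],
    fun _ ha => Multiset.eq_of_mem_replicate ha ▸ hp.out.two_le⟩

/-- Nakayama's conjecture -/
theorem HasCore.mem (hN : 2 * Fintype.card α ≤ Fintype.card ι) {B : Blk O (Perm α)} {γ β : ι → ℕ}
    {w : ℕ} (h : HasCore p B γ w) {χ : IrrCharacter (Perm α)} (hβ : Lab (χ : Perm α → ℂ) β)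
    (hr : res p β = res p γ) : χ ∈ irr B := by
  obtain ⟨u, hu⟩ := exists_type h.le
  exact HasCore.eq_aux hu hN ⟨h.1, h.2.1, fun ψ hψ β' h' => (hβ.res_eq hN h' hψ.symm).trans hr⟩ h

/-- lower bound for the defect groups -/
theorem HasCore.exists_embedding (hN : 2 * Fintype.card α ≤ Fintype.card ι) {B : Blk O (Perm α)}
    {γ : ι → ℕ} {w : ℕ} (h : HasCore p B γ w) {D : Subgroup (Perm α)} (hD : IsDef p B D)
    {Ω : Type*} [Fintype Ω] (hΩ : Fintype.card Ω ≤ p * w) {R : Subgroup (Perm Ω)}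
    (hR : IsPGroup p R) : ∃ e : Ω ↪ α, R.map (Perm.viaEmbeddingHom e) ≤ D := by
  obtain ⟨u, hu⟩ := exists_type h.le
  obtain ⟨e⟩ : Nonempty (Ω ↪ u.support) :=
    Function.Embedding.nonempty_of_card_le (by rwa [Fintype.card_coe, card_supp hu])
  obtain ⟨x, hx⟩ := h.exists_conj_le hu hN hD (hR.map (Perm.viaEmbeddingHom
    (e.trans (Function.Embedding.subtype _)))) (by
      rintro _ ⟨r, -, rfl⟩ a ha
      refine Perm.viaEmbedding_apply_of_notMem _ _ _ ?_
      rintro ⟨b, rfl⟩
      exact Perm.mem_support.1 (e b).2 ha)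
  refine ⟨(e.trans (Function.Embedding.subtype _)).trans x.toEmbedding, le_trans ?_ hx⟩
  rintro _ ⟨r, hr, rfl⟩
  refine ⟨_, ⟨r, hr, rfl⟩, Equiv.ext fun a => ?_⟩
  obtain ⟨a, rfl⟩ := x.surjective a
  simp only [MulEquiv.toMonoidHom_eq_coe, MonoidHom.coe_coe, MulAut.conj_apply, Perm.mul_apply,
    Perm.coe_inv, Equiv.symm_apply_apply, Perm.viaEmbeddingHom_apply]
  by_cases ha : a ∈ Set.range (e.trans (Function.Embedding.subtype _))
  · obtain ⟨b, rfl⟩ := ha
    rw [Perm.viaEmbedding_apply]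
    exact (Perm.viaEmbedding_apply r
      ((e.trans (Function.Embedding.subtype _)).trans x.toEmbedding) b).symm
  · rw [Perm.viaEmbedding_apply_of_notMem _ _ _ ha, Perm.viaEmbedding_apply_of_notMem]
    rintro ⟨b, hb⟩
    exact ha ⟨b, x.injective hb⟩

end H19.Sn
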