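import Cfsg.Agent.H19.Sn7
import Cfsg.Agent.H9.Basic

/-! Blocks of symmetric groups: defect groups and heights. -/

open H17 Cfsg
open scoped ComplexConjugate MonoidAlgebra
namespace H19.Sn
open Finset Equiv Function Subgroup
open H20 (br sc cent nrm bil vd emin)
open H10 (IsSylowIn)
open Nat (factorial)

variable {ι : Type*} [Fintype ι] [DecidableEq ι] {α : Type*} [Fintype α] [DecidableEq α]
  {p : ℕ} [hp : Fact p.Prime] {O : ValuationSubring ℂ} [CharP (kk O) p]

section Grp

omit hp in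
theorem card_le_of_sectional {G Γ : Type*} [Group G] [Group Γ] {D : Subgroup G} {s : ℕ}
    (hs : SectionalPRankLE p s D) (f : Γ →* G) (hf : Injective f) (hD : ∀ x, f x ∈ D)
    (hc : ∀ x y : Γ, x * y = y * x) (he : ∀ x : Γ, x ^ p = 1) : Nat.card Γ ≤ p ^ s := by
  let g : Γ →* (⊤ : Subgroup D) ⧸ (⊥ : Subgroup (⊤ : Subgroup D)) :=
    (QuotientGroup.mk' ⊥).comp (topEquiv.symm.toMonoidHom.comp (f.codRestrict D hD))
  have hg : Injective g := by
    rw [injective_iff_map_eq_one]
    intro x hx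
    have : topEquiv.symm (f.codRestrict D hD x) = 1 := by
      simpa [g, QuotientGroup.eq_one_iff] using hx
    rw [EmbeddingLike.map_eq_one_iff] at this
    exact hf (by simpa using congrArg Subtype.val this)
  rw [Nat.card_congr (MonoidHom.ofInjective hg).toEquiv]
  refine hs ⊤ ⊥ g.range ⟨⟨?_⟩⟩ ?_
  · rintro ⟨_, x, rfl⟩ ⟨_, y, rfl⟩
    exact Subtype.ext (show g x * g y = g y * g x by rw [← map_mul, ← map_mul, hc x y])
  · rintro _ ⟨x, rfl⟩
    rw [← map_pow, he, map_one]

/-- a product of groups acting on a disjoint union -/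
def piHom (J : Type*) {Λ β : Type*} [Group Λ] (φ : Λ →* Perm β) : (J → Λ) →* Perm (J × β) where
  toFun γ := Equiv.prodCongrRight fun i => φ (γ i)
  map_one' := by ext ⟨i, x⟩ <;> simp
  map_mul' γ γ' := by ext ⟨i, x⟩ <;> simp

theorem piHom_apply {J Λ β : Type*} [Group Λ] (φ : Λ →* Perm β) (γ : J → Λ) (i : J) (x : β) :
    piHom J φ γ (i, x) = (i, φ (γ i) x) := rfl

theorem piHom_injective {J Λ β : Type*} [Group Λ] {φ : Λ →* Perm β} (h : Injective φ) :
    Injective (piHom J φ) := fun γ γ' he => funext fun i => h (Equiv.ext fun x => by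
  simpa [piHom_apply] using congrArg (fun σ : Perm (J × β) => (σ (i, x)).2) he)

theorem sign_piHom {J Λ β : Type*} [Group Λ] [Fintype J] [DecidableEq J] [Fintype β] [DecidableEq β]
    (φ : Λ →* Perm β) (γ : J → Λ) : Perm.sign (piHom J φ γ) = ∏ i, Perm.sign (φ (γ i)) := by
  convert Perm.sign_prodCongrRight fun i => φ (γ i)
  rfl

omit [Fintype α] [DecidableEq α] in
theorem fix_iff_of_mem {z σ : Perm α} (h : σ ∈ centralizer ({z} : Set (Perm α))) (x : α) :
    z (σ x) = σ x ↔ z x = x := by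
  rw [← Perm.mul_apply, ← mem_centralizer_singleton_iff.1 h, Perm.mul_apply, σ.injective.eq_iff]

/-- restriction to the fixed points of `z` -/
def rs (z : Perm α) : centralizer ({z} : Set (Perm α)) →* Perm α :=
  (Perm.ofSubtype (p := fun x => z x = x)).comp
    { toFun := fun σ => Perm.subtypePerm σ.1 (fix_iff_of_mem σ.2)
      map_one' := rfl
      map_mul' := fun _ _ => rfl }

omit [Fintype α] in
theorem rs_apply (z : Perm α) (σ : centralizer ({z} : Set (Perm α))) (x : α) :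
    rs z σ x = if z x = x then σ.1 x else x := by
  split_ifs with h
  · exact Perm.ofSubtype_subtypePerm_of_mem (fix_iff_of_mem σ.2) h
  · exact Perm.ofSubtype_subtypePerm_of_not_mem (fix_iff_of_mem σ.2) h

omit [Fintype α] in
theorem conj_rs (z : Perm α) (τ σ : centralizer ({z} : Set (Perm α))) :
    τ.1 * rs z σ * τ.1⁻¹ = rs z (τ * σ * τ⁻¹) := by
  ext x
  obtain ⟨x, rfl⟩ := τ.1.surjective x
  simp only [Perm.mul_apply, rs_apply, fix_iff_of_mem τ.2, Perm.coe_inv, symm_apply_apply,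
    Subgroup.coe_mul, Subgroup.coe_inv]
  split_ifs <;> rfl

theorem exists_full_support {D : Subgroup (Perm α)} {g : Perm α}
    (hD : IsSylowIn p D (centralizer ({g} : Set (Perm α)))) :
    ∃ z ∈ D, ∀ d ∈ D, ∀ x, z x = x → d x = x := by
  classical
  obtain ⟨z, hz, hmax⟩ := Finset.exists_max_image (univ.filter fun z => z ∈ D ⊓ cent D)
    (fun z : Perm α => z.support.card) ⟨1, by simp⟩
  simp only [mem_filter, mem_univ, true_and, Subgroup.mem_inf] at hz hmax
  refine ⟨z, hz.1, fun d hd a ha => ?_⟩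
  by_contra hda
  have hDz : D ≤ centralizer {z} := fun x hx =>
    mem_centralizer_singleton_iff.2 (mem_centralizer_iff.1 hz.2 x hx)
  obtain ⟨R, hR, hmem⟩ : ∃ R : Subgroup (Perm α), IsPGroup p R ∧
      ∀ e, e ∈ R ↔ ∃ σ : centralizer ({z} : Set (Perm α)), σ.1 ∈ D ∧ rs z σ = e :=
    ⟨(D.subgroupOf (centralizer {z})).map (rs z), (hD.isPGroup.comap_subtype).map _,
      fun _ => Iff.rfl⟩
  have hDR : D ≤ nrm R := by
    have key : ∀ k ∈ D, ∀ e ∈ R, k * e * k⁻¹ ∈ R := by
      intro k hk e he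
      obtain ⟨σ, hσ, rfl⟩ := (hmem e).1 he
      exact (hmem _).2 ⟨_, mul_mem (mul_mem hk hσ) (inv_mem hk), (conj_rs z ⟨k, hDz hk⟩ σ).symm⟩
    intro k hk
    refine mem_normalizer_iff.2 fun e => ⟨key k hk e, fun h => ?_⟩
    simpa [mul_assoc] using key k⁻¹ (inv_mem hk) _ h
  have hRg : R ≤ centralizer {g} := by
    intro e he
    obtain ⟨σ, hσ, rfl⟩ := (hmem e).1 he
    have hg : g ∈ centralizer ({z} : Set (Perm α)) :=
      mem_centralizer_singleton_iff.2 (mem_centralizer_singleton_iff.1 (hD.le hz.1)).symm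
    have h1 := conj_rs z ⟨g, hg⟩ σ
    have h2 : (⟨g, hg⟩ * σ * ⟨g, hg⟩⁻¹ : centralizer ({z} : Set (Perm α))) = σ := Subtype.ext (by
      simp only [Subgroup.coe_mul, Subgroup.coe_inv]
      rw [← mem_centralizer_singleton_iff.1 (hD.le hσ), mul_inv_cancel_right])
    rw [h2, mul_inv_eq_iff_eq_mul] at h1
    exact mem_centralizer_singleton_iff.2 h1.symm
  have hRD : R ≤ D := le_sup_right.trans (hD.2.2 _ (hD.isPGroup.to_sup_of_normal_right' hR hDR)
    le_sup_left (sup_le hD.le hRg)).le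
  have hn : (R.subgroupOf D).Normal := (normal_subgroupOf_iff_le_normalizer hRD).2 hDR
  obtain ⟨t, ht, htc, hto⟩ := H9.exists_mem_center_orderOf_eq hD.isPGroup (M := R.subgroupOf D) (by
    intro h
    have h0 : rs z ⟨d, hDz hd⟩ ∈ R := (hmem _).2 ⟨_, hd, rfl⟩
    have : (⟨rs z ⟨d, hDz hd⟩, hRD h0⟩ : D) ∈ R.subgroupOf D := h0
    rw [h, mem_bot, Subtype.ext_iff] at this
    have := congrArg (fun σ : Perm α => σ a) this
    simp only [rs_apply, if_pos ha] at this
    exact hda this)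
  have hdis : Perm.Disjoint z t := fun x => by
    obtain ⟨σ, -, hσ⟩ := (hmem (t : Perm α)).1 ht
    by_cases h : z x = x
    · exact Or.inl h
    · exact Or.inr (by rw [← hσ, rs_apply, if_neg h])
  have h1 := hmax (z * t) ⟨mul_mem hz.1 t.2, mul_mem hz.2 (mem_centralizer_iff.2 fun x hx =>
    congrArg Subtype.val (mem_center_iff.1 htc ⟨x, hx⟩))⟩
  rw [hdis.card_support_mul] at h1
  have h2 : (t : Perm α).support.card = 0 := by omega
  rw [Finset.card_eq_zero, Perm.support_eq_empty_iff, OneMemClass.coe_eq_one] at h2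
  rw [h2, orderOf_one] at hto
  exact hp.out.ne_one hto.symm

end Grp

theorem exists_irr_ne_zero_of_mem {G : Type*} [Group G] [Finite G] {B : Blk O G} {D : Subgroup G}
    (hD : IsDef p B D) {x : G} (hx : x ∈ D) : ∃ χ ∈ irr B, (χ : G → ℂ) x ≠ 0 := by
  classical
  have h1 := isPElt_of_mem hD.isPGroup hx
  obtain ⟨b, hb⟩ := (exists_induces_centralizer_iff h1).2
    ((hD.br_ne_zero_iff h1.isPGroup_zpowers).2 ⟨1, by rw [H20.sc_one]; exact zpowers_le.2 hx⟩)
  have h2 := Kr_shift h1 B (y := 1) (z := 1) preg_one preg_one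
  by_contra hne
  push Not at hne
  rw [Kr_eq, Kr_self, Finset.sum_eq_zero (fun χ hχ => by
    simp [hne χ (mem_filter.1 hχ).2]), eq_comm, Complex.ofReal_eq_zero,
    Finset.sum_eq_zero_iff_of_nonneg (fun _ _ => by positivity)] at h2
  obtain ⟨ψ, rfl⟩ := lam_surjective b
  simpa [ψ.2.one_ne_zero] using h2 ψ (by simpa using hb)

variable {B : Blk O (Perm α)} {γ : ι → ℕ} {w : ℕ} (hN : 2 * Fintype.card α ≤ Fintype.card ι)
include hN

omit [CharP (kk O) p] in
theorem HasCore.sum_le (h : HasCore p B γ w) {χ : IrrCharacter (Perm α)} (hχ : χ ∈ irr B)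
    {σ : Perm α} (h0 : (χ : Perm α → ℂ) σ ≠ 0) {ρ : Multiset ℕ} (hρ : ρ ≤ σ.partition.parts)
    (hd : ∀ k ∈ ρ, p ∣ k) : ρ.sum ≤ p * w := by
  obtain ⟨β, hβ, hc⟩ := h.exists_lab hN hχ
  obtain ⟨ρ', hρ'⟩ := Multiset.le_iff_exists_add.1 hρ
  rw [hβ.ne_zero_iff, hρ', X_add] at h0
  have := sum_le_of_Um_ne_zero hp.out.pos (anti_X _) _ hd h0
  rw [hc, hβ.2.1, h.2.1] at this
  omega

theorem HasCore.card_support_le (h : HasCore p B γ w) {D : Subgroup (Perm α)} (hD : IsDef p B D)
    {z : Perm α} (hz : z ∈ D) : z.support.card ≤ p * w := by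
  obtain ⟨χ, hχ, h0⟩ := exists_irr_ne_zero_of_mem hD hz
  rw [← Perm.sum_cycleType]
  refine h.sum_le hN hχ h0 (Multiset.le_add_right _ _) fun k hk => ?_
  obtain ⟨j, hj⟩ := isPElt_of_mem hD.isPGroup hz
  obtain ⟨i, -, rfl⟩ := (Nat.dvd_prime_pow hp.out).1 (hj ▸ Perm.dvd_of_mem_cycleType hk)
  refine dvd_pow_self p ?_
  rintro rfl
  simpa using Perm.two_le_of_mem_cycleType hk

theorem HasCore.card_dvd (h : HasCore p B γ w) {D : Subgroup (Perm α)} (hD : IsDef p B D) :
    Nat.card D ∣ factorial (p * w) := by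
  obtain ⟨g, -, hg⟩ := isDef_iff_sylow.1 hD
  obtain ⟨z, hz, h1⟩ := exists_full_support hg
  have h2 : D ≤ (Perm.ofSubtype : Perm {x // x ∈ z.support} →* Perm α).range := fun d hd =>
    Perm.mem_range_ofSubtype_iff.2 fun x hx => by
      simp only [Set.mem_ofPred_eq, Finset.mem_coe, Perm.mem_support] at hx ⊢
      exact fun h => hx (h1 d hd x h)
  refine (card_dvd_of_le h2).trans ((card_range_dvd _).trans ?_)
  rw [Nat.card_perm, Nat.card_eq_fintype_card, Fintype.card_coe]
  exact Nat.factorial_dvd_factorial (h.card_support_le hN hD hz)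

/-- the defect groups are the Sylow subgroups of a symmetric group on `p w` points -/
theorem HasCore.defect_eq (h : HasCore p B γ w) {D : Subgroup (Perm α)} (hD : IsDef p B D)
    {Ω : Type*} [Fintype Ω] (hΩ : Fintype.card Ω = p * w) (P : Sylow p (Perm Ω)) :
    ∃ e : Ω ↪ α, D = (P : Subgroup (Perm Ω)).map (Perm.viaEmbeddingHom e) := by
  obtain ⟨e, he⟩ := h.exists_embedding hN hD hΩ.le P.isPGroup'
  refine ⟨e, (eq_of_le_of_card_ge he ?_).symm⟩
  rw [card_map_of_injective (Perm.viaEmbeddingHom_injective e), P.card_eq_multiplicity,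
    Nat.card_perm, Nat.card_eq_fintype_card (α := Ω), hΩ]
  obtain ⟨k, hk⟩ := hD.isPGroup.exists_card_eq
  have := h.card_dvd hN hD
  rw [hk] at this ⊢
  exact Nat.pow_le_pow_right hp.out.pos
    ((hp.out.pow_dvd_iff_le_factorization (Nat.factorial_ne_zero _)).1 this)

theorem HasCore.blockDefect_eq (h : HasCore p B γ w) :
    blockDefect p (irr B) = (factorial w).factorization p + w := by
  obtain ⟨D, hD⟩ := exists_isDef p B
  obtain ⟨e, he⟩ := h.defect_eq hN hD (Fintype.card_fin _) default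
  have h1 := (isDef_iff_H20.1 hD).card_eq_pow
  rw [he, card_map_of_injective (Perm.viaEmbeddingHom_injective e), Sylow.card_eq_multiplicity,
    Nat.card_perm, Nat.card_eq_fintype_card, Fintype.card_fin,
    Nat.factorization_factorial_mul hp.out] at h1
  exact (Nat.pow_right_injective hp.out.two_le h1).symm

end H19.Sn
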