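import Cfsg.Agent.H19.Sn8

/-! Counting hook removals on the abacus. -/

open H17 Cfsg
namespace H19.Sn
open Finset Equiv Function
open Nat (factorial)

variable {ι : Type*} [Fintype ι] [DecidableEq ι] {p : ℕ}

/-- `i` is the top bead of its runner -/
def Top (p : ℕ) (γ : ι → ℕ) (i : ι) : Prop := ∀ j, γ j % p = γ i % p → γ j ≤ γ i

/-- move the beads up along their runners -/
def mv (p : ℕ) (γ a : ι → ℕ) : ι → ℕ := fun i => γ i + p * a i

omit [Fintype ι] [DecidableEq ι] in
theorem mv_mod (γ a : ι → ℕ) (i : ι) : mv p γ a i % p = γ i % p := by simp [mv]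

omit [DecidableEq ι] in
theorem res_mv (γ a : ι → ℕ) : res p (mv p γ a) = res p γ := res_congr (mv_mod γ a)

omit [DecidableEq ι] in
theorem sum_mv (γ a : ι → ℕ) : ∑ i, mv p γ a i = ∑ i, γ i + p * ∑ i, a i := by
  simp [mv, Finset.sum_add_distrib, Finset.mul_sum]

omit [Fintype ι] in
theorem mv_sub (γ : ι → ℕ) {a : ι → ℕ} {i : ι} {k : ℕ} (h : k ≤ a i) :
    mv p γ a - Pi.single i (p * k) = mv p γ (a - Pi.single i k) := by
  funext j
  by_cases hj : j = i
  · subst hj
    obtain ⟨t, ht⟩ := Nat.exists_eq_add_of_le h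
    simp only [sub_single_self, mv, ht, Nat.mul_add, Nat.add_sub_cancel_left]; omega
  · simp only [sub_single_ne _ hj, mv]

omit [Fintype ι] [DecidableEq ι] in
theorem inj_mv {γ a : ι → ℕ} (hγ : Injective γ) (ha : ∀ i, a i ≠ 0 → Top p γ i) :
    Injective (mv p γ a) := by
  have key : ∀ i j, mv p γ a i = mv p γ a j → ¬ γ i < γ j := by
    intro i j h hlt
    have hm : γ j % p = γ i % p := by rw [← mv_mod γ a, ← h, mv_mod]
    have h0 : a i = 0 := by by_contra h0; exact absurd (ha i h0 j hm) (by omega)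
    simp only [mv, h0] at h; omega
  intro i j h
  exact hγ (le_antisymm (not_lt.1 (key j i h.symm)) (not_lt.1 (key i j h)))

omit [Fintype ι] in
theorem not_inj_mv (hp : 0 < p) {γ a : ι → ℕ} (hγ : Rest p γ) (ha : ∀ i, a i ≠ 0 → Top p γ i)
    {i : ι} {k : ℕ} (hk : a i < k) (h : p * k ≤ mv p γ a i) :
    ¬ Injective (mv p γ a - Pi.single i (p * k) : ι → ℕ) := by
  intro hinj
  obtain ⟨t, rfl⟩ := Nat.exists_eq_add_of_lt hk
  simp only [mv, Nat.mul_add, add_assoc] at h
  obtain ⟨j, hj⟩ := hγ.down (t + 1) i (by rw [Nat.mul_add]; omega)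
  have hpos : 0 < p * (t + 1) := Nat.mul_pos hp (Nat.succ_pos _)
  have hji : j ≠ i := by rintro rfl; omega
  have h0 : a j = 0 := by
    by_contra h0
    exact absurd (ha j h0 i (by rw [← hj]; simp)) (by omega)
  refine hji (hinj ?_)
  rw [sub_single_self, sub_single_ne _ hji]
  simp only [mv, h0, Nat.mul_add] at hj ⊢
  omega

omit [Fintype ι] in
theorem top_sub {γ a : ι → ℕ} (ha : ∀ i, a i ≠ 0 → Top p γ i) (i : ι) (k : ℕ) :
    ∀ j, (a - Pi.single i k : ι → ℕ) j ≠ 0 → Top p γ j := fun j h =>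
  ha j fun h0 => h (by simp [h0])

theorem cnt_top (hp : 0 < p) {γ : ι → ℕ} (hγ : Rest p γ) (w : ℕ) {a : ι → ℕ}
    (ha : ∀ i, a i ≠ 0 → Top p γ i) (hw : ∑ i, a i = w) :
    core p (mv p γ a) = γ ∧ cnt p w (mv p γ a) * ∏ i, factorial (a i) = factorial w := by
  classical
  induction w generalizing a with
  | zero =>
    have : a = 0 := funext fun i => by simpa using (Finset.sum_eq_zero_iff.1 hw) i (mem_univ i)
    subst this
    have : mv p γ 0 = γ := funext fun i => by simp [mv]
    simp [this, hγ.core_eq hp, cnt]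
  | succ w ih =>
    have key : ∀ i, a i ≠ 0 → p ≤ mv p γ a i ∧
        mv p γ a - Pi.single i p = mv p γ (a - Pi.single i 1) ∧
        ∑ j, (a - Pi.single i 1 : ι → ℕ) j = w := by
      intro i hi
      have h1 : 1 ≤ a i := Nat.one_le_iff_ne_zero.2 hi
      refine ⟨?_, by simpa using mv_sub (p := p) γ h1, by have := sum_sub_single h1; omega⟩
      have := Nat.mul_le_mul_left p h1
      simp only [mv]; omega
    constructor
    · obtain ⟨i, -, hi⟩ := Finset.exists_ne_zero_of_sum_ne_zero (s := univ) (f := a)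
        (by rw [hw]; exact Nat.succ_ne_zero w)
      obtain ⟨h1, h2, h3⟩ := key i hi
      rw [← core_move (inj_mv hγ.1 ha) h1 (h2 ▸ inj_mv hγ.1 (top_sub ha i 1)), h2,
        (ih (top_sub ha i 1) h3).1]
    · rw [cnt, Finset.sum_mul, Nat.factorial_succ, ← hw, Finset.sum_mul]
      refine Finset.sum_congr rfl fun i _ => ?_
      by_cases hi : a i = 0
      · rw [if_neg, hi, zero_mul, zero_mul]
        exact fun h => not_inj_mv hp hγ ha (i := i) (k := 1) (by omega) (by simpa using h.1)
          (by simpa using h.2)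
      · obtain ⟨h1, h2, h3⟩ := key i hi
        have h4 : ∏ j ∈ univ.erase i, factorial ((a - Pi.single i 1 : ι → ℕ) j) =
            ∏ j ∈ univ.erase i, factorial (a j) :=
          Finset.prod_congr rfl fun j hj => by rw [sub_single_ne _ (Finset.ne_of_mem_erase hj)]
        have h5 := (ih (top_sub ha i 1) h3).2
        rw [← Finset.mul_prod_erase _ _ (mem_univ i), h4, sub_single_self] at h5
        rw [if_pos ⟨h1, h2 ▸ inj_mv hγ.1 (top_sub ha i 1)⟩, h2, ← h5,
          ← Finset.mul_prod_erase _ _ (mem_univ i), ← Nat.mul_factorial_pred hi]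
        ring

theorem top_value (hp : 0 < p) {γ : ι → ℕ} (hγ : Rest p γ) {a : ι → ℕ}
    (ha : ∀ i, a i ≠ 0 → Top p γ i) {k v : ℕ} (hw : ∑ i, a i = k + v) {i : ι} (hi : k ≤ a i) :
    ∃ c : ℕ, 0 < c ∧ ∀ f : Fn ι, Anti f →
      Um (p * k ::ₘ Multiset.replicate v p) f (mv p γ a) = c * f γ := by
  have key : ∀ j, k ≤ a j → ∀ f : Fn ι, Anti f →
      Um (Multiset.replicate v p) f (mv p γ (a - Pi.single j k)) =
        cnt p v (mv p γ (a - Pi.single j k)) * f γ ∧ 0 < cnt p v (mv p γ (a - Pi.single j k)) := by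
    intro j hj f hf
    have h1 : ∑ x, (a - Pi.single j k : ι → ℕ) x = v := by have := sum_sub_single hj; omega
    have h2 := (cnt_top hp hγ v (top_sub ha j k) h1).1
    have := Um_replicate hp hf v (inj_mv hγ.1 (top_sub ha j k)) (by rw [h2, sum_mv, h1])
    rwa [h2] at this
  refine ⟨∑ j, if k ≤ a j then cnt p v (mv p γ (a - Pi.single j k)) else 0, ?_, fun f hf => ?_⟩
  · refine lt_of_lt_of_le ?_ (Finset.single_le_sum (fun _ _ => Nat.zero_le _) (mem_univ i))
    rw [if_pos hi]; exact (key i hi 0 anti_zero).2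
  · rw [Um_cons, U_apply, Nat.cast_sum, Finset.sum_mul]
    refine Finset.sum_congr rfl fun j _ => ?_
    by_cases hj : k ≤ a j
    · rw [if_pos hj, if_pos, mv_sub γ hj, (key j hj f hf).1]
      have := Nat.mul_le_mul_left p hj
      simp only [mv]; omega
    · rw [if_neg hj]
      split_ifs with h
      · rw [(hf.Um _).zero_of (not_inj_mv hp hγ ha (not_le.1 hj) h)]; simp
      · simp

omit [DecidableEq ι] in
theorem exists_top {β : ι → ℕ} (γ : ι → ℕ) (hr : res p β = res p γ) (i : ι) :
    ∃ j, Top p γ j ∧ γ j % p = β i % p := by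
  have h1 : 0 < res p γ (β i % p) := by
    rw [← hr]; exact Finset.card_pos.2 ⟨i, by simp⟩
  obtain ⟨j, hj, hmax⟩ := Finset.exists_max_image _ γ (Finset.card_pos.1 h1)
  simp only [mem_filter, mem_univ, true_and] at hj hmax
  exact ⟨j, fun l hl => hmax l (hl.trans hj), hj⟩

/-- the quotient `(w - 1, 1)` on one runner -/
theorem cnt_two (hp : 0 < p) {γ : ι → ℕ} (hγ : Rest p γ) {i j : ι} (hi : Top p γ i)
    (hj : γ j + p = γ i) (v : ℕ) :
    Injective (mv p γ (Pi.single i (v + 1) + Pi.single j 1)) ∧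
    core p (mv p γ (Pi.single i (v + 1) + Pi.single j 1)) = γ ∧
    cnt p (v + 2) (mv p γ (Pi.single i (v + 1) + Pi.single j 1)) = v + 1 := by
  classical
  have hji : j ≠ i := by rintro rfl; omega
  have htop : ∀ v l, (Pi.single i v : ι → ℕ) l ≠ 0 → Top p γ l := fun v l h => by
    by_cases hl : l = i
    · rwa [hl]
    · simp [Pi.single_eq_of_ne hl] at h
  have e1 : ∀ v, mv p γ (Pi.single i v + Pi.single j 1) i = γ i + p * v := fun v => by
    simp [mv, Pi.single_eq_of_ne hji.symm]
  have e2 : ∀ v, mv p γ (Pi.single i v + Pi.single j 1) j = γ i := fun v => by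
    simp [mv, Pi.single_eq_of_ne hji, hj]
  have e3 : ∀ v l, l ≠ i → l ≠ j → mv p γ (Pi.single i v + Pi.single j 1) l = γ l := fun v l h h' => by
    simp [mv, Pi.single_eq_of_ne h, Pi.single_eq_of_ne h']
  have hinj : ∀ v, Injective (mv p γ (Pi.single i (v + 1) + Pi.single j 1)) := by
    intro v x y hxy
    have hm : γ x % p = γ y % p := by rw [← mv_mod γ _ x, hxy, mv_mod]
    have hpos : 0 < p * (v + 1) := Nat.mul_pos hp (Nat.succ_pos _)
    have h1 : ∀ l, l ≠ i → γ l % p = γ i % p → γ l < γ i := fun l h h' =>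
      lt_of_le_of_ne (hi l h') fun h'' => h (hγ.1 h'')
    have h2 : γ j % p = γ i % p := by rw [← hj]; simp
    by_cases hx : x = i <;> by_cases hy : y = i
    · rw [hx, hy]
    · subst hx
      by_cases hy' : y = j
      · subst hy'; rw [e1, e2] at hxy; omega
      · rw [e1, e3 _ _ hy hy'] at hxy; have := h1 y hy hm.symm; omega
    · subst hy
      by_cases hx' : x = j
      · subst hx'; rw [e1, e2] at hxy; omega
      · rw [e1, e3 _ _ hx hx'] at hxy; have := h1 x hx hm; omega
    · by_cases hx' : x = j <;> by_cases hy' : y = j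
      · rw [hx', hy']
      · subst hx'; rw [e2, e3 _ _ hy hy'] at hxy; exact absurd (hγ.1 hxy.symm) hy
      · subst hy'; rw [e2, e3 _ _ hx hx'] at hxy; exact absurd (hγ.1 hxy) hx
      · rw [e3 _ _ hx hx', e3 _ _ hy hy'] at hxy; exact hγ.1 hxy
  have m1 : ∀ v, mv p γ (Pi.single i v + Pi.single j 1) - Pi.single j p = mv p γ (Pi.single i v) := by
    intro v
    have := mv_sub (p := p) γ (a := Pi.single i v + Pi.single j 1) (i := j) (k := 1) (by simp)
    rw [mul_one] at this
    rw [this]; congr 1; funext l; simp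
  have m2 : ∀ v, mv p γ (Pi.single i (v + 1) + Pi.single j 1) - Pi.single i p =
      mv p γ (Pi.single i v + Pi.single j 1) := by
    intro v
    have := mv_sub (p := p) γ (a := Pi.single i (v + 1) + Pi.single j 1) (i := i) (k := 1)
      (by simp only [Pi.add_apply, Pi.single_eq_same]; omega)
    rw [mul_one] at this
    rw [this]; congr 1; funext l
    by_cases hl : l = i
    · subst hl; simp [Pi.single_eq_of_ne hji.symm]
    · simp [Pi.single_eq_of_ne hl]
  have c1 : ∀ v, cnt p v (mv p γ (Pi.single i v)) = 1 := fun v => by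
    have := (cnt_top hp hγ v (htop v) (by simp)).2
    rw [Finset.prod_eq_single i (fun l _ hl => by simp [Pi.single_eq_of_ne hl]) (by simp),
      Pi.single_eq_same] at this
    exact Nat.eq_of_mul_eq_mul_right (Nat.factorial_pos v) (by rw [this, one_mul])
  refine ⟨hinj v, ?_, ?_⟩
  · rw [← core_move (hinj v) (i := j) (by rw [e2]; omega) (m1 _ ▸ inj_mv hγ.1 (htop _)), m1,
      (cnt_top hp hγ _ (htop _) rfl).1]
  have step : ∀ v, cnt p (v + 2) (mv p γ (Pi.single i (v + 1) + Pi.single j 1)) =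
      (if Injective (mv p γ (Pi.single i v + Pi.single j 1)) then
        cnt p (v + 1) (mv p γ (Pi.single i v + Pi.single j 1)) else 0) + 1 := by
    intro v
    rw [cnt, Finset.sum_eq_add i j hji.symm]
    · rw [m1, m2, c1, if_pos (c := _ ∧ Injective (mv p γ (Pi.single i (v + 1))))
        ⟨by rw [e2]; omega, inj_mv hγ.1 (htop _)⟩]
      have : p ≤ mv p γ (Pi.single i (v + 1) + Pi.single j 1) i := by rw [e1]; omega
      simp only [this, true_and]
    · intro l _ hl
      rw [if_neg]
      rintro ⟨h1, h2⟩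
      rw [e3 _ _ hl.1 hl.2] at h1
      obtain ⟨l', hl'⟩ := hγ.2 l h1
      have h3 : l' ≠ l := by rintro rfl; omega
      have h4 : l' ≠ i := by
        rintro rfl
        exact absurd (hi l (by rw [← hl']; simp)) (by omega)
      have h5 : l' ≠ j := by
        rintro rfl
        exact hl.1 (hγ.1 (by omega))
      exact h3 (h2 (by
        rw [sub_single_self, sub_single_ne _ h3, e3 _ _ hl.1 hl.2, e3 _ _ h4 h5]; omega))
    · simp
    · simp
  induction v with
  | zero =>
    rw [step, if_neg]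
    intro h
    exact hji (h (by rw [e1, e2]; simp))
  | succ v ih => rw [step, if_pos (hinj v), ih]

theorem cnt_one_dvd {b : ι → ℕ} (hb : Injective b) {v : ℕ} (hv : ∑ i, b i = M0 ι + v)
    (hN : 2 * v ≤ Fintype.card ι) : cnt 1 v b ∣ factorial v := by
  obtain ⟨χ, -, -, e, he, h⟩ := exists_irr_lab (α := Fin v) (by simpa using hN) hb (by simpa using hv)
  have h1 : ∑ i, core 1 b i = M0 ι :=
    (rest_dl 1).sum_eq one_pos (core_spec one_pos hb).1 (res_one _ _)
  have h2 := (Um_replicate one_pos anti_vac v hb (by omega)).1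
  obtain ⟨s, hs⟩ := exists_perm_dl (core_spec one_pos hb).1.1 h1.le
  have h3 := h 1
  rw [ch, Perm.parts_partition, Perm.cycleType_one, Perm.support_one, zero_add, Finset.card_empty,
    Fintype.card_fin, Nat.sub_zero, X, h2, hs, anti_vac, vac_dl, mul_one] at h3
  obtain ⟨d, hd, h4⟩ := χ.2.exists_pos_one
  have h5 : d ∣ Nat.card (Perm (Fin v)) := χ.2.degree_dvd_card h4
  rw [Nat.card_perm, Nat.card_eq_fintype_card, Fintype.card_fin] at h5
  have h6 : d = cnt 1 v b := by
    have := congrArg (‖·‖) (h4.symm.trans h3)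
    rcases he with rfl | rfl <;> rcases sg_eq s with h | h <;> simpa [h] using this
  exact h6 ▸ h5

end H19.Sn
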